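import Cfsg.Agent.Lib.AlmostCyclic.EndgameArith
import Mathlib.Algebra.Ring.Parity
import Mathlib.RingTheory.Int.Basic

/-!
# The one solution of the order formula under cyclic odd Sylow subgroups

`survivor` restates `endgame_arith` with natural numbers for the index and the cofactor.
-/

set_option autoImplicit false

namespace CfsgLib.AlmostCyclic

theorem survivor {p i κ : ℕ} (hp : p.Prime) {Q X : ℤ} (hQ : Q.natAbs = p) (hp3 : 3 ≤ p)
    (hQ4 : Q % 4 = 3) (hX4 : X % 4 = 3) (hXQ : X ≠ Q) (hi : Odd i) (hκ : κ ≠ 0) (hpi : ¬ p ∣ i)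
    (hcop : ∀ r : ℕ, r.Prime → r ≠ 2 → r ∣ (Q + 1).natAbs → ¬ r ∣ i)
    (hdiv : (Q ^ 2 - X) ∣ X * (X - 1))
    (heq : (i : ℤ) * (X - Q) ^ 2 = Q * (Q + 1) ^ 2 * (κ : ℤ) ^ 2 * (Q - 1) * X * (X - 1)) :
    Q = -5 ∧ X = 35 ∧ i = 357 * κ ^ 2 := by
  have hi2 : i % 2 = 1 := Nat.odd_iff.1 hi
  have hQp : Prime Q := Int.prime_iff_natAbs_prime.2 (hQ ▸ hp)
  have hpi' : ¬ Q ∣ (i : ℤ) := fun hd => hpi (by
    rw [← hQ]; exact Int.natAbs_dvd_natAbs.2 hd)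
  have hc : IsCoprime (i : ℤ) (Q + 1) := by
    rw [Int.isCoprime_iff_gcd_eq_one]
    show Nat.Coprime i (Q + 1).natAbs
    refine Nat.coprime_of_dvd fun r hr hri hrq => ?_
    rcases eq_or_ne r 2 with rfl | hr2
    · omega
    · exact hcop r hr hr2 hrq hri
  obtain ⟨hQ5, hX35, hi357⟩ := endgame_arith hQp (by omega) hQ4 hX4 (by omega) hXQ hdiv
    (Int.natCast_ne_zero.2 hκ) (by omega) hpi' hc heq
  exact ⟨hQ5, hX35, by exact_mod_cast hi357⟩

end CfsgLib.AlmostCyclic
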