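import Cfsg.Agent.Lib.GWDihedral.LTwoField
import Cfsg.Agent.Lib.Classical.SLBasic
import Cfsg.Agent.Lib.KnownA.PSLMultiplier
import Cfsg.Agent.Lib.GWKlein.Consumers.DoubleCover

/-!
# Automorphisms and perfect central covers of `PSL(2,p)`
-/

set_option autoImplicit false
set_option linter.unusedSectionVars false
set_option linter.style.haveILetI false

universe u

namespace CfsgLib.AlmostCyclic

open Subgroup CfsgLib.GWDihedral.LTwoAut CfsgLib.KnownC.AutPSL

variable (p : ℕ) [Fact p.Prime]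

local notation "PSLp" => Matrix.ProjectiveSpecialLinearGroup (Fin 2) (ZMod p)

theorem isSimpleGroup_psl (hp : 5 ≤ p) : IsSimpleGroup PSLp :=
  CfsgLib.Classical.psl_fin_isSimpleGroup le_rfl fun _ => by rw [ZMod.card]; omega

/-- The inner automorphisms of `PSL(2,p)` have index at most 2. -/
theorem index_inn_dvd_two (hp : 5 ≤ p) :
    (inn : Subgroup (MulAut PSLp)).index ∣ 2 := by
  have hodd : Odd (Fintype.card (ZMod p)) := by
    rw [ZMod.card]
    exact (Fact.out : p.Prime).odd_of_ne_two (by omega)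
  have hsa : ∀ α : MulAut PSLp, ∃ A, sa A = α := fun α => by
    obtain ⟨A, σ, rfl⟩ := exists_semi' α
    refine ⟨A, ?_⟩
    have hσ : σ = RingEquiv.refl (ZMod p) := RingEquiv.ext fun x => by
      rw [RingEquiv.refl_apply, ← ZMod.natCast_zmod_val x, map_natCast]
    rw [hσ]
    rfl
  by_cases hall : ∀ α : MulAut PSLp, α ∈ (inn : Subgroup (MulAut PSLp))
  · rw [(eq_top_iff' _).2 hall, index_top]
    exact one_dvd 2
  push Not at hall
  obtain ⟨β, hβ⟩ := hall
  refine dvd_of_eq (index_eq_two_iff.2 ⟨β, fun α => ?_⟩)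
  by_cases hα : α ∈ (inn : Subgroup (MulAut PSLp))
  · exact Or.inr ⟨hα, fun hm => hβ ((mul_mem_cancel_left hα).1 hm)⟩
  · refine Or.inl ⟨?_, hα⟩
    obtain ⟨A, rfl⟩ := hsa α
    obtain ⟨B, rfl⟩ := hsa β
    rw [← map_mul]
    exact mul_mem_inn hodd hα hβ

/-- A group containing `PSL(2,p)` as a self-centralising normal subgroup has it with index `∣ 2`. -/
theorem index_dvd_two_of_centralizer_eq_bot (hp : 5 ≤ p) {H : Type u} [Group H] [Finite H]
    (K : Subgroup H) [K.Normal] (e : ↥K ≃* PSLp) (hC : centralizer (K : Set H) = ⊥) :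
    K.index ∣ 2 := by
  haveI : (inn : Subgroup (MulAut PSLp)).Normal := ⟨by
    rintro _ ⟨g, rfl⟩ β
    exact ⟨β g, MulEquiv.ext fun x => by simp⟩⟩
  set ψ := (MulAut.congr e).toMonoidHom.comp (MulAut.conjNormal : H →* MulAut ↥K) with hψ
  have hval : ∀ (h : H) (x : PSLp), ψ h x = e (MulAut.conjNormal h (e.symm x)) := fun _ _ => rfl
  have hinner : ∀ (x : ↥K), ψ (x : H) = MulAut.conj (e x) := fun x => MulEquiv.ext fun y => by
    rw [hval, MulAut.conj_apply, show MulAut.conjNormal ((x : H)) (e.symm y) = x * e.symm y * x⁻¹ from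
      Subtype.ext (by simp), map_mul, map_mul, map_inv, e.apply_symm_apply]
  have heq : (inn : Subgroup (MulAut PSLp)).comap ψ = K := by
    refine le_antisymm (fun h hh => ?_) fun h hh => ⟨e ⟨h, hh⟩, (hinner ⟨h, hh⟩).symm⟩
    obtain ⟨g, hg⟩ := hh
    have h1 : ψ ((e.symm g : ↥K) : H) = ψ h := by
      rw [hinner, e.apply_symm_apply, hg]
    have h2 : ((e.symm g : ↥K) : H)⁻¹ * h ∈ centralizer (K : Set H) := by
      rw [mem_centralizer_iff]
      intro x hx
      have h3 : ψ (((e.symm g : ↥K) : H)⁻¹ * h) = 1 := by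
        rw [map_mul, map_inv, h1, inv_mul_cancel]
      have h4 := congrArg (fun a : MulAut PSLp => ((e.symm (a (e ⟨x, hx⟩)) : ↥K) : H)) h3
      simp only [hval, e.symm_apply_apply, MulAut.one_apply, MulAut.conjNormal_apply] at h4
      exact (mul_inv_eq_iff_eq_mul.1 h4).symm
    rw [hC, mem_bot, inv_mul_eq_one] at h2
    exact h2 ▸ (e.symm g).2
  rw [← heq, index_comap]
  exact (relIndex_dvd_index_of_normal _ _).trans (index_inn_dvd_two p hp)

/-- A perfect central extension of `PSL(2,p)` is `PSL(2,p)` or `SL(2,p)`. -/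
theorem psl_or_sl_of_cover (hp : 5 ≤ p) {L : Type u} [Group L] [Finite L]
    (hperf : commutator L = ⊤) (f : L →* PSLp) (hf : Function.Surjective f)
    (hc : f.ker ≤ center L) :
    Nat.card f.ker ∣ 2 ∧
      (Nonempty (L ≃* Matrix.ProjectiveSpecialLinearGroup (Fin 2) (ZMod p)) ∨
        Nonempty (L ≃* Matrix.SpecialLinearGroup (Fin 2) (ZMod p))) := by
  have hp' : Fintype.card (ZMod p) = p := ZMod.card p
  have hodd : p % 2 = 1 := Nat.odd_iff.1 ((Fact.out : p.Prime).odd_of_ne_two (by omega))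
  have h9 : p ≠ 9 := fun e => by
    have := (Fact.out : p.Prime); rw [e] at this; norm_num at this
  have hM := CfsgLib.KnownA.PSLMultiplier.hasCyclicSchurMultiplier_psl hp' 2 le_rfl
    (fun _ => ⟨by omega, by omega, h9⟩) (fun h => absurd h (by norm_num))
    (fun h => absurd h (by norm_num))
  rw [show Nat.gcd 2 (p - 1) = 2 from Nat.gcd_eq_left (by omega)] at hM
  haveI : Finite (Shrink.{0} L) := Finite.of_equiv L (equivShrink.{0} L)
  let φ : Shrink.{0} L ≃* L := Shrink.mulEquiv
  set σ := f.comp φ.toMonoidHom with hσ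
  have hperf' : commutator (Shrink.{0} L) = ⊤ := by
    apply Subgroup.map_injective (f := φ.toMonoidHom) φ.injective
    rw [_root_.commutator_def, map_commutator, map_top_of_surjective _ φ.surjective,
      ← _root_.commutator_def, hperf]
  obtain ⟨π, hπ⟩ := hM.2 (Shrink.{0} L) σ ⟨hf.comp φ.surjective, fun x hx => mem_center_iff.2
    fun y => φ.injective (by rw [map_mul, map_mul]; exact mem_center_iff.1 (hc hx) (φ y)),
    hperf'.symm ▸ le_top⟩
  have hcard : Nat.card f.ker = Nat.card σ.ker := by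
    rw [← card_map_of_injective (f := φ.toMonoidHom) φ.injective (K := σ.ker),
      show σ.ker = f.ker.comap φ.toMonoidHom from rfl, map_comap_eq_self_of_surjective φ.surjective]
  have hle : Nat.card f.ker ≤ 2 := by
    rw [hcard]
    refine (Nat.card_le_card_of_surjective π hπ).trans (le_of_eq ?_)
    rw [Nat.card_congr Multiplicative.toAdd, Nat.card_zmod]
  rcases Nat.lt_or_ge (Nat.card f.ker) 2 with h1 | h2
  · have h1' : Nat.card f.ker = 1 := by
      have := Nat.card_pos (α := f.ker)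
      omega
    exact ⟨h1' ▸ one_dvd 2, Or.inl ⟨MulEquiv.ofBijective f
      ⟨(f.ker_eq_bot_iff).1 (eq_bot_of_card_eq _ h1'), hf⟩⟩⟩
  · have h2' : Nat.card f.ker = 2 := le_antisymm hle h2
    obtain ⟨e⟩ := CfsgLib.GWKlein.Consumers.sl2_equiv_of_cover (by rw [ZMod.card]; exact hp)
      (by rw [ZMod.card]; exact Nat.odd_iff.2 hodd) hperf f hf hc h2'
    exact ⟨dvd_of_eq h2', Or.inr ⟨e.symm⟩⟩

end CfsgLib.AlmostCyclic
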