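import Mathlib

/-!
# Groups with cyclic odd Sylow subgroups and an almost cyclic Sylow 2-subgroup

`Hyp G`: the Sylow subgroups of odd order are cyclic and a Sylow 2-subgroup has a cyclic subgroup of
index at most two.  It passes to subgroups and quotients.  Also: a coprime action on a cyclic
`p`-group fixing an element of order `p` is trivial.
-/

set_option autoImplicit false
set_option linter.unusedSectionVars false
set_option linter.style.haveILetI false

namespace CfsgLib.AlmostCyclic

open Subgroup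

/-- A cyclic subgroup of index at most two. -/
def CyclicMax (T : Type*) [Group T] : Prop := ∃ C : Subgroup T, IsCyclic C ∧ C.index ∣ 2

/-- Cyclic odd Sylow subgroups, almost cyclic Sylow 2-subgroups. -/
structure Hyp (G : Type*) [Group G] : Prop where
  odd : ∀ p : ℕ, p.Prime → p ≠ 2 → ∀ P : Sylow p G, IsCyclic P
  two : ∀ S : Sylow 2 G, CyclicMax ↥(S : Subgroup G)

variable {G : Type*} [Group G]

theorem CyclicMax.normal {T : Type*} [Group T] {C : Subgroup T} (h : C.index ∣ 2) : C.Normal := by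
  rcases (Nat.dvd_prime Nat.prime_two).1 h with e | e
  · rw [index_eq_one.1 e]; infer_instance
  · exact normal_of_index_eq_two e

theorem CyclicMax.of_injective {T T' : Type*} [Group T] [Group T'] (f : T' →* T)
    (hf : Function.Injective f) (h : CyclicMax T) : CyclicMax T' := by
  obtain ⟨C, hC, hi⟩ := h
  haveI := hC
  haveI := CyclicMax.normal hi
  refine ⟨C.comap f, isCyclic_of_injective (f.subgroupComap C) fun x y e =>
    Subtype.ext (hf (congrArg Subtype.val e)), ?_⟩
  rw [index_comap]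
  exact (relIndex_dvd_index_of_normal C f.range).trans hi

theorem CyclicMax.of_surjective {T T' : Type*} [Group T] [Group T'] (f : T →* T')
    (hf : Function.Surjective f) (h : CyclicMax T) : CyclicMax T' := by
  obtain ⟨C, hC, hi⟩ := h
  haveI := hC
  exact ⟨C.map f, isCyclic_of_surjective (f.subgroupMap C) (f.subgroupMap_surjective C),
    (index_map_dvd C hf).trans hi⟩

/-- In a finite cyclic group the elements killed by the order of `a` are powers of `a`. -/
theorem mem_zpowers_of_pow_eq_one [Finite G] [IsCyclic G] {a x : G} (h : x ^ orderOf a = 1) :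
    x ∈ zpowers a := by
  classical
  haveI := Fintype.ofFinite G
  let Ω : Finset G := Finset.univ.filter fun y => y ^ orderOf a = 1
  have hsub : (zpowers a : Set G).toFinset ⊆ Ω := by
    intro y hy
    rw [Set.mem_toFinset] at hy
    obtain ⟨l, rfl⟩ := mem_zpowers_iff.1 hy
    simp only [Ω, Finset.mem_filter, Finset.mem_univ, true_and]
    rw [← zpow_natCast, ← zpow_mul, mul_comm, zpow_mul, zpow_natCast, pow_orderOf_eq_one, one_zpow]
  have heq := Finset.eq_of_subset_of_card_le hsub (by
    rw [Set.toFinset_card, ← Nat.card_eq_fintype_card]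
    simp only [SetLike.coe_sort_coe]
    rw [Nat.card_zpowers]
    exact IsCyclic.card_pow_eq_one_le (orderOf_pos a))
  have hx : x ∈ Ω := by simp [Ω, h]
  rw [← heq, Set.mem_toFinset] at hx
  exact hx

theorem mem_zpowers_of_pow_eq_one_of_le [Finite G] {P : Subgroup G} [IsCyclic ↥P] {a x : G}
    (ha : a ∈ P) (hx : x ∈ P) (h : x ^ orderOf a = 1) : x ∈ zpowers a := by
  obtain ⟨l, hl⟩ := mem_zpowers_iff.1 (mem_zpowers_of_pow_eq_one (a := (⟨a, ha⟩ : P))
    (x := ⟨x, hx⟩) (Subtype.ext (by rw [Subgroup.orderOf_mk]; exact h)))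
  exact mem_zpowers_iff.2 ⟨l, congrArg Subtype.val hl⟩

/-- A coprime action on a cyclic `p`-group fixing an element of order `p` is trivial. -/
theorem commute_of_cyclic_fix [Finite G] {p : ℕ} [hp : Fact p.Prime] {P : Subgroup G}
    [IsCyclic ↥P] (hP : IsPGroup p ↥P) {y : G} (hy : y ∈ normalizer (P : Set G))
    (hcop : (orderOf y).Coprime p) {a : G} (ha : a ∈ P) (hao : orderOf a = p) (hya : Commute y a)
    {d : G} (hd : d ∈ P) : Commute y d := by
  letI := IsCyclic.commGroup (α := P)
  have hmem : ∀ e : P, y * e * y⁻¹ ∈ P := fun e => (mem_normalizer_iff.1 hy e).1 e.2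
  let f : P →* P := MonoidHom.mk' (fun e => e⁻¹ * ⟨_, hmem e⟩) fun u v => by
    have e1 : (⟨_, hmem (u * v)⟩ : P) = ⟨_, hmem u⟩ * ⟨_, hmem v⟩ :=
      Subtype.ext (by simp [mul_assoc])
    simp only [e1, mul_inv_rev]
    ac_rfl
  suffices hf : f ⟨d, hd⟩ = 1 by
    have h1 : y * d * y⁻¹ = d := congrArg Subtype.val (inv_mul_eq_one.1 hf).symm
    exact mul_inv_eq_iff_eq_mul.1 h1
  by_contra hne
  obtain ⟨n, hn⟩ := hP.exists_orderOf_eq_pow (f ⟨d, hd⟩)
  rcases n with _ | n
  · exact hne (orderOf_eq_one_iff.1 (hn.trans (pow_zero p)))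
  -- an element of order `p` in the image
  set b := f ⟨d, hd⟩ ^ (p ^ n) with hb
  have hbo : orderOf b = p := by
    rw [hb, orderOf_pow_of_dvd (pow_ne_zero _ hp.out.ne_zero) (hn ▸ pow_dvd_pow p n.le_succ), hn,
      pow_succ, Nat.mul_div_cancel_left _ (pow_pos hp.out.pos n)]
  have hao' : orderOf (⟨a, ha⟩ : P) = p := by rw [Subgroup.orderOf_mk]; exact hao
  obtain ⟨l, hl⟩ := mem_zpowers_iff.1 (mem_zpowers_of_pow_eq_one (a := b) (x := (⟨a, ha⟩ : P))
    (by rw [hbo, ← hao', pow_orderOf_eq_one]))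
  set e := ((⟨d, hd⟩ : P) ^ (p ^ n)) ^ l with he
  have hfe : f e = ⟨a, ha⟩ := by rw [he, map_zpow, map_pow, ← hb, hl]
  have hstep : y * (e : G) * y⁻¹ = (e : G) * a := by
    have h1 : (e : G)⁻¹ * (y * (e : G) * y⁻¹) = a := congrArg Subtype.val hfe
    rw [← h1]; group
  have hiter : ∀ m : ℕ, y ^ m * (e : G) * (y ^ m)⁻¹ = (e : G) * a ^ m := by
    intro m
    induction m with
    | zero => simp
    | succ m ih =>
      rw [pow_succ', show y * y ^ m * (e : G) * (y * y ^ m)⁻¹ =
        y * (y ^ m * (e : G) * (y ^ m)⁻¹) * y⁻¹ by group, ih,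
        show y * ((e : G) * a ^ m) * y⁻¹ = y * (e : G) * y⁻¹ * (y * a ^ m * y⁻¹) by group, hstep,
        (hya.pow_right m).eq, mul_inv_cancel_right, mul_assoc, ← pow_succ']
  have h1 := hiter (orderOf y)
  rw [pow_orderOf_eq_one, one_mul, inv_one, mul_one, left_eq_mul] at h1
  exact hp.out.ne_one (hao ▸ Nat.eq_one_of_dvd_coprimes hcop (orderOf_dvd_of_pow_eq_one h1)
    (hao ▸ dvd_rfl))

/-- An element of odd order normalising a cyclic 2-group centralises it. -/
theorem commute_of_cyclic_two [Finite G] {P : Subgroup G} [IsCyclic ↥P] (hP : IsPGroup 2 ↥P)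
    {y : G} (hy : y ∈ normalizer (P : Set G)) (hodd : Odd (orderOf y)) {d : G} (hd : d ∈ P) :
    Commute y d := by
  haveI : Fact (Nat.Prime 2) := ⟨Nat.prime_two⟩
  obtain ⟨n, hn⟩ := hP.exists_orderOf_eq_pow ⟨d, hd⟩
  rw [Subgroup.orderOf_mk] at hn
  rcases n with _ | n
  · rw [orderOf_eq_one_iff.1 (hn.trans (pow_zero 2))]; exact Commute.one_right y
  set a := d ^ (2 ^ n) with ha
  have hao : orderOf a = 2 := by
    rw [ha, orderOf_pow_of_dvd (by positivity) (hn ▸ pow_dvd_pow 2 n.le_succ), hn, pow_succ,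
      Nat.mul_div_cancel_left _ (by positivity)]
  have haP : a ∈ P := pow_mem hd _
  have hconj : y * a * y⁻¹ ∈ zpowers a := mem_zpowers_of_pow_eq_one_of_le haP
    ((mem_normalizer_iff.1 hy a).1 haP)
    (by rw [conj_pow, pow_orderOf_eq_one]; group)
  refine commute_of_cyclic_fix hP hy (Nat.coprime_two_right.2 hodd) haP hao ?_ hd
  obtain ⟨i, hi⟩ := mem_zpowers_iff.1 hconj
  rcases Int.even_or_odd i with ⟨j, rfl⟩ | ⟨j, rfl⟩
  · exfalso
    rw [← two_mul, zpow_mul, zpow_ofNat, show a ^ 2 = 1 from hao ▸ pow_orderOf_eq_one a,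
      one_zpow] at hi
    have h1 := conj_eq_one_iff.1 hi.symm
    rw [h1, orderOf_one] at hao
    omega
  · rw [zpow_add, zpow_mul, zpow_ofNat, show a ^ 2 = 1 from hao ▸ pow_orderOf_eq_one a, one_zpow,
      one_mul, zpow_one] at hi
    exact mul_inv_eq_iff_eq_mul.1 hi.symm

namespace Hyp

variable [Finite G] (h : Hyp G)
include h

theorem cyclic_of_pGroup {p : ℕ} (hp : p.Prime) (hp2 : p ≠ 2) {P : Subgroup G}
    (hP : IsPGroup p ↥P) : IsCyclic ↥P := by
  haveI := Fact.mk hp
  obtain ⟨R, hR⟩ := hP.exists_le_sylow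
  haveI := h.odd p hp hp2 R
  exact Subgroup.isCyclic_of_le hR

theorem cyclicMax_of_pGroup {P : Subgroup G} (hP : IsPGroup 2 ↥P) : CyclicMax ↥P := by
  haveI : Fact (Nat.Prime 2) := ⟨Nat.prime_two⟩
  obtain ⟨R, hR⟩ := hP.exists_le_sylow
  exact (h.two R).of_injective (Subgroup.inclusion hR) (Subgroup.inclusion_injective _)

theorem subgroup (H : Subgroup G) : Hyp ↥H where
  odd p hp hp2 P := by
    haveI := h.cyclic_of_pGroup hp hp2 (P.2.map H.subtype)
    exact ((P : Subgroup ↥H).equivMapOfInjective _ H.subtype_injective).isCyclic.2 inferInstance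
  two S := (h.cyclicMax_of_pGroup (S.2.map H.subtype)).of_injective
    ((S : Subgroup ↥H).equivMapOfInjective _ H.subtype_injective).toMonoidHom
    (MulEquiv.injective _)

theorem of_surjective {H : Type*} [Group H] (f : G →* H) (hf : Function.Surjective f) : Hyp H := by
  haveI : Finite H := Finite.of_surjective f hf
  refine ⟨fun p hp hp2 P => ?_, fun S => ?_⟩
  · haveI := Fact.mk hp
    obtain ⟨R⟩ : Nonempty (Sylow p G) := inferInstance
    haveI := h.odd p hp hp2 R
    haveI : IsCyclic ↥((R : Subgroup G).map f) :=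
      isCyclic_of_surjective (f.subgroupMap R) (f.subgroupMap_surjective R)
    exact (Sylow.equiv (R.mapSurjective hf) P).isCyclic.1 this
  · haveI : Fact (Nat.Prime 2) := ⟨Nat.prime_two⟩
    obtain ⟨R⟩ : Nonempty (Sylow 2 G) := inferInstance
    exact ((h.two R).of_surjective (f.subgroupMap R) (f.subgroupMap_surjective R)).of_injective
      (Sylow.equiv S (R.mapSurjective hf)).toMonoidHom (MulEquiv.injective _)

theorem quotient (N : Subgroup G) [N.Normal] : Hyp (G ⧸ N) :=
  h.of_surjective (QuotientGroup.mk' N) (QuotientGroup.mk'_surjective N)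

end Hyp

end CfsgLib.AlmostCyclic
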