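import Cfsg.Agent.Lib.AlmostCyclic.Local

/-!
# The surviving configuration: an involution centraliser of index 357

No simple group with almost cyclic Sylow subgroups has it.  With `X` of order 5 in `C(z)`, the odd
part `M` of `C(X)` has a normal subgroup `U` of order 17 inverted by `z`, and the indices of `N(X)`
and `N(U)` do not fit the Sylow congruences for 5 and 17.
-/

set_option autoImplicit false
set_option linter.unusedSectionVars false
set_option linter.style.haveILetI false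

namespace CfsgLib.AlmostCyclic

open Subgroup

variable {G : Type*} [Group G] [Finite G]

/-- The number of Sylow subgroups inside a subgroup containing the normaliser. -/
theorem relIndex_normalizer_mod {r : ℕ} [Fact r.Prime] (R : Sylow r G) {K : Subgroup G}
    (hK : normalizer ((R : Subgroup G) : Set G) ≤ K) :
    (normalizer ((R : Subgroup G) : Set G)).relIndex K % r = 1 := by
  have hRK : (R : Subgroup G) ≤ K := le_normalizer.trans hK
  have heq : (normalizer ((R : Subgroup G) : Set G)).subgroupOf K =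
      normalizer ((R.subtype hRK : Sylow r ↥K) : Set ↥K) :=
    subgroupOf_normalizer_eq hRK
  rw [relIndex, heq, ← Sylow.card_eq_index_normalizer (R.subtype hRK)]
  have h1 := card_sylow_modEq_one r ↥K
  rwa [Nat.ModEq, Nat.one_mod_eq_one.2 (Fact.out : r.Prime).ne_one] at h1

/-- Squaring an element whose square inverts: impossible modulo 3 and 7. -/
theorem sq_ne_neg_one {l : ℕ} (hl : l = 3 ∨ l = 7) (e : ZMod l) : e ^ 2 ≠ -1 := by
  rcases hl with rfl | rfl <;> revert e <;> decide

/-- For `l = 3, 7` a cyclic `l`-group normalised by `w` is centralised by `w ^ 2` if `w ^ 4 = 1`. -/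
theorem commute_sq_of_normalizes {l : ℕ} [hl : Fact l.Prime] (hl37 : l = 3 ∨ l = 7)
    {U : Subgroup G} [IsCyclic ↥U] (hU : IsPGroup l ↥U) {w : G} (hw : w ∈ normalizer (U : Set G))
    (hw4 : w ^ 4 = 1) {d : G} (hd : d ∈ U) : Commute (w ^ 2) d := by
  by_cases hne : U = ⊥
  · rw [hne, mem_bot] at hd
    rw [hd]; exact Commute.one_right _
  obtain ⟨a, ha, hao⟩ := exists_orderOf_eq_of_ne_bot hU hne
  obtain ⟨e, he⟩ := mem_zpowers_iff.1 (mem_zpowers_of_pow_eq_one_of_le ha
    ((mem_normalizer_iff.1 hw a).1 ha) (by rw [conj_pow, pow_orderOf_eq_one]; group))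
  have h2 : w ^ 2 * a * (w ^ 2)⁻¹ = a ^ (e * e) := by
    rw [show w ^ 2 * a * (w ^ 2)⁻¹ = w * (w * a * w⁻¹) * w⁻¹ by simp [pow_two, mul_assoc], ← he,
      ← conj_zpow, ← he, ← zpow_mul]
  have h4 : a ^ (e * e * (e * e)) = a := by
    rw [zpow_mul, ← h2, conj_zpow, ← h2,
      show w ^ 2 * (w ^ 2 * a * (w ^ 2)⁻¹) * (w ^ 2)⁻¹ = w ^ 4 * a * (w ^ 4)⁻¹ by group, hw4]
    group
  have h5 : ((l : ℕ) : ℤ) ∣ e * e * (e * e) - 1 := by
    rw [← hao, orderOf_dvd_iff_zpow_eq_one, zpow_sub, h4, zpow_one, mul_inv_cancel]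
  rw [← ZMod.intCast_zmod_eq_zero_iff_dvd] at h5
  push_cast at h5
  have h6 : ((e : ZMod l) ^ 2 - 1) * ((e : ZMod l) ^ 2 + 1) = 0 := by linear_combination h5
  rcases mul_eq_zero.1 h6 with h7 | h7
  · have h8 : ((l : ℕ) : ℤ) ∣ e * e - 1 := by
      rw [← ZMod.intCast_zmod_eq_zero_iff_dvd]
      push_cast
      linear_combination h7
    rw [← hao, orderOf_dvd_iff_zpow_eq_one, zpow_sub, ← h2, zpow_one, mul_inv_eq_one] at h8
    refine commute_of_cyclic_fix hU (pow_mem hw 2) ?_ ha hao (mul_inv_eq_iff_eq_mul.1 h8) hd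
    refine Nat.Coprime.coprime_dvd_left (orderOf_dvd_of_pow_eq_one (n := 2)
      (by rw [← pow_mul]; exact hw4)) ((Nat.coprime_primes Nat.prime_two hl.out).2 ?_)
    rintro rfl
    omega
  · exact absurd (eq_neg_of_add_eq_zero_left h7) (sq_ne_neg_one hl37 e)

/-- The configuration does not occur. -/
theorem not_index_357 [IsSimpleGroup G] (h : Hyp G) (hns : ¬ Group.IsSolvable G) {z : G}
    (hz : orderOf z = 2) (hidx : (centralizer ({z} : Set G)).index = 357)
    (h25 : ¬ 5 ^ 2 ∣ Nat.card ↥(centralizer ({z} : Set G)))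
    (hfour : ∀ e ∈ centralizer ({z} : Set G), orderOf e = 4 → e * e = z)
    (hinv : ∀ x ∈ centralizer ({z} : Set G), ∀ v ∈ centralizer ({z} : Set G),
      orderOf x = 5 → orderOf v = 2 → Commute x v → v = z)
    (hno4 : ∀ x ∈ centralizer ({z} : Set G), ∀ e ∈ centralizer ({z} : Set G),
      orderOf x = 5 → orderOf e = 4 → ¬ Commute x e)
    (hfive : 5 ∣ Nat.card ↥(centralizer ({z} : Set G)))
    (hsyl : ∀ X : Sylow 5 ↥(centralizer ({z} : Set G)),
      (normalizer ((X : Subgroup ↥(centralizer ({z} : Set G))) : Set ↥(centralizer ({z} : Set G)))).index = 6 ∧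
        ∃ g ∈ normalizer ((X : Subgroup ↥(centralizer ({z} : Set G))) : Set ↥(centralizer ({z} : Set G))), 4 ∣ orderOf g) :
    False := by
  haveI : Fact (Nat.Prime 2) := ⟨Nat.prime_two⟩
  haveI : Fact (Nat.Prime 5) := ⟨by norm_num⟩
  haveI : Fact (Nat.Prime 17) := ⟨by norm_num⟩
  set C := centralizer ({z} : Set G) with hC
  have hzC : z ∈ C := mem_centralizer_singleton_iff.2 rfl
  have hzc : ∀ c ∈ C, Commute z c := fun c hc => (mem_centralizer_singleton_iff.1 hc).symm
  have hz2 : z * z = 1 := by rw [← pow_two, ← hz, pow_orderOf_eq_one]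
  -- `X`, a Sylow 5-subgroup of `G` of order 5
  obtain ⟨X⟩ : Nonempty (Sylow 5 ↥C) := inferInstance
  obtain ⟨hX6, g₀, hg₀N, hg₀⟩ := hsyl X
  set X' := (X : Subgroup ↥C).map C.subtype with hX'
  have hX'card : Nat.card ↥X' = 5 := by
    rw [hX', card_map_of_injective C.subtype_injective]
    obtain ⟨n, hn⟩ := X.2.exists_card_eq
    have h1 : 5 ∣ Nat.card ↥(X : Subgroup ↥C) := X.dvd_card_of_dvd_card hfive
    rw [hn] at h1 ⊢
    rcases n with _ | _ | n
    · norm_num at h1
    · norm_num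
    · exact absurd ((pow_dvd_pow 5 (show 2 ≤ n + 2 by omega)).trans
        (hn ▸ card_subgroup_dvd_card (X : Subgroup ↥C))) h25
  have hG5 : ¬ 5 ^ 2 ∣ Nat.card G := fun h' => by
    rw [← C.card_mul_index, hidx] at h'
    exact h25 (Nat.Coprime.dvd_of_dvd_mul_right (by norm_num) h')
  have hX'5 : IsPGroup 5 ↥X' := IsPGroup.of_card (n := 1) (by rw [hX'card, pow_one])
  obtain ⟨XS, hXS⟩ := hX'5.exists_le_sylow
  have hXeq : (XS : Subgroup G) = X' := by
    refine (eq_of_le_of_card_ge hXS ?_).symm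
    obtain ⟨n, hn⟩ := XS.2.exists_card_eq
    rw [hn, hX'card]
    refine (Nat.pow_le_pow_right (by norm_num) (show n ≤ 1 from ?_)).trans (by norm_num)
    by_contra hn1
    exact hG5 ((pow_dvd_pow 5 (show 2 ≤ n by omega)).trans (hn ▸ card_subgroup_dvd_card _))
  have hX'C : X' ≤ C := map_subtype_le _
  obtain ⟨x, hxX, hxo⟩ := exists_orderOf_eq_of_ne_bot hX'5 (fun e => by
    rw [e, card_bot] at hX'card; omega)
  have hX'x : X' = zpowers x := (eq_of_le_of_card_ge (zpowers_le.2 hxX)
    (by rw [Nat.card_zpowers, hxo, hX'card])).symm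
  have hxC : x ∈ C := hX'C hxX
  -- the two normalisers
  set N := normalizer (X' : Set G) with hN
  have hNC : (N ⊓ C).index = 2142 := by
    have h1 : (N ⊓ C).relIndex C = 6 := by
      have e : X'.subgroupOf C = (X : Subgroup ↥C) := by
        rw [hX', subgroupOf, comap_map_eq_self_of_injective C.subtype_injective]
      rw [inf_relIndex_right, relIndex, hN, subgroupOf_normalizer_eq hX'C, e]
      exact hX6
    rw [← relIndex_mul_index (inf_le_right : N ⊓ C ≤ C), h1, hidx]
  -- the centraliser of `X`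
  set H := centralizer ({x} : Set G) with hH
  have hzH : z ∈ H := mem_centralizer_singleton_iff.2 (hzc x hxC).eq
  obtain ⟨T, hT⟩ := (IsPGroup.of_card (n := 1) (show Nat.card ↥(zpowers (⟨z, hzH⟩ : ↥H)) = 2 ^ 1 by
    rw [Nat.card_zpowers, Subgroup.orderOf_mk, hz, pow_one])).exists_le_sylow
  have hzT : (⟨z, hzH⟩ : ↥H) ∈ (T : Subgroup ↥H) := hT (mem_zpowers _)
  have hTz : ∀ t ∈ (T : Subgroup ↥H), t = 1 ∨ t = ⟨z, hzH⟩ := by
    haveI : Nontrivial ↥(T : Subgroup ↥H) := ⟨⟨⟨_, hzT⟩, 1, fun e => by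
      have := congrArg (fun t : ↥(T : Subgroup ↥H) => ((t : ↥H) : G)) e
      simp at this
      rw [this, orderOf_one] at hz
      omega⟩⟩
    haveI := T.2.center_nontrivial
    -- a central involution of `T` is `z`
    obtain ⟨n, hn⟩ := (T.2.to_subgroup (center ↥(T : Subgroup ↥H))).exists_card_eq
    obtain ⟨⟨v, hvc⟩, hvo⟩ := exists_prime_orderOf_dvd_card' (p := 2)
      (G := ↥(center ↥(T : Subgroup ↥H))) (by
        rw [hn]
        refine dvd_pow_self 2 fun e => ?_
        rw [e, pow_zero] at hn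
        exact (Finite.one_lt_card_iff_nontrivial.2
          ‹Nontrivial ↥(center ↥(T : Subgroup ↥H))›).ne' hn)
    rw [Subgroup.orderOf_mk] at hvo
    set v' : G := ((v : ↥H) : G) with hv'
    have hvz : Commute v' z := congrArg
      (fun t : ↥(T : Subgroup ↥H) => ((t : ↥H) : G)) (mem_center_iff.1 hvc ⟨⟨z, hzH⟩, hzT⟩).symm
    have hvx : Commute x v' := (mem_centralizer_singleton_iff.1 (v : ↥H).2).symm
    have hv'eq : v' = z := hinv x hxC v' (mem_centralizer_singleton_iff.2 hvz.eq) hxo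
      (by rw [hv', Subgroup.orderOf_coe, Subgroup.orderOf_coe]; exact hvo) hvx
    intro t ht
    set t' : G := ((t : ↥H) : G) with ht'
    have htC : t' ∈ C := by
      refine mem_centralizer_singleton_iff.2 ?_
      rw [← hv'eq]
      exact congrArg (fun u : ↥(T : Subgroup ↥H) => ((u : ↥H) : G)) (mem_center_iff.1 hvc ⟨t, ht⟩)
    have htx : Commute x t' := (mem_centralizer_singleton_iff.1 (t : ↥H).2).symm
    obtain ⟨m, hm⟩ := T.2.exists_orderOf_eq_pow ⟨t, ht⟩
    rw [Subgroup.orderOf_mk, ← Subgroup.orderOf_coe, ← ht'] at hm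
    rcases m with _ | _ | m
    · exact Or.inl (Subtype.ext (orderOf_eq_one_iff.1 (hm.trans (pow_zero 2))))
    · exact Or.inr (Subtype.ext (hinv x hxC t' htC hxo (hm.trans (pow_one 2)) htx))
    · exfalso
      refine hno4 x hxC (t' ^ 2 ^ m) (pow_mem htC _) hxo ?_ (htx.pow_right _)
      rw [orderOf_pow_of_dvd (by positivity) (hm ▸ pow_dvd_pow 2 (by omega)), hm,
        show 2 ^ (m + 1 + 1) = 2 ^ m * 4 by ring, Nat.mul_div_cancel_left _ (by positivity)]
  have hTc : IsCyclic ↥(T : Subgroup ↥H) := isCyclic_iff_exists_zpowers_eq_top.2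
    ⟨⟨_, hzT⟩, (eq_top_iff' _).2 fun ⟨t, ht⟩ => by
      rcases hTz t ht with rfl | rfl
      exacts [one_mem _, mem_zpowers _]⟩
  have hnpc : Cfsg.HasNormalPComplement 2 ↥H := by
    refine Fusion.Abelian.npc_of_normalizer_le_centralizer T
      (IsCyclic.normalizer_le_centralizer ((Nat.minFac_eq_two_iff _).2 ?_) hTc)
    refine (dvd_of_eq ?_).trans (orderOf_dvd_natCard (⟨z, hzH⟩ : ↥H))
    rw [Subgroup.orderOf_mk, hz]
  -- its odd part
  set O := Cfsg.pResidual 2 ↥H with hO
  set M := O.map H.subtype with hM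
  have hMmem : ∀ y : G, y ∈ M ↔ Commute y x ∧ Odd (orderOf y) := by
    intro y
    constructor
    · rintro ⟨o, ho, rfl⟩
      refine ⟨mem_centralizer_singleton_iff.1 o.2, Nat.coprime_two_right.1 ?_⟩
      rw [Subgroup.coe_subtype, Subgroup.orderOf_coe]
      exact (Fusion.Basic.mem_pResidual_iff hnpc).1 ho
    · rintro ⟨hyx, hyo⟩
      exact ⟨⟨y, mem_centralizer_singleton_iff.2 hyx.eq⟩, Fusion.Basic.mem_pResidual_of_coprime
        (by rw [Subgroup.orderOf_mk]; exact Nat.coprime_two_right.2 hyo), rfl⟩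
  have hMN : M ≤ N := fun y hy => by
    rw [hN, hX'x]
    refine centralizer_le_normalizer _ (mem_centralizer_iff.2 fun t ht => ?_)
    obtain ⟨l, rfl⟩ := mem_zpowers_iff.1 ht
    exact (((hMmem y).1 hy).1.zpow_right l).eq.symm
  have hconjX : ∀ y ∈ N, ∀ t : G, Commute t x → Commute (y * t * y⁻¹) x := by
    intro y hy t ht
    have h1 : y⁻¹ * x * y ∈ zpowers x := by
      have h2 : y⁻¹ * x * y⁻¹⁻¹ ∈ X' := (mem_normalizer_iff.1 (inv_mem hy) x).1 hxX
      rw [inv_inv] at h2
      rwa [← hX'x]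
    obtain ⟨l, hl⟩ := mem_zpowers_iff.1 h1
    have h3 : Commute t (y⁻¹ * x * y) := hl ▸ ht.zpow_right l
    have h4 : Commute (y * t * y⁻¹) (y * (y⁻¹ * x * y) * y⁻¹) := h3.map (MulAut.conj y).toMonoidHom
    rwa [show y * (y⁻¹ * x * y) * y⁻¹ = x by group] at h4
  have hMnorm : N ≤ normalizer (M : Set G) := fun y hy => mem_normalizer_iff_map_conj_eq.2 (by
    refine eq_of_le_of_card_ge ?_ (le_of_eq (card_map_of_injective (MulAut.conj y).injective).symm)
    rintro _ ⟨t, ht, rfl⟩
    obtain ⟨h1, h2⟩ := (hMmem t).1 ht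
    exact (hMmem _).2 ⟨hconjX y hy t h1, by
      show Odd (orderOf (MulAut.conj y t))
      rwa [MulEquiv.orderOf_eq]⟩)
  -- `N = M (N ∩ C)`
  have hfac : ∀ y ∈ N, ∃ c ∈ M, c⁻¹ * y ∈ C := by
    intro y hy
    have hyH : y * z * y⁻¹ ∈ H :=
      mem_centralizer_singleton_iff.2 (hconjX y hy z (hzc x hxC)).eq
    obtain ⟨T₁, hT₁⟩ := (IsPGroup.of_card (n := 1)
      (show Nat.card ↥(zpowers (⟨_, hyH⟩ : ↥H)) = 2 ^ 1 by
        rw [Nat.card_zpowers, Subgroup.orderOf_mk, ← MulAut.conj_apply, MulEquiv.orderOf_eq, hz,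
          pow_one])).exists_le_sylow
    obtain ⟨q, rfl⟩ := MulAction.exists_smul_eq ↥H T T₁
    obtain ⟨c, hc, u, hu, hq⟩ := Fusion.Basic.exists_eq_pResidual_mul T q
    have hmem := hT₁ (mem_zpowers _)
    rw [Sylow.coe_subgroup_smul] at hmem
    obtain ⟨t, ht, he⟩ := hmem
    refine ⟨(c : G), ⟨c, hc, rfl⟩, mem_centralizer_singleton_iff.2 ?_⟩
    have he' : (q : G) * (t : G) * (q : G)⁻¹ = y * z * y⁻¹ := congrArg Subtype.val he
    have htz : (t : G) = z := by
      rcases hTz t ht with rfl | rfl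
      · exfalso
        rw [Subgroup.coe_one, mul_one, mul_inv_cancel] at he'
        rw [conj_eq_one_iff.1 he'.symm, orderOf_one] at hz
        omega
      · rfl
    have huz : Commute (u : G) z := by
      rcases hTz u hu with rfl | rfl
      · exact Commute.one_left z
      · exact Commute.refl z
    rw [htz, show (q : G) = (c : G) * u from congrArg Subtype.val hq,
      show (c : G) * u * z * ((c : G) * u)⁻¹ = (c : G) * ((u : G) * z * (u : G)⁻¹) * (c : G)⁻¹ by group,
      huz.eq, mul_inv_cancel_right] at he'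
    calc (c : G)⁻¹ * y * z = (c : G)⁻¹ * (y * z * y⁻¹) * y := by group
      _ = z * ((c : G)⁻¹ * y) := by rw [← he']; group
  set m := C.relIndex N with hm
  have hmM : C.relIndex M = m := by
    refine Nat.card_eq_of_bijective (Subgroup.quotientSubgroupOfEmbeddingOfLE C hMN)
      ⟨(Subgroup.quotientSubgroupOfEmbeddingOfLE C hMN).injective, fun q => ?_⟩
    obtain ⟨⟨y, hy⟩, rfl⟩ := QuotientGroup.mk_surjective q
    obtain ⟨c, hc, hcy⟩ := hfac y hy
    exact ⟨QuotientGroup.mk ⟨c, hc⟩, QuotientGroup.eq.2 (mem_subgroupOf.2 hcy)⟩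
  have hprod : N.index * m = 2142 := by
    rw [← hNC, ← relIndex_mul_index (inf_le_left : N ⊓ C ≤ N), inf_relIndex_left, mul_comm]
  have hN5 : N.index % 5 = 1 := by
    have h1 := card_sylow_modEq_one 5 G
    rw [Sylow.card_eq_index_normalizer XS] at h1
    rw [hN, ← hXeq]
    exact h1
  have hmdvd : m ∣ Nat.card ↥M := hmM ▸ relIndex_dvd_card C M
  have hModd : Odd (Nat.card ↥M) := by
    rw [hM, card_map_of_injective H.subtype_injective]
    exact Nat.coprime_two_right.1 (Fusion.Basic.npc_iff_coprime.1 hnpc)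
  -- an element of order four in `N ∩ C`
  obtain ⟨w, hwN, hw2⟩ : ∃ w ∈ N, w * w = z := by
    refine ⟨((g₀ ^ (orderOf g₀ / 4) : ↥C) : G), ?_, hfour _ (g₀ ^ (orderOf g₀ / 4)).2 ?_⟩
    · have h1 := mem_normalizer_iff_map_conj_eq.1 (pow_mem hg₀N (orderOf g₀ / 4))
      rw [hN, mem_normalizer_iff_map_conj_eq, hX', map_map]
      conv_rhs => rw [← h1, map_map]
      congr 1
    · rw [Subgroup.orderOf_coe]
      obtain ⟨q, hq⟩ := hg₀
      have hpos := orderOf_pos g₀
      rw [hq, Nat.mul_div_cancel_left _ (by norm_num), orderOf_pow_of_dvd (by omega)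
        (hq ▸ dvd_mul_left _ _), hq, Nat.mul_div_cancel _ (by omega)]
  have hw4 : w ^ 4 = 1 := by
    rw [show 4 = 2 * 2 by norm_num, pow_mul, pow_two w, hw2, pow_two, hz2]
  have hzN : z ∈ N := hw2 ▸ mul_mem hwN hwN
  have hwcop : (Nat.card ↥(zpowers w)).Coprime (Nat.card ↥M) := by
    rw [Nat.card_zpowers]
    exact Nat.Coprime.coprime_dvd_left (orderOf_dvd_of_pow_eq_one hw4)
      (Nat.Coprime.pow_left 2 (Nat.coprime_two_left.2 hModd))
  -- 3 and 7 do not divide `m`
  have hl : ∀ l : ℕ, l = 3 ∨ l = 7 → ¬ l ∣ m := by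
    intro l hl37 hlm
    have hlp : l.Prime := by rcases hl37 with rfl | rfl <;> norm_num
    haveI := Fact.mk hlp
    obtain ⟨U₁, hU₁⟩ := CfsgLib.Coprime.exists_invariant_sylow (K := M)
      ((zpowers_le.2 hwN).trans hMnorm) hwcop (Or.inl (CfsgLib.Coprime.isSolvable_zpowers w)) l
    set U := (U₁ : Subgroup ↥M).map M.subtype with hU
    haveI : IsCyclic ↥U := h.cyclic_of_pGroup hlp
      (by rcases hl37 with rfl | rfl <;> norm_num) (U₁.2.map _)
    have hUC : U ≤ M ⊓ C := le_inf (map_subtype_le _) fun d hd => by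
      have h1 := commute_sq_of_normalizes hl37 (U₁.2.map _) (hU₁ (mem_zpowers w)) hw4 hd
      rw [pow_two, hw2] at h1
      exact mem_centralizer_singleton_iff.2 h1.eq.symm
    refine U₁.not_dvd_index ?_
    rw [← hmM, ← inf_relIndex_right, inf_comm] at hlm
    refine hlm.trans ((relIndex_dvd_of_le_left M hUC).trans (dvd_of_eq ?_))
    rw [relIndex, hU, subgroupOf, comap_map_eq_self_of_injective M.subtype_injective]
  have hm17 : m ∣ 17 := by
    have h1 : m ∣ 2 * (63 * 17) := ⟨N.index, by rw [mul_comm m, hprod]⟩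
    have h2 : m ∣ 63 * 17 :=
      Nat.Coprime.dvd_of_dvd_mul_left (Nat.coprime_two_right.2 (hModd.of_dvd_nat hmdvd)) h1
    refine Nat.Coprime.dvd_of_dvd_mul_left ?_ h2
    rw [show 63 = 3 ^ 2 * 7 by norm_num]
    exact Nat.Coprime.mul_right (Nat.Coprime.pow_right 2
      ((Nat.Prime.coprime_iff_not_dvd Nat.prime_three).2 (hl 3 (Or.inl rfl))).symm)
      ((Nat.Prime.coprime_iff_not_dvd (by norm_num : Nat.Prime 7)).2 (hl 7 (Or.inr rfl))).symm
  have hm17' : m = 17 ∧ N.index = 126 := by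
    rcases (Nat.dvd_prime (by norm_num : Nat.Prime 17)).1 hm17 with e | e
    · rw [e, mul_one] at hprod
      omega
    · rw [e] at hprod
      exact ⟨e, by omega⟩
  obtain ⟨hm17e, hN126⟩ := hm17'
  -- the subgroup of order 17
  obtain ⟨U₁, hU₁⟩ := CfsgLib.Coprime.exists_invariant_sylow (K := M)
    ((zpowers_le.2 hzN).trans hMnorm) (by
      rw [Nat.card_zpowers, hz]
      exact Nat.coprime_two_left.2 hModd) (Or.inl (CfsgLib.Coprime.isSolvable_zpowers z)) 17
  set U := (U₁ : Subgroup ↥M).map M.subtype with hU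
  have hU17 : IsPGroup 17 ↥U := U₁.2.map _
  have hUM : U ≤ M := map_subtype_le _
  haveI := h.cyclic_of_pGroup (by norm_num : Nat.Prime 17) (by norm_num) hU17
  letI := IsCyclic.commGroup (α := ↥U)
  have hzU : ∀ d ∈ U, z * d * z⁻¹ ∈ U := fun d hd =>
    (mem_normalizer_iff.1 (hU₁ (mem_zpowers z)) d).1 hd
  have hfix : ∀ d ∈ U, Commute z d → d = 1 := by
    intro d hd hdz
    by_contra hd1
    refine U₁.not_dvd_index ?_
    have hUC : U ≤ M ⊓ C := le_inf hUM fun t ht => by
      obtain ⟨n, hn⟩ := hU17.exists_orderOf_eq_pow ⟨d, hd⟩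
      rw [Subgroup.orderOf_mk] at hn
      rcases n with _ | n
      · exact absurd (orderOf_eq_one_iff.1 (hn.trans (pow_zero 17))) hd1
      have h1 := commute_of_cyclic_fix hU17 (hU₁ (mem_zpowers z)) (by rw [hz]; norm_num)
        (pow_mem hd (17 ^ n)) (by
          rw [orderOf_pow_of_dvd (by positivity) (hn ▸ pow_dvd_pow 17 n.le_succ), hn, pow_succ,
            Nat.mul_div_cancel_left _ (by positivity)]) (hdz.pow_right _) ht
      exact mem_centralizer_singleton_iff.2 h1.eq.symm
    have h2 : 17 ∣ (M ⊓ C).relIndex M := by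
      rw [inf_comm, inf_relIndex_right, hmM, hm17e]
    refine h2.trans ((relIndex_dvd_of_le_left M hUC).trans (dvd_of_eq ?_))
    rw [relIndex, hU, subgroupOf, comap_map_eq_self_of_injective M.subtype_injective]
  have hinvert : ∀ d ∈ U, z * d * z⁻¹ = d⁻¹ := by
    intro d hd
    have hcomm : Commute d (z * d * z⁻¹) :=
      congrArg Subtype.val (mul_comm (⟨d, hd⟩ : ↥U) ⟨_, hzU d hd⟩)
    have h1 : d * (z * d * z⁻¹) = 1 := by
      refine hfix _ (mul_mem hd (hzU d hd)) ?_
      show z * (d * (z * d * z⁻¹)) = d * (z * d * z⁻¹) * z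
      conv_rhs => rw [hcomm.eq]
      rw [inv_eq_of_mul_eq_one_right hz2]
      simp only [mul_assoc]
    exact eq_inv_of_mul_eq_one_right h1
  -- it covers the cosets of `M ∩ C`
  let q : ↥U → ↥M ⧸ C.subgroupOf M := fun d => QuotientGroup.mk ⟨d, hUM d.2⟩
  have hq : Function.Injective q := fun d d' hdd => by
    have h1 := mem_subgroupOf.1 (QuotientGroup.eq.1 hdd)
    exact inv_mul_eq_one.1 (Subtype.ext (hfix _ ((d⁻¹ * d' : ↥U)).2 (hzc _ h1)))
  have hUcard : Nat.card ↥U = 17 := by
    have h1 : Nat.card ↥U ≤ 17 := by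
      rw [← hm17e, ← hmM]
      exact Nat.card_le_card_of_injective q hq
    obtain ⟨n, hn⟩ := hU17.exists_card_eq
    rcases n with _ | _ | n
    · exfalso
      refine U₁.not_dvd_index ?_
      rw [pow_zero, hU, card_map_of_injective M.subtype_injective] at hn
      rw [eq_bot_of_card_eq _ hn, index_bot]
      exact hm17e ▸ hmdvd
    · rw [hn, pow_one]
    · rw [hn, pow_succ, pow_succ] at h1
      have := Nat.one_le_pow n 17 (by norm_num)
      omega
  have hcover : ∀ y ∈ M, ∃ d ∈ U, d⁻¹ * y ∈ C := by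
    intro y hy
    have hb : Function.Bijective q := (Nat.bijective_iff_injective_and_card q).2
      ⟨hq, by rw [hUcard]; exact (hmM.trans hm17e).symm⟩
    obtain ⟨d, hd⟩ := hb.2 (QuotientGroup.mk ⟨y, hy⟩)
    exact ⟨d, d.2, mem_subgroupOf.1 (QuotientGroup.eq.1 hd)⟩
  -- so it is normal in `M`
  have hUnorm : M ≤ normalizer (U : Set G) := by
    have hc : ∀ c ∈ M, c ∈ C → c ∈ normalizer (U : Set G) := by
      intro c hcM hcC
      refine mem_normalizer_iff_map_conj_eq.2 (eq_of_le_of_card_ge ?_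
        (le_of_eq (card_map_of_injective (MulAut.conj c).injective).symm))
      rintro _ ⟨d, hd, rfl⟩
      -- a square root
      have hdodd : Odd (orderOf d) := (hModd.of_dvd_nat
        ((Subgroup.orderOf_dvd_natCard U hd).trans (card_dvd_of_le hUM)))
      obtain ⟨s, hs⟩ := exists_pow_eq_self_of_coprime (n := 2) (x := d)
        (Nat.coprime_two_left.2 hdodd)
      set r := d ^ s with hr
      have hrU : r ∈ U := pow_mem hd s
      have hrr : r * r = d := by rw [← pow_two, hr, ← pow_mul, mul_comm, pow_mul, hs]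
      have htwist : ∀ t ∈ U, t * z * t⁻¹ = t * t * z := fun t ht => by
        have h1 : z * t⁻¹ * z⁻¹ = t := by
          rw [hinvert _ (inv_mem ht), inv_inv]
        rw [mul_assoc t t z]
        rw [mul_inv_eq_iff_eq_mul] at h1
        rw [mul_assoc, h1]
      obtain ⟨t, htU, htC⟩ := hcover (c * r) (mul_mem hcM (hUM hrU))
      have h2 : c * r * z * (c * r)⁻¹ = t * z * t⁻¹ := by
        have h3 : Commute z (t⁻¹ * (c * r)) := hzc _ htC
        calc c * r * z * (c * r)⁻¹ = t * (t⁻¹ * (c * r) * z) * (c * r)⁻¹ := by group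
          _ = t * z * t⁻¹ := by rw [← h3.eq]; group
      rw [show c * r * z * (c * r)⁻¹ = c * (r * z * r⁻¹) * c⁻¹ by group, htwist r hrU, hrr,
        htwist t htU, show c * (d * z) * c⁻¹ = c * d * c⁻¹ * (c * z * c⁻¹) by group,
        show c * z * c⁻¹ = z by rw [← (hzc c hcC).eq, mul_inv_cancel_right]] at h2
      show c * d * c⁻¹ ∈ U
      rw [mul_right_cancel h2]
      exact mul_mem htU htU
    intro y hy
    obtain ⟨d, hd, hdy⟩ := hcover y hy
    rw [show y = d * (d⁻¹ * y) by group]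
    exact mul_mem (le_normalizer hd) (hc _ (mul_mem (inv_mem (hUM hd)) hy) hdy)
  -- and `N` normalises it
  have hNU : N ≤ normalizer (U : Set G) := by
    intro y hy
    refine mem_normalizer_iff_map_conj_eq.2 (eq_of_le_of_card_ge ?_
      (le_of_eq (card_map_of_injective (MulAut.conj y).injective).symm))
    set V := U.map (MulAut.conj y).toMonoidHom with hV
    have hVM : V ≤ M := by
      rintro _ ⟨d, hd, rfl⟩
      exact (mem_normalizer_iff.1 (hMnorm hy) d).1 (hUM hd)
    haveI : (U.subgroupOf M).Normal := (normal_subgroupOf_iff_le_normalizer hUM).2 hUnorm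
    have hUeq : U.subgroupOf M = (U₁ : Subgroup ↥M) := by
      rw [subgroupOf, hU, comap_map_eq_self_of_injective M.subtype_injective]
    obtain ⟨T₂, hT₂⟩ := ((hU17.map (MulAut.conj y).toMonoidHom).of_equiv
      (subgroupOfEquivOfLe hVM).symm).exists_le_sylow
    have hun : T₂ = U₁ := by
      haveI : (U₁ : Subgroup ↥M).Normal := hUeq ▸ inferInstance
      haveI := Sylow.unique_of_normal U₁ inferInstance
      exact Subsingleton.elim _ _
    intro v hv
    have := hT₂ (mem_subgroupOf.2 (show (⟨v, hVM hv⟩ : ↥M).1 ∈ V from hv) :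
      (⟨v, hVM hv⟩ : ↥M) ∈ V.subgroupOf M)
    rw [hun, ← hUeq] at this
    exact mem_subgroupOf.1 this
  -- the congruences
  obtain ⟨R, hR⟩ := hU17.exists_le_sylow
  haveI := h.odd 17 (by norm_num) (by norm_num) R
  have hNR : normalizer ((R : Subgroup G) : Set G) ≤ normalizer (U : Set G) := by
    intro y hy
    refine mem_normalizer_iff_map_conj_eq.2 (eq_of_le_of_card_ge ?_
      (le_of_eq (card_map_of_injective (MulAut.conj y).injective).symm))
    obtain ⟨u, huU, huo⟩ := exists_orderOf_eq_of_ne_bot hU17 (fun e => by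
      rw [e, card_bot] at hUcard; omega)
    rintro _ ⟨d, hd, rfl⟩
    refine zpowers_le.2 huU (mem_zpowers_of_pow_eq_one_of_le (hR huU)
      ((mem_normalizer_iff.1 hy d).1 (hR hd)) ?_)
    show MulAut.conj y d ^ orderOf u = 1
    rw [huo, ← map_pow, ← hUcard,
      orderOf_dvd_iff_pow_eq_one.1 (Subgroup.orderOf_dvd_natCard U hd), map_one]
  set NU := normalizer (U : Set G) with hNUdef
  have hr5 : N.relIndex NU % 5 = 1 := by
    rw [hN, ← hXeq]
    exact relIndex_normalizer_mod XS (by rw [hXeq]; exact hNU)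
  have hr17 : NU.index % 17 = 1 := by
    have h1 := card_sylow_modEq_one 17 G
    rw [Sylow.card_eq_index_normalizer R] at h1
    have h1' : (normalizer ((R : Subgroup G) : Set G)).index % 17 = 1 := h1
    rw [← relIndex_mul_index hNR, Nat.mul_mod, relIndex_normalizer_mod R hNR, one_mul,
      Nat.mod_mod] at h1'
    exact h1'
  have hmul : N.relIndex NU * NU.index = 126 := by rw [relIndex_mul_index hNU, hN126]
  have hdvd : NU.index ∣ 126 := ⟨N.relIndex NU, by rw [mul_comm, hmul]⟩
  have hle : NU.index ≤ 126 := Nat.le_of_dvd (by norm_num) hdvd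
  have h118 : NU.index = 1 ∨ NU.index = 18 := by
    interval_cases hi : NU.index <;> omega
  rcases h118 with e | e
  · haveI : U.Normal := normalizer_eq_top_iff.1 (index_eq_one.1 e)
    rcases (inferInstance : U.Normal).eq_bot_or_eq_top with e' | e'
    · rw [e', card_bot] at hUcard; omega
    · refine hns (Group.isSolvable_of_comm fun a b => ?_)
      exact congrArg Subtype.val (mul_comm (⟨a, e' ▸ mem_top a⟩ : ↥U) ⟨b, e' ▸ mem_top b⟩)
  · rw [e] at hmul
    omega

end CfsgLib.AlmostCyclic
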