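import Mathlib.Tactic.LinearCombination
import Mathlib.Tactic.Ring
import Mathlib.Tactic.Linarith
import Mathlib.RingTheory.Int.Basic
import Mathlib.RingTheory.Coprime.Basic
import Mathlib.Data.Int.GCD

/-!
# The arithmetic of the order formula under cyclic odd Sylow subgroups

`i` is the index of the centralizer of an involution, `kap` the cofactor of `|Q| |Q + 1|` in the
centralizer.  The only solution is `Q = -5`, `X = 35`, `i = 357 kap²`.
-/

set_option autoImplicit false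

namespace CfsgLib.AlmostCyclic

theorem endgame_arith {Q X i kap : ℤ} (hp : Prime Q) (h3 : 3 ≤ Q.natAbs) (hQ4 : Q % 4 = 3)
    (hX4 : X % 4 = 3) (hX0 : X ≠ 0) (hXQ : X ≠ Q) (hdvd : Q ^ 2 - X ∣ X * (X - 1))
    (hkap : kap ≠ 0) (hi : i % 2 = 1) (hpi : ¬ Q ∣ i) (hcop : IsCoprime i (Q + 1))
    (heq : i * (X - Q) ^ 2 = Q * (Q + 1) ^ 2 * kap ^ 2 * (Q - 1) * X * (X - 1)) :
    Q = -5 ∧ X = 35 ∧ i = 357 * kap ^ 2 := by
  -- `Q` divides `X`
  obtain ⟨K, rfl⟩ : Q ∣ X := by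
    have h1 : Q ∣ i * (X - Q) ^ 2 := heq ▸ ⟨(Q + 1) ^ 2 * kap ^ 2 * (Q - 1) * X * (X - 1), by ring⟩
    have h2 : Q ∣ X - Q := hp.dvd_of_dvd_pow ((hp.dvd_mul.1 h1).resolve_left hpi)
    simpa using dvd_add h2 (dvd_refl Q)
  have hQ0 : Q ≠ 0 := hp.ne_zero
  have heq' : i * (K - 1) ^ 2 = (Q + 1) ^ 2 * kap ^ 2 * (Q - 1) * K * (Q * K - 1) :=
    mul_left_cancel₀ (pow_ne_zero 2 hQ0) (by linear_combination heq)
  have hK : ¬ Q ∣ K := by
    intro hK
    have h1 : Q ∣ i * (K - 1) ^ 2 := heq' ▸ Dvd.dvd.mul_right (hK.mul_left _) _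
    have h2 : Q ∣ K - 1 := hp.dvd_of_dvd_pow ((hp.dvd_mul.1 h1).resolve_left hpi)
    exact hp.not_dvd_one (by simpa using dvd_sub hK h2)
  have hK4 : K % 4 = 1 := by
    rw [Int.mul_emod, hQ4] at hX4
    omega
  have hK1 : K - 1 ≠ 0 := fun e => hXQ (by rw [sub_eq_zero.1 e, mul_one])
  -- `2 (Q + 1)` divides `K - 1`
  obtain ⟨m, hm⟩ : 2 * (Q + 1) ∣ K - 1 := by
    obtain ⟨u, hu⟩ : 2 ∣ Q - 1 := by omega
    obtain ⟨v, hv⟩ : 2 ∣ Q * K - 1 := by omega
    have h1 : (2 * (Q + 1)) ^ 2 ∣ i * (K - 1) ^ 2 := by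
      refine ⟨kap ^ 2 * K * u * v, ?_⟩
      rw [heq', hu, hv]; ring
    have hc : IsCoprime ((2 * (Q + 1)) ^ 2) i := by
      refine (IsCoprime.mul_left ?_ hcop.symm).pow_left
      exact ⟨-(i / 2), 1, by omega⟩
    exact (Int.pow_dvd_pow_iff two_ne_zero).1 (hc.dvd_of_dvd_mul_left h1)
  -- `D = Q - K` divides `Q - 1`
  set D := Q - K with hD
  have hD4 : D % 4 = 2 := by omega
  have hQD : IsCoprime D Q := (hp.coprime_iff_not_dvd.2 fun hd => hK (by
    rw [show K = Q - D by omega]; exact dvd_sub (dvd_refl Q) hd)).symm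
  have h1 : D ∣ Q ^ 2 - 1 := by
    have h2 : Q * D ∣ Q * (K * (Q * K - 1)) := by
      refine dvd_trans (dvd_of_eq ?_) (hdvd.trans (dvd_of_eq (by ring)))
      rw [hD]; ring
    have h3 : D ∣ K * (Q * K - 1) := (mul_dvd_mul_iff_left hQ0).1 h2
    have h4 : D ∣ Q * (Q ^ 2 - 1) := by
      have e : Q * (Q ^ 2 - 1) = K * (Q * K - 1) + D * (Q * (Q + K) - 1) := by rw [hD]; ring
      rw [e]; exact dvd_add h3 (dvd_mul_right D _)
    exact hQD.dvd_of_dvd_mul_left h4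
  obtain ⟨d, hd⟩ : 2 ∣ D := by omega
  obtain ⟨u, hu⟩ : 2 ∣ Q - 1 := by omega
  obtain ⟨t, ht⟩ : D ∣ Q - 1 := by
    rw [hd, hu]
    refine mul_dvd_mul_left 2 ?_
    have hd2 : d % 2 = 1 := by omega
    -- `d` is prime to `Q + 1`, as `D` is `Q - 1` modulo it
    have hdu : IsCoprime d (Q + 1) := by
      have h2 : IsCoprime d 2 := ⟨1, -(d / 2), by omega⟩
      refine Int.isCoprime_iff_gcd_eq_one.2 (Nat.eq_one_of_dvd_one ?_)
      have hg1 : (Int.gcd d (Q + 1) : ℤ) ∣ d := Int.gcd_dvd_left d (Q + 1)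
      have hg2 : (Int.gcd d (Q + 1) : ℤ) ∣ Q + 1 := Int.gcd_dvd_right d (Q + 1)
      have hg3 : (Int.gcd d (Q + 1) : ℤ) ∣ 2 := by
        have e : (2 : ℤ) = (Q + 1) * (1 - 2 * m) - D := by rw [hD]; linear_combination -hm
        rw [e, hd]
        exact dvd_sub (hg2.mul_right _) (hg1.mul_left 2)
      obtain ⟨x, y, hxy⟩ := h2
      have hg4 : (Int.gcd d (Q + 1) : ℤ) ∣ 1 := by
        have h5 := dvd_add (hg1.mul_left x) (hg3.mul_left y)
        rwa [hxy] at h5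
      exact Int.natCast_dvd_natCast.1 hg4
    have h2 : 2 * d ∣ 2 * ((Q + 1) * u) := by
      rw [← hd, show 2 * ((Q + 1) * u) = Q ^ 2 - 1 by linear_combination (-(Q + 1)) * hu]
      exact h1
    exact hdu.dvd_of_dvd_mul_left ((mul_dvd_mul_iff_left two_ne_zero).1 h2)
  -- the possibilities
  have hm0 : m ≠ 0 := fun e => hK1 (by rw [hm, e, mul_zero])
  have hD' : D = (Q - 1) - 2 * (Q + 1) * m := by omega
  have hle : D.natAbs ≤ (Q - 1).natAbs :=
    Nat.le_of_dvd (by omega) (Int.natAbs_dvd_natAbs.2 ⟨t, ht⟩)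
  have hm1 : Q < 0 ∧ m = 1 := by
    rcases lt_or_gt_of_ne hQ0 with hneg | hpos
    · refine ⟨hneg, ?_⟩
      by_contra hm1
      rcases lt_or_gt_of_ne hm0 with hm' | hm'
      · have : 2 * (Q + 1) * m ≥ -(2 * (Q + 1)) := by nlinarith
        omega
      · have : 2 * (Q + 1) * m ≤ 4 * (Q + 1) := by
          nlinarith [show 2 ≤ m by omega]
        omega
    · exfalso
      rcases lt_or_gt_of_ne hm0 with hm' | hm'
      · have : 2 * (Q + 1) * m ≤ -(2 * (Q + 1)) := by nlinarith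
        omega
      · have : 2 * (Q + 1) * m ≥ 2 * (Q + 1) := by nlinarith
        omega
  obtain ⟨hneg, rfl⟩ := hm1
  have h4 : D ∣ 4 := by
    rw [show (4 : ℤ) = -(Q - 1) - (-(Q - 1) - 4) by ring]
    exact dvd_sub (dvd_neg.2 ⟨t, ht⟩) ⟨1, by omega⟩
  have hQ5 : Q = -5 := by
    have := Int.le_of_dvd (by norm_num) h4
    omega
  subst hQ5
  have hKv : K = -7 := by omega
  subst hKv
  refine ⟨rfl, by norm_num, ?_⟩
  norm_num at heq'
  linarith

end CfsgLib.AlmostCyclic
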