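import Cfsg.Agent.Lib.AlmostCyclic.Local

/-!
# A central involution: Sylow subgroups centralising a given 2-element

If a 2-element `e` commutes with an element of order `r`, a cyclic Sylow `r`-subgroup centralises
`e`, when `r ≠ 3` or `e` is an involution and there is a central one.
-/

set_option autoImplicit false
set_option linter.unusedSectionVars false
set_option linter.style.haveILetI false

namespace CfsgLib.AlmostCyclic

open Subgroup

variable {G : Type*} [Group G] [Finite G]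

/-- A Sylow `r`-subgroup centralising `e`. -/
theorem exists_sylow_commute (h : Hyp G) {r : ℕ} [hr : Fact r.Prime] (hr2 : r ≠ 2) {z : G}
    (hzc : z ∈ center G) (hz : orderOf z = 2) {x e : G} (hx : orderOf x = r) {j : ℕ}
    (he : orderOf e = 2 ^ j) (hxe : Commute x e) (h3 : r ≠ 3 ∨ e * e = 1) :
    ∃ R : Sylow r G, ∀ y ∈ (R : Subgroup G), Commute y e := by
  haveI : Fact (Nat.Prime 2) := ⟨Nat.prime_two⟩
  obtain ⟨R, hR⟩ := (IsPGroup.of_card (n := 1) (show Nat.card ↥(zpowers x) = r ^ 1 by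
    rw [Nat.card_zpowers, hx, pow_one])).exists_le_sylow
  have hxR : x ∈ (R : Subgroup G) := hR (mem_zpowers x)
  haveI := h.odd r hr.out hr2 R
  letI := IsCyclic.commGroup (α := ↥(R : Subgroup G))
  set H := centralizer ({x} : Set G) with hH
  have hRH : (R : Subgroup G) ≤ H := fun u hu => mem_centralizer_singleton_iff.2
    (congrArg Subtype.val (mul_comm (⟨u, hu⟩ : ↥(R : Subgroup G)) ⟨x, hxR⟩))
  haveI : IsCyclic ↥(R.subtype hRH : Subgroup ↥H) :=
    (subgroupOfEquivOfLe hRH).isCyclic.2 inferInstance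
  have hnpc : Cfsg.HasNormalPComplement r ↥H := npc_of_central (R.subtype hRH)
    (x := ⟨x, hRH hxR⟩)
    (mem_center_iff.2 fun c => Subtype.ext (mem_centralizer_singleton_iff.1 c.2))
    (by rw [Subgroup.orderOf_mk]; exact hx)
  set M := Cfsg.pResidual r ↥H
  have hcop : ∀ n : ℕ, (2 ^ n).Coprime r := fun n =>
    ((Nat.coprime_primes Nat.prime_two hr.out).2 (Ne.symm hr2)).pow_left n
  have heH : e ∈ H := mem_centralizer_singleton_iff.2 hxe.eq.symm
  have hzH : z ∈ H := mem_centralizer_singleton_iff.2 (mem_center_iff.1 hzc x).symm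
  have heM : (⟨e, heH⟩ : ↥H) ∈ M := Fusion.Basic.mem_pResidual_of_coprime (by
    rw [Subgroup.orderOf_mk, he]; exact hcop j)
  have hzM : (⟨z, hzH⟩ : ↥H) ∈ M := Fusion.Basic.mem_pResidual_of_coprime (by
    rw [Subgroup.orderOf_mk, hz]; simpa using hcop 1)
  -- an invariant Sylow 2-subgroup
  set A := ((R.subtype hRH : Sylow r ↥H) : Subgroup ↥H) with hA
  have hAM : A ≤ normalizer (M : Set ↥H) := by
    rw [normalizer_eq_top]; exact le_top
  obtain ⟨T, hT⟩ := CfsgLib.Coprime.exists_invariant_sylow (K := M) hAM (by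
      obtain ⟨n, hn⟩ := (R.subtype hRH).2.exists_card_eq
      rw [hA, hn]
      exact Nat.Coprime.pow_left n (Fusion.Basic.npc_iff_coprime.1 hnpc).symm)
    (Or.inl (Group.isSolvable_of_comm fun a b => by
      letI := IsCyclic.commGroup (α := ↥A)
      exact mul_comm a b)) 2
  set T' := (T : Subgroup ↥M).map M.subtype with hT'
  have hT'2 : IsPGroup 2 ↥T' := T.2.map _
  -- it contains `z`
  have hzT : (⟨z, hzH⟩ : ↥H) ∈ T' := by
    haveI : (zpowers (⟨⟨z, hzH⟩, hzM⟩ : ↥M)).Normal := ⟨fun u hu g => by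
      obtain ⟨l, rfl⟩ := mem_zpowers_iff.1 hu
      have h1 : Commute g (⟨⟨z, hzH⟩, hzM⟩ : ↥M) :=
        Subtype.ext (Subtype.ext (mem_center_iff.1 hzc ((g : ↥H) : G)))
      rw [(h1.zpow_right l).eq, mul_inv_cancel_right]
      exact zpow_mem (mem_zpowers _) l⟩
    exact ⟨⟨⟨z, hzH⟩, hzM⟩, (IsPGroup.of_card (n := 1)
      (show Nat.card ↥(zpowers (⟨⟨z, hzH⟩, hzM⟩ : ↥M)) = 2 ^ 1 by
        rw [Nat.card_zpowers, Subgroup.orderOf_mk, Subgroup.orderOf_mk, hz, pow_one])).le_sylow_of_normal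
      T (mem_zpowers _), rfl⟩
  -- and a conjugate of `e`
  obtain ⟨T₁, hT₁⟩ := (IsPGroup.of_card (n := j)
    (show Nat.card ↥(zpowers (⟨⟨e, heH⟩, heM⟩ : ↥M)) = 2 ^ j by
      rw [Nat.card_zpowers, Subgroup.orderOf_mk, Subgroup.orderOf_mk, he])).exists_le_sylow
  obtain ⟨m, rfl⟩ := MulAction.exists_smul_eq ↥M T T₁
  obtain ⟨e₀, he₀T, he₀⟩ := hT₁ (mem_zpowers _)
  set e' : ↥H := (e₀ : ↥H) with he'
  have he'T : e' ∈ T' := ⟨e₀, he₀T, rfl⟩
  set g : G := ((m : ↥H) : G) with hg
  have hge : g * (e' : G) * g⁻¹ = e := congrArg (fun t : ↥M => ((t : ↥H) : G)) he₀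
  refine ⟨g • R, fun y' hy' => ?_⟩
  rw [Sylow.coe_subgroup_smul] at hy'
  obtain ⟨y, hy, rfl⟩ := hy'
  suffices hc : Commute (⟨y, hRH hy⟩ : ↥H) e' by
    have h1 : Commute y (e' : G) := hc.map H.subtype
    rw [← hge]
    show g * y * g⁻¹ * (g * (e' : G) * g⁻¹) = g * (e' : G) * g⁻¹ * (g * y * g⁻¹)
    rw [show g * y * g⁻¹ * (g * (e' : G) * g⁻¹) = g * (y * e') * g⁻¹ by group, h1.eq]
    group
  have hyA : (⟨y, hRH hy⟩ : ↥H) ∈ A := hy
  obtain ⟨n, hn⟩ := R.2.exists_orderOf_eq_pow ⟨y, hy⟩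
  rw [Subgroup.orderOf_mk] at hn
  have hyo : orderOf (⟨y, hRH hy⟩ : ↥H) = r ^ n := by rw [Subgroup.orderOf_mk]; exact hn
  have hyodd : Odd (orderOf (⟨y, hRH hy⟩ : ↥H)) :=
    hyo ▸ (hr.out.odd_of_ne_two hr2).pow
  by_contra hne
  rcases eq_or_ne r 3 with h3r | h3r
  · have hee : e' * e' = 1 := by
      refine Subtype.ext ?_
      have h1 := (h3.resolve_left (not_not_intro h3r))
      rw [← hge, show g * (e' : G) * g⁻¹ * (g * (e' : G) * g⁻¹) = g * ((e' : G) * e') * g⁻¹ by group,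
        conj_eq_one_iff] at h1
      exact h1
    set v : ↥H := ⟨y, hRH hy⟩ * e' * ⟨y, hRH hy⟩⁻¹ with hv
    have hvT : v ∈ T' := (mem_normalizer_iff.1 (hT hyA) e').1 he'T
    have he'1 : e' ≠ 1 := fun h1 => hne (h1 ▸ Commute.one_right _)
    have hyz : Commute (⟨y, hRH hy⟩ : ↥H) ⟨z, hzH⟩ := Subtype.ext (mem_center_iff.1 hzc y)
    have he'z : e' ≠ ⟨z, hzH⟩ := fun h1 => hne (h1 ▸ hyz)
    rcases shape_of_not_commute hT'2 ((h.subgroup H).cyclicMax_of_pGroup hT'2) (hT hyA) hyodd
      (fun hall => hne (hall e' he'T)) with ⟨h4, hexp⟩ | ⟨-, -, huniq⟩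
    · -- the four-group `1, z, e', z e'`
      set z' : ↥H := ⟨z, hzH⟩ with hz'
      have hz1 : z' ≠ 1 := fun h1 => by
        have := congrArg (fun t : ↥H => (t : G)) h1
        rw [show (z' : G) = z from rfl, Subgroup.coe_one] at this
        rw [this, orderOf_one] at hz
        omega
      have hz2 : z' * z' = 1 :=
        congrArg (fun t : ↥T' => (t : ↥H)) (hexp ⟨z', hzT⟩)
      have hall : ∀ t ∈ T', t = 1 ∨ t = z' ∨ t = e' ∨ t = z' * e' := by
        classical
        by_contra hnot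
        push Not at hnot
        obtain ⟨t, ht, t1, t2, t3, t4⟩ := hnot
        have hne4 : z' * e' ≠ 1 := fun h1 => he'z (by
          rw [← mul_right_inj z', h1, hz2])
        let f : Fin 5 → ↥T' := ![1, ⟨z', hzT⟩, ⟨e', he'T⟩, ⟨z', hzT⟩ * ⟨e', he'T⟩, ⟨t, ht⟩]
        have n1 : z' * e' ≠ z' := fun h1 => he'1 (mul_eq_left.1 h1)
        have n2 : z' * e' ≠ e' := fun h1 => hz1 (mul_eq_right.1 h1)
        have hf : Function.Injective f := by
          intro p q hpq
          have h1 := congrArg (fun t : ↥T' => (t : ↥H)) hpq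
          fin_cases p <;> fin_cases q <;> first
            | rfl
            | (exfalso; simp [f] at h1
               first
                | exact hz1 h1 | exact hz1 h1.symm | exact he'1 h1 | exact he'1 h1.symm
                | exact he'z h1 | exact he'z h1.symm | exact hne4 h1 | exact hne4 h1.symm
                | exact n1 h1 | exact n1 h1.symm | exact n2 h1 | exact n2 h1.symm
                | exact t1 h1 | exact t1 h1.symm | exact t2 h1 | exact t2 h1.symm
                | exact t3 h1 | exact t3 h1.symm | exact t4 h1 | exact t4 h1.symm)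
        have := Nat.card_le_card_of_injective f hf
        rw [h4, Nat.card_fin] at this
        omega
      rcases hall v hvT with h1 | h1 | h1 | h1
      · exact he'1 (conj_eq_one_iff.1 h1)
      · rw [hv, mul_inv_eq_iff_eq_mul, ← hyz.eq] at h1
        exact he'z (mul_left_cancel h1)
      · exact hne (mul_inv_eq_iff_eq_mul.1 h1)
      · -- then `y` squared fixes `e'`, and so does `y`
        set w : ↥H := ⟨y, hRH hy⟩
        have h2 : w * w * e' * (w * w)⁻¹ = e' := by
          rw [show w * w * e' * (w * w)⁻¹ = w * (w * e' * w⁻¹) * w⁻¹ by group,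
            show w * e' * w⁻¹ = z' * e' from h1,
            show w * (z' * e') * w⁻¹ = w * z' * w⁻¹ * (w * e' * w⁻¹) by group,
            show w * e' * w⁻¹ = z' * e' from h1, hyz.eq, mul_inv_cancel_right, ← mul_assoc,
            hz2, one_mul]
        have h3 : Commute (w ^ 2) e' := by rw [pow_two]; exact mul_inv_eq_iff_eq_mul.1 h2
        obtain ⟨s, hs⟩ := exists_pow_eq_self_of_coprime (n := 2) (x := w)
          (Nat.coprime_two_left.2 hyodd)
        exact hne (hs ▸ h3.pow_left s)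
    · refine he'z (congrArg (fun t : ↥T' => (t : ↥H)) (huniq ⟨e', he'T⟩ ⟨⟨z, hzH⟩, hzT⟩ ?_ ?_))
      · rw [Subgroup.orderOf_mk]
        exact orderOf_eq_prime (by rw [pow_two]; exact hee) he'1
      · rw [Subgroup.orderOf_mk, Subgroup.orderOf_mk]; exact hz
  · have h1 := commute_cube hT'2 ((h.subgroup H).cyclicMax_of_pGroup hT'2) (hT hyA) hyodd he'T
    have h2 : (orderOf (⟨y, hRH hy⟩ : ↥H)).Coprime 3 := by
      rw [hyo]
      exact Nat.Coprime.pow_left n ((Nat.coprime_primes hr.out Nat.prime_three).2 h3r)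
    obtain ⟨s, hs⟩ := exists_pow_eq_self_of_coprime h2.symm
    exact hne (hs ▸ h1.pow_left s)

end CfsgLib.AlmostCyclic
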