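import Cfsg.Agent.Lib.AlmostCyclic.TwoAction
import Cfsg.Agent.Lib.Fusion.Alperin
import Cfsg.Agent.Lib.Fusion.Abelian
import Cfsg.Agent.Lib.Coprime.Sylow
import Mathlib.GroupTheory.SpecificGroups.ZGroup

/-!
# Cyclic Sylow subgroups: local facts

Normal `r`-complements from a central element of order `r`, membership of a cyclic Sylow subgroup in
the derived group, perfect sections, and perfect groups acting on Z-groups.
-/

set_option autoImplicit false
set_option linter.unusedSectionVars false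
set_option linter.style.haveILetI false

namespace CfsgLib.AlmostCyclic

open Subgroup
open scoped commutatorElement

variable {G : Type*} [Group G]

section Cyclic

variable [Finite G] {r : ℕ} [hr : Fact r.Prime]

/-- A nontrivial `r`-subgroup has an element of order `r`. -/
theorem exists_orderOf_eq_of_ne_bot {Q : Subgroup G} (hQ : IsPGroup r ↥Q) (hne : Q ≠ ⊥) :
    ∃ a ∈ Q, orderOf a = r := by
  obtain ⟨n, hn⟩ := hQ.exists_card_eq
  rcases n with _ | n
  · exact absurd (eq_bot_of_card_eq Q (hn.trans (pow_zero r))) hne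
  obtain ⟨⟨a, ha⟩, hao⟩ := exists_prime_orderOf_dvd_card' (G := ↥Q) r
    (hn ▸ dvd_pow_self r n.succ_ne_zero)
  exact ⟨a, ha, by rwa [Subgroup.orderOf_mk] at hao⟩

/-- A cyclic Sylow `r`-subgroup and a central element of order `r`. -/
theorem npc_of_central (R : Sylow r G) [IsCyclic ↥(R : Subgroup G)] {x : G} (hx : x ∈ center G)
    (hxo : orderOf x = r) : Cfsg.HasNormalPComplement r G := by
  haveI : (zpowers x).Normal := ⟨fun a ha g => by
    have := mem_center_iff.1 (zpowers_le.2 hx ha) g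
    rwa [this, mul_inv_cancel_right]⟩
  have hxR : x ∈ (R : Subgroup G) := (IsPGroup.of_card (n := 1) (by
    rw [Nat.card_zpowers, hxo, pow_one])).le_sylow_of_normal R (mem_zpowers x)
  refine Fusion.Alperin.npc_of_frobenius R fun Q hQ g hg hco => mem_centralizer_iff.2 fun d hd => ?_
  by_cases hQ1 : Q = ⊥
  · rw [hQ1, SetLike.mem_coe, mem_bot] at hd
    subst hd; simp
  haveI : IsCyclic ↥Q := Subgroup.isCyclic_of_le hQ
  obtain ⟨a, haQ, hao⟩ := exists_orderOf_eq_of_ne_bot (R.2.to_le hQ) hQ1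
  have hax : a ∈ zpowers x := mem_zpowers_of_pow_eq_one_of_le hxR (hQ haQ)
    (by rw [hxo, ← hao, pow_orderOf_eq_one])
  exact (commute_of_cyclic_fix (R.2.to_le hQ) hg hco haQ hao
    (mem_center_iff.1 (zpowers_le.2 hx hax) g) hd).eq.symm

/-- A cyclic Sylow subgroup meeting the derived group lies in it. -/
theorem le_commutator (R : Sylow r G) [IsCyclic ↥(R : Subgroup G)]
    (hdvd : r ∣ Nat.card ↥(commutator G)) : (R : Subgroup G) ≤ commutator G := by
  letI := IsCyclic.commGroup (α := ↥(R : Subgroup G))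
  by_cases hN : normalizer ((R : Subgroup G) : Set G) ≤ centralizer ((R : Subgroup G) : Set G)
  · exfalso
    refine MonoidHom.not_dvd_card_ker_transferSylow R hN (hdvd.trans (card_dvd_of_le ?_))
    exact Abelianization.commutator_subset_ker _
  obtain ⟨y, hyN, hyC⟩ := SetLike.not_le_iff_exists.1 hN
  -- pass to the part of `y` of order prime to `r`
  obtain ⟨w, hwN, hwo, d₀, hd₀, hwd⟩ : ∃ w ∈ normalizer ((R : Subgroup G) : Set G),
      (orderOf w).Coprime r ∧ ∃ d ∈ (R : Subgroup G), ¬ Commute w d := by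
    obtain ⟨d, hd, hdy⟩ : ∃ d ∈ (R : Subgroup G), d * y ≠ y * d := by
      by_contra hall
      push Not at hall
      exact hyC (mem_centralizer_iff.2 hall)
    obtain ⟨a, m, hm, hord⟩ := Nat.exists_eq_pow_mul_and_not_dvd (orderOf_pos y).ne' r hr.out.ne_one
    have h1 : orderOf (y ^ r ^ a) = m := by
      rw [orderOf_pow_of_dvd (pow_ne_zero _ hr.out.ne_zero) (hord ▸ dvd_mul_right _ _), hord,
        Nat.mul_div_cancel_left _ (pow_pos hr.out.pos a)]
    refine ⟨y ^ r ^ a, pow_mem hyN _, by rw [h1]; exact (hr.out.coprime_iff_not_dvd.2 hm).symm,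
      d, hd, fun hc => hdy ?_⟩
    have h2 : y ^ m ∈ (R : Subgroup G) := by
      have hle : zpowers (y ^ m) ≤ normalizer ((R : Subgroup G) : Set G) :=
        zpowers_le.2 (pow_mem hyN _)
      have hp : IsPGroup r ↥(zpowers (y ^ m)) := by
        refine IsPGroup.of_card (n := a) ?_
        have hm0 : m ≠ 0 := fun e => by simp [e] at hm
        rw [Nat.card_zpowers, orderOf_pow_of_dvd hm0 (hord ▸ dvd_mul_left _ _), hord,
          Nat.mul_div_cancel _ (Nat.pos_of_ne_zero hm0)]
      have h3 := R.2.to_sup_of_normal_left' hp hle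
      rw [← R.3 h3 le_sup_left]
      exact mem_sup_right (mem_zpowers _)
    obtain ⟨s, t, hst⟩ : ∃ s t : ℤ, s * (r ^ a : ℕ) + t * m = 1 := by
      exact Nat.isCoprime_iff_coprime.2
        (show Nat.Coprime (r ^ a) m from (hr.out.coprime_iff_not_dvd.2 hm).pow_left a)
    have hy : y = (y ^ r ^ a) ^ s * (y ^ m) ^ t := by
      rw [← zpow_natCast, ← zpow_natCast y m, ← zpow_mul, ← zpow_mul, ← zpow_add,
        mul_comm _ s, mul_comm _ t, hst, zpow_one]
    have hcd : Commute (y ^ m) d := congrArg Subtype.val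
      (mul_comm (⟨_, h2⟩ : ↥(R : Subgroup G)) ⟨d, hd⟩)
    rw [hy]
    exact (((hc.zpow_left s).mul_left (hcd.zpow_left t))).eq.symm
  -- `e ↦ [e, w]` is injective on `R`
  have hmem : ∀ e : ↥(R : Subgroup G), w * e * w⁻¹ ∈ (R : Subgroup G) :=
    fun e => (mem_normalizer_iff.1 hwN e).1 e.2
  let f : ↥(R : Subgroup G) →* ↥(R : Subgroup G) :=
    MonoidHom.mk' (fun e => e⁻¹ * ⟨_, hmem e⟩) fun u v => by
      have e1 : (⟨_, hmem (u * v)⟩ : ↥(R : Subgroup G)) = ⟨_, hmem u⟩ * ⟨_, hmem v⟩ :=
        Subtype.ext (by simp [mul_assoc])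
      simp only [e1, mul_inv_rev]
      ac_rfl
  have hinj : Function.Injective f := by
    refine f.ker_eq_bot_iff.1 ((eq_bot_iff_forall _).2 fun e he => by_contra fun hne => hwd ?_)
    have h1 : Commute w (e : G) := by
      have h0 : (e : G)⁻¹ * (w * e * w⁻¹) = 1 := congrArg Subtype.val (MonoidHom.mem_ker.1 he)
      exact mul_inv_eq_iff_eq_mul.1 (inv_mul_eq_one.1 h0).symm
    obtain ⟨n, hn⟩ := R.2.exists_orderOf_eq_pow e
    rcases n with _ | n
    · exact absurd (orderOf_eq_one_iff.1 (hn.trans (pow_zero r))) hne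
    refine commute_of_cyclic_fix R.2 hwN hwo (pow_mem e.2 (r ^ n)) ?_ (h1.pow_right _) hd₀
    rw [← Subgroup.coe_pow, Subgroup.orderOf_coe, orderOf_pow_of_dvd (pow_ne_zero _ hr.out.ne_zero)
      (hn ▸ pow_dvd_pow r n.le_succ), hn, pow_succ, Nat.mul_div_cancel_left _ (pow_pos hr.out.pos n)]
  intro d hd
  obtain ⟨e, he⟩ := (Finite.injective_iff_surjective.1 hinj) ⟨d, hd⟩
  have h0 : (e : G)⁻¹ * (w * e * w⁻¹) = d := congrArg Subtype.val he
  rw [← h0, show (e : G)⁻¹ * (w * e * w⁻¹) = ⁅(e : G)⁻¹, w⁆ by rw [commutatorElement_def]; group]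
  exact commutator_mem_commutator (mem_top _) (mem_top _)

/-- A perfect quotient and a normal subgroup cannot share the prime of a cyclic Sylow subgroup. -/
theorem not_dvd_index (R : Sylow r G) [IsCyclic ↥(R : Subgroup G)] (N : Subgroup G) [N.Normal]
    (hperf : commutator (G ⧸ N) = ⊤) (hN : r ∣ Nat.card ↥N) : ¬ r ∣ N.index := by
  set π := QuotientGroup.mk' N with hπ
  let R₀ : Sylow r ↥N := default
  set R' := (R₀ : Subgroup ↥N).map N.subtype with hR'
  -- a conjugate of `R` contains `R₀`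
  obtain ⟨R₁, hR₁⟩ := (R₀.2.map N.subtype).exists_le_sylow
  haveI : IsCyclic ↥(R₁ : Subgroup G) := (Sylow.equiv R R₁).isCyclic.1 inferInstance
  haveI : IsCyclic ↥R' := Subgroup.isCyclic_of_le hR₁
  obtain ⟨a, haR, hao⟩ : ∃ a ∈ R', orderOf a = r := by
    refine exists_orderOf_eq_of_ne_bot (R₀.2.map N.subtype) fun e => ?_
    rw [hR', Subgroup.map_eq_bot_iff_of_injective _ N.subtype_injective] at e
    exact R₀.ne_bot_of_dvd_card hN e
  -- the centraliser of `R₀` covers the quotient
  set C := centralizer (R' : Set G)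
  set g := π.comp C.subtype with hg
  have hCg : Function.Surjective g := by
    have hF : Function.Surjective (π.comp (normalizer (R' : Set G)).subtype) := by
      intro q
      obtain ⟨y, rfl⟩ := QuotientGroup.mk'_surjective N q
      have hy : y ∈ normalizer (R' : Set G) ⊔ N := by
        rw [hR', Sylow.normalizer_sup_eq_top R₀]; exact mem_top y
      rw [← SetLike.mem_coe, mul_normal] at hy
      obtain ⟨u, hu, v, hv, rfl⟩ := hy
      exact ⟨⟨u, hu⟩, by simp [hπ, (QuotientGroup.eq_one_iff v).2 hv]⟩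
    have hmap : (commutator ↥(normalizer (R' : Set G))).map
        (π.comp (normalizer (R' : Set G)).subtype) = ⊤ := by
      rw [_root_.commutator_def, map_commutator, map_top_of_surjective _ hF, ← _root_.commutator_def, hperf]
    intro q
    obtain ⟨y, hy, rfl⟩ := (hmap ▸ mem_top q : q ∈ Subgroup.map _ _)
    letI : CommGroup (MulAut ↥R') :=
      { (inferInstance : Group (MulAut ↥R')) with
        mul_comm := fun a b => (IsCyclic.mulAutMulEquiv ↥R').injective
          (by rw [map_mul, map_mul, mul_comm]) }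
    have h1 := Abelianization.commutator_subset_ker R'.normalizerMonoidHom hy
    rw [Subgroup.normalizerMonoidHom_ker] at h1
    exact ⟨⟨y, h1⟩, rfl⟩
  -- the centraliser has a normal complement
  letI := IsCyclic.commGroup (α := ↥(R₁ : Subgroup G))
  have hR₁C : (R₁ : Subgroup G) ≤ C := fun u hu => mem_centralizer_iff.2 fun v hv =>
    congrArg Subtype.val (mul_comm (⟨v, hR₁ hv⟩ : ↥(R₁ : Subgroup G)) ⟨u, hu⟩)
  haveI : IsCyclic ↥(R₁.subtype hR₁C : Subgroup ↥C) :=
    (subgroupOfEquivOfLe hR₁C).isCyclic.2 inferInstance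
  have hnpc : Cfsg.HasNormalPComplement r ↥C := npc_of_central (R₁.subtype hR₁C)
    (x := ⟨a, hR₁C (hR₁ haR)⟩)
    (mem_center_iff.2 fun c => Subtype.ext (mem_centralizer_iff.1 c.2 a haR).symm)
    (by rw [Subgroup.orderOf_mk]; exact hao)
  set M := Cfsg.pResidual r ↥C
  haveI : (M.map g).Normal := (inferInstance : M.Normal).map g hCg
  have hq : IsPGroup r ((G ⧸ N) ⧸ M.map g) := by
    refine IsPGroup.of_surjective (Fusion.Basic.isPGroup_quotient_pResidual (G := ↥C) (p := r))
      (QuotientGroup.map M (M.map g) g (le_comap_map _ _)) fun q => ?_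
    obtain ⟨u, rfl⟩ := QuotientGroup.mk'_surjective _ q
    obtain ⟨c, rfl⟩ := hCg u
    exact ⟨QuotientGroup.mk' M c, rfl⟩
  have htop : M.map g = ⊤ := by
    by_contra hne
    haveI : Nontrivial ((G ⧸ N) ⧸ M.map g) := by
      rw [← Finite.one_lt_card_iff_nontrivial, ← index_eq_card]
      exact Nat.lt_of_le_of_ne (Nat.pos_of_ne_zero index_ne_zero_of_finite)
        fun e => hne (index_eq_one.1 e.symm)
    haveI := hq.isNilpotent
    refine (Group.IsSolvable.commutator_lt_top_of_nontrivial ((G ⧸ N) ⧸ M.map g)).ne ?_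
    rw [_root_.commutator_def, ← map_top_of_surjective _ (QuotientGroup.mk'_surjective (M.map g)),
      ← map_commutator, ← _root_.commutator_def, hperf]
  intro hdiv
  rw [index_eq_card, ← card_top, ← htop] at hdiv
  exact (hr.out.coprime_iff_not_dvd.1 (Fusion.Basic.npc_iff_coprime.1 hnpc).symm)
    (hdiv.trans (card_map_dvd _ g))

end Cyclic

section Perfect

/-- A homomorphism of a perfect group into a commutative group is trivial. -/
theorem eq_one_of_perfect {L A : Type*} [Group L] [CommGroup A] (hL : commutator L = ⊤)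
    (f : L →* A) (k : L) : f k = 1 :=
  Abelianization.commutator_subset_ker f (hL ▸ mem_top k)

/-- A perfect group centralises a cyclic group it normalises. -/
theorem perfect_centralizes_cyclic [Finite G] {L X : Subgroup G} [IsCyclic ↥X]
    (hL : commutator ↥L = ⊤) (hLX : L ≤ normalizer (X : Set G)) :
    L ≤ centralizer (X : Set G) := by
  letI : CommGroup (MulAut ↥X) :=
    { (inferInstance : Group (MulAut ↥X)) with
      mul_comm := fun a b => (IsCyclic.mulAutMulEquiv ↥X).injective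
        (by rw [map_mul, map_mul, mul_comm]) }
  intro k hk
  have h1 : inclusion hLX ⟨k, hk⟩ ∈ X.normalizerMonoidHom.ker :=
    eq_one_of_perfect hL (X.normalizerMonoidHom.comp (inclusion hLX)) ⟨k, hk⟩
  rw [Subgroup.normalizerMonoidHom_ker] at h1
  exact h1

/-- A perfect group centralises a Z-group it normalises. -/
theorem perfect_centralizes_zGroup [Finite G] {L X : Subgroup G} [IsZGroup ↥X]
    (hL : commutator ↥L = ⊤) (hLX : L ≤ normalizer (X : Set G)) :
    L ≤ centralizer (X : Set G) := by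
  set K := (commutator ↥X).map X.subtype with hK
  haveI : IsCyclic ↥K :=
    ((commutator ↥X).equivMapOfInjective _ X.subtype_injective).isCyclic.1
      (IsZGroup.isCyclic_commutator _)
  have hLK : L ≤ centralizer (K : Set G) := by
    refine perfect_centralizes_cyclic hL ?_
    intro y hy
    have hK' : K = ⁅X, X⁆ := by
      rw [hK, _root_.commutator_def, map_commutator, ← MonoidHom.range_eq_map, X.range_subtype]
    rw [hK', mem_normalizer_iff_map_conj_eq, map_commutator,
      mem_normalizer_iff_map_conj_eq.1 (hLX hy)]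
  -- the action on the abelianization
  let φ : ↥L →* MulAut (Abelianization ↥X) :=
    MonoidHom.mk' (fun k => (X.normalizerMonoidHom (inclusion hLX k)).abelianizationCongr)
      fun k₁ k₂ => by
        refine MulEquiv.ext fun q => ?_
        obtain ⟨x, rfl⟩ := QuotientGroup.mk'_surjective _ q
        rw [map_mul, map_mul]
        rfl
  letI : CommGroup (MulAut (Abelianization ↥X)) :=
    { (inferInstance : Group (MulAut (Abelianization ↥X))) with
      mul_comm := fun a b => (IsCyclic.mulAutMulEquiv (Abelianization ↥X)).injective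
        (by rw [map_mul, map_mul, mul_comm]) }
  intro k hk x hx
  have hstep : ∀ k' : ↥L, ⁅(k' : G), x⁆ ∈ K := by
    intro k'
    have h1 := congrArg (fun a : MulAut (Abelianization ↥X) => a (Abelianization.of ⟨x, hx⟩))
      (eq_one_of_perfect hL φ k')
    have h2 : Abelianization.of (X.normalizerMonoidHom (inclusion hLX k') ⟨x, hx⟩) =
        Abelianization.of ⟨x, hx⟩ := h1
    rw [← mul_inv_eq_one, ← map_inv, ← map_mul, ← MonoidHom.mem_ker, Abelianization.ker_of] at h2
    exact ⟨_, h2, by simp [commutatorElement_def]⟩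
  letI := IsCyclic.commGroup (α := ↥K)
  let c : ↥L →* ↥K := MonoidHom.mk' (fun k' => ⟨_, hstep k'⟩) fun k₁ k₂ => by
    refine Subtype.ext ?_
    have hcomm : (k₁ : G) * ⁅(k₂ : G), x⁆ * (k₁ : G)⁻¹ = ⁅(k₂ : G), x⁆ := by
      rw [← mem_centralizer_iff.1 (hLK k₁.2) _ (hstep k₂), mul_inv_cancel_right]
    have hab : ⁅(k₂ : G), x⁆ * ⁅(k₁ : G), x⁆ = ⁅(k₁ : G), x⁆ * ⁅(k₂ : G), x⁆ :=
      congrArg Subtype.val (mul_comm (⟨_, hstep k₂⟩ : ↥K) ⟨_, hstep k₁⟩)
    show ⁅((k₁ * k₂ : ↥L) : G), x⁆ = ⁅(k₁ : G), x⁆ * ⁅(k₂ : G), x⁆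
    rw [← hab, show ⁅((k₁ * k₂ : ↥L) : G), x⁆ =
      (k₁ : G) * ⁅(k₂ : G), x⁆ * (k₁ : G)⁻¹ * ⁅(k₁ : G), x⁆ by
        simp [commutatorElement_def]; group, hcomm]
  exact (commutatorElement_eq_one_iff_mul_comm.1
    (congrArg Subtype.val (eq_one_of_perfect hL c ⟨k, hk⟩))).symm

end Perfect

/-- An odd prime dividing the order of an involution centraliser does not divide its index. -/
theorem not_dvd_centralizer_index [Finite G] (h : Hyp G) {r : ℕ} [hr : Fact r.Prime] (hr2 : r ≠ 2)
    {z : G} (hz : orderOf z = 2) (hdvd : r ∣ Nat.card ↥(centralizer ({z} : Set G)))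
    (h3 : r = 3 → ∀ x v : G, orderOf x = 3 → Commute x z → orderOf v = 2 → Commute v z →
      Commute v x → v = z) :
    ¬ r ∣ (centralizer ({z} : Set G)).index := by
  haveI : Fact (Nat.Prime 2) := ⟨Nat.prime_two⟩
  obtain ⟨⟨x, hxC⟩, hxo⟩ := exists_prime_orderOf_dvd_card' r hdvd
  rw [Subgroup.orderOf_mk] at hxo
  have hxz : Commute x z := mem_centralizer_singleton_iff.1 hxC
  obtain ⟨R, hR⟩ := (IsPGroup.of_card (n := 1) (show Nat.card ↥(zpowers x) = r ^ 1 by
    rw [Nat.card_zpowers, hxo, pow_one])).exists_le_sylow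
  have hxR : x ∈ (R : Subgroup G) := hR (mem_zpowers x)
  haveI := h.odd r hr.out hr2 R
  letI := IsCyclic.commGroup (α := ↥(R : Subgroup G))
  set H := centralizer ({x} : Set G) with hH
  have hRH : (R : Subgroup G) ≤ H := fun u hu => mem_centralizer_singleton_iff.2
    (congrArg Subtype.val (mul_comm (⟨u, hu⟩ : ↥(R : Subgroup G)) ⟨x, hxR⟩))
  haveI : IsCyclic ↥(R.subtype hRH : Subgroup ↥H) :=
    (subgroupOfEquivOfLe hRH).isCyclic.2 inferInstance
  have hnpc : Cfsg.HasNormalPComplement r ↥H := npc_of_central (R.subtype hRH)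
    (x := ⟨x, hRH hxR⟩)
    (mem_center_iff.2 fun c => Subtype.ext (mem_centralizer_singleton_iff.1 c.2))
    (by rw [Subgroup.orderOf_mk]; exact hxo)
  set M := Cfsg.pResidual r ↥H
  have hzH : z ∈ H := mem_centralizer_singleton_iff.2 hxz.eq.symm
  have hzM : (⟨z, hzH⟩ : ↥H) ∈ M := Fusion.Basic.mem_pResidual_of_coprime (by
    rw [Subgroup.orderOf_mk, hz]
    exact (Nat.coprime_primes Nat.prime_two hr.out).2 (Ne.symm hr2))
  -- an invariant Sylow 2-subgroup
  set A := ((R.subtype hRH : Sylow r ↥H) : Subgroup ↥H) with hA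
  have hAM : A ≤ normalizer (M : Set ↥H) := by
    rw [normalizer_eq_top]; exact le_top
  obtain ⟨T, hT⟩ := CfsgLib.Coprime.exists_invariant_sylow (K := M) hAM (by
      obtain ⟨n, hn⟩ := (R.subtype hRH).2.exists_card_eq
      rw [hA, hn]
      exact Nat.Coprime.pow_left n (Fusion.Basic.npc_iff_coprime.1 hnpc).symm)
    (Or.inl (Group.isSolvable_of_comm fun a b => by
      letI := IsCyclic.commGroup (α := ↥A)
      exact mul_comm a b)) 2
  set T' := (T : Subgroup ↥M).map M.subtype with hT'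
  -- conjugate `z` into it
  obtain ⟨T₁, hT₁⟩ := (IsPGroup.of_card (n := 1)
    (show Nat.card ↥(zpowers (⟨⟨z, hzH⟩, hzM⟩ : ↥M)) = 2 ^ 1 by
      rw [Nat.card_zpowers, Subgroup.orderOf_mk, Subgroup.orderOf_mk, hz, pow_one])).exists_le_sylow
  obtain ⟨m, rfl⟩ := MulAction.exists_smul_eq ↥M T T₁
  obtain ⟨e, heT, he⟩ := hT₁ (mem_zpowers _)
  set z' : ↥H := (e : ↥H) with hz'
  have hz'T : z' ∈ T' := ⟨e, heT, rfl⟩
  set g : G := ((m : ↥H) : G) with hg
  have hzz : g * (z' : G) * g⁻¹ = z := congrArg (fun t : ↥M => ((t : ↥H) : G)) he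
  have hgx : Commute g x := mem_centralizer_singleton_iff.1 (m : ↥H).2
  have hT'2 : IsPGroup 2 ↥T' := T.2.map _
  have key : ∀ y ∈ (R : Subgroup G), Commute (g * y * g⁻¹) z := by
    intro y hy
    suffices hc : Commute (⟨y, hRH hy⟩ : ↥H) z' by
      have h1 : Commute y (z' : G) := hc.map H.subtype
      rw [← hzz]
      show g * y * g⁻¹ * (g * (z' : G) * g⁻¹) = g * (z' : G) * g⁻¹ * (g * y * g⁻¹)
      rw [show g * y * g⁻¹ * (g * (z' : G) * g⁻¹) = g * (y * z') * g⁻¹ by group, h1.eq]
      group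
    have hyA : (⟨y, hRH hy⟩ : ↥H) ∈ A := hy
    obtain ⟨n, hn⟩ := R.2.exists_orderOf_eq_pow ⟨y, hy⟩
    rw [Subgroup.orderOf_mk] at hn
    have hyo : orderOf (⟨y, hRH hy⟩ : ↥H) = r ^ n := by rw [Subgroup.orderOf_mk]; exact hn
    have hyodd : Odd (orderOf (⟨y, hRH hy⟩ : ↥H)) :=
      hyo ▸ (hr.out.odd_of_ne_two hr2).pow
    by_contra hne
    rcases eq_or_ne r 3 with h3r | h3r
    · rcases shape_of_not_commute hT'2 ((h.subgroup H).cyclicMax_of_pGroup hT'2) (hT hyA) hyodd
        (fun hall => hne (hall z' hz'T)) with ⟨-, hexp⟩ | ⟨-, -, huniq⟩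
      all_goals
        set v : ↥H := ⟨y, hRH hy⟩ * z' * ⟨y, hRH hy⟩⁻¹ with hv
        have hvT : v ∈ T' := (mem_normalizer_iff.1 (hT hyA) z').1 hz'T
        have hz'o : orderOf z' = 2 := by
          have : orderOf (g * (z' : G) * g⁻¹) = 2 := hzz ▸ hz
          rw [← Subgroup.orderOf_coe]
          exact ((MulAut.conj g).orderOf_eq (z' : G)).symm.trans this
        have hvo : orderOf v = 2 := ((MulAut.conj _).orderOf_eq z').trans hz'o
      · have hcomm : Commute v z' := by
          have hsq : ∀ t : ↥T', t⁻¹ = t := fun t => inv_eq_of_mul_eq_one_right (hexp t)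
          have := congrArg Subtype.val (show (⟨v, hvT⟩ : ↥T') * ⟨z', hz'T⟩ = ⟨z', hz'T⟩ * ⟨v, hvT⟩ by
            rw [← hsq (⟨v, hvT⟩ * ⟨z', hz'T⟩), mul_inv_rev, hsq, hsq])
          exact this
        have h1 : g * (v : G) * g⁻¹ = z := by
          refine h3 h3r x _ (hxo.trans h3r) hxz ?_ ?_ ?_
          · exact ((MulAut.conj g).orderOf_eq (v : G)).trans ((Subgroup.orderOf_coe v).trans hvo)
          · rw [← hzz]
            exact (hcomm.map H.subtype).map (MulAut.conj g).toMonoidHom
          · exact (hgx.mul_left (mem_centralizer_singleton_iff.1 v.2)).mul_left hgx.inv_left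
        have h2 : (v : G) = (z' : G) := by
          rw [← hzz] at h1
          exact mul_left_cancel (mul_right_cancel h1)
        exact hne (mul_inv_eq_iff_eq_mul.1 (Subtype.ext h2 : v = z'))
      · have := congrArg Subtype.val (huniq ⟨v, hvT⟩ ⟨z', hz'T⟩
          (by rw [Subgroup.orderOf_mk]; exact hvo) (by rw [Subgroup.orderOf_mk]; exact hz'o))
        exact hne (mul_inv_eq_iff_eq_mul.1 this)
    · have h1 := commute_cube hT'2 ((h.subgroup H).cyclicMax_of_pGroup hT'2) (hT hyA) hyodd hz'T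
      have h2 : (orderOf (⟨y, hRH hy⟩ : ↥H)).Coprime 3 := by
        rw [hyo]
        exact Nat.Coprime.pow_left n ((Nat.coprime_primes hr.out Nat.prime_three).2 h3r)
      obtain ⟨s, hs⟩ := exists_pow_eq_self_of_coprime h2.symm
      exact hne (hs ▸ h1.pow_left s)
  intro hdiv
  have hle : (R : Subgroup G).map (MulAut.conj g).toMonoidHom ≤ centralizer ({z} : Set G) := by
    rintro _ ⟨y, hy, rfl⟩
    exact mem_centralizer_singleton_iff.2 (key y hy).eq
  have h1 : Nat.card ↥((R : Subgroup G).map (MulAut.conj g).toMonoidHom) = Nat.card ↥(R : Subgroup G) :=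
    card_map_of_injective (MulAut.conj g).injective
  have h2 : ((R : Subgroup G).map (MulAut.conj g).toMonoidHom).index = (R : Subgroup G).index :=
    index_map_equiv _ (MulAut.conj g)
  exact R.not_dvd_index (h2 ▸ hdiv.trans (index_dvd_of_le hle))

end CfsgLib.AlmostCyclic
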