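import Cfsg.Agent.Lib.AlmostCyclic.Simple
import Cfsg.Agent.Lib.AlmostCyclic.Aut

/-!
# Insoluble groups with almost cyclic Sylow subgroups: the structure

A normal subgroup of index at most 2 is `X × L` with `X` an odd Z-group and `L` one of `PSL(2,p)`,
`SL(2,p)`.
-/

set_option autoImplicit false
set_option linter.unusedSectionVars false
set_option linter.style.haveILetI false

universe u

namespace CfsgLib.AlmostCyclic

open Subgroup

variable {G : Type u} [Group G] [Finite G]

/-- A Sylow 2-subgroup of an insoluble group of this kind is not cyclic. -/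
theorem Hyp.not_cyclic_two (h : Hyp G) (hns : ¬ Group.IsSolvable G) (S : Sylow 2 G) :
    ¬ IsCyclic ↥(S : Subgroup G) := by
  intro hc
  haveI : IsZGroup G := ⟨fun q hq P => by
    haveI := Fact.mk hq
    rcases eq_or_ne q 2 with rfl | hq2
    · haveI := hc
      exact (Sylow.equiv S P).isCyclic.1 inferInstance
    · exact h.odd q hq hq2 P⟩
  exact hns inferInstance

/-- A 2-group with a cyclic maximal subgroup does not contain two disjoint noncyclic subgroups. -/
theorem CyclicMax.not_two_noncyclic {T : Type*} [Group T] [Finite T] (h : CyclicMax T)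
    (hT : IsPGroup 2 T) {A B : Subgroup T} (hA : ¬ IsCyclic ↥A) (hB : ¬ IsCyclic ↥B)
    (hAB : Disjoint A B) : False := by
  haveI : Fact (Nat.Prime 2) := ⟨Nat.prime_two⟩
  obtain ⟨C, hC, hi⟩ := h
  haveI := hC
  haveI := CyclicMax.normal hi
  have key : ∀ D : Subgroup T, ¬ IsCyclic ↥D → ∃ a ∈ D ⊓ C, orderOf a = 2 := by
    intro D hD
    refine exists_orderOf_eq_of_ne_bot (hT.to_subgroup _) fun e => hD ?_
    have h1 : (C.subgroupOf D).index ∣ 2 := by
      rw [← relIndex]
      exact (relIndex_dvd_index_of_normal C D).trans hi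
    rw [show C.subgroupOf D = ⊥ from subgroupOf_eq_bot.2 (disjoint_iff.2 (inf_comm D C ▸ e)),
      index_bot] at h1
    rcases (Nat.dvd_prime Nat.prime_two).1 h1 with e1 | e1
    · haveI := (Finite.card_le_one_iff_subsingleton (α := ↥D)).1 e1.le
      infer_instance
    · exact isCyclic_of_prime_card (p := 2) e1
  obtain ⟨a, ha, hao⟩ := key A hA
  obtain ⟨b, hb, hbo⟩ := key B hB
  have hba := mem_zpowers_of_pow_eq_one_of_le (mem_inf.1 ha).2 (mem_inf.1 hb).2
    (by rw [hao, ← hbo, pow_orderOf_eq_one])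
  have : b = 1 := disjoint_def.1 hAB (zpowers_le.2 (mem_inf.1 ha).1 hba) (mem_inf.1 hb).1
  rw [this, orderOf_one] at hbo
  omega

/-- Two commuting disjoint insoluble subgroups do not occur. -/
theorem Hyp.not_two_commuting (h : Hyp G) {A B : Subgroup G} (hA : ¬ Group.IsSolvable ↥A)
    (hB : ¬ Group.IsSolvable ↥B) (hAB : Disjoint A B) (hcomm : A ≤ centralizer (B : Set G)) :
    False := by
  haveI : Fact (Nat.Prime 2) := ⟨Nat.prime_two⟩
  obtain ⟨P⟩ : Nonempty (Sylow 2 ↥A) := inferInstance
  obtain ⟨R⟩ : Nonempty (Sylow 2 ↥B) := inferInstance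
  set P' := (P : Subgroup ↥A).map A.subtype
  set R' := (R : Subgroup ↥B).map B.subtype
  have hP : ¬ IsCyclic ↥P' := fun hc => (h.subgroup A).not_cyclic_two hA P
    (((P : Subgroup ↥A).equivMapOfInjective _ A.subtype_injective).isCyclic.2 hc)
  have hR : ¬ IsCyclic ↥R' := fun hc => (h.subgroup B).not_cyclic_two hB R
    (((R : Subgroup ↥B).equivMapOfInjective _ B.subtype_injective).isCyclic.2 hc)
  have hPR : P' ≤ normalizer (R' : Set G) :=
    le_trans (fun a ha => mem_centralizer_iff.2 fun b hb =>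
      mem_centralizer_iff.1 (hcomm (map_subtype_le _ ha)) b (map_subtype_le _ hb))
      (centralizer_le_normalizer _)
  have hW : IsPGroup 2 ↥(P' ⊔ R') :=
    IsPGroup.to_sup_of_normal_right' (P.2.map _) (R.2.map _) hPR
  refine (h.cyclicMax_of_pGroup hW).not_two_noncyclic hW
    (A := P'.subgroupOf (P' ⊔ R')) (B := R'.subgroupOf (P' ⊔ R'))
    (fun hc => hP ((subgroupOfEquivOfLe le_sup_left).isCyclic.1 hc))
    (fun hc => hR ((subgroupOfEquivOfLe le_sup_right).isCyclic.1 hc)) ?_
  rw [disjoint_def]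
  intro x hx hx'
  exact Subtype.ext (disjoint_def.1 hAB (map_subtype_le _ (mem_subgroupOf.1 hx))
    (map_subtype_le _ (mem_subgroupOf.1 hx')))

/-- Without a soluble normal subgroup there is a simple normal subgroup with trivial centralizer. -/
theorem Hyp.exists_simple_socle (h : Hyp G) [Nontrivial G]
    (hrad : ∀ N : Subgroup G, N.Normal → Group.IsSolvable ↥N → N = ⊥) :
    ∃ K : Subgroup G, K.Normal ∧ IsSimpleGroup ↥K ∧ ¬ Group.IsSolvable ↥K ∧
      centralizer (K : Set G) = ⊥ := by
  obtain ⟨K, -, hK⟩ := Finite.exists_le_minimal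
    (p := fun N : Subgroup G => N.Normal ∧ N ≠ ⊥) (a := ⊤) ⟨inferInstance, top_ne_bot⟩
  obtain ⟨hKn, hKne⟩ := hK.prop
  haveI := hKn
  haveI : Nontrivial ↥K := K.nontrivial_iff_ne_bot.2 hKne
  have hKns : ¬ Group.IsSolvable ↥K := fun hs => hKne (hrad K hKn hs)
  -- a minimal normal subgroup of `K`
  obtain ⟨T, -, hT⟩ := Finite.exists_le_minimal
    (p := fun N : Subgroup ↥K => N.Normal ∧ N ≠ ⊥) (a := ⊤) ⟨inferInstance, top_ne_bot⟩
  obtain ⟨hTn, hTne⟩ := hT.prop
  haveI := hTn
  let c : G → (↥K ≃* ↥K) := fun g => MulAut.conjNormal g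
  have hT' : ∀ g, Minimal (fun N : Subgroup ↥K => N.Normal ∧ N ≠ ⊥) (T.map (c g).toMonoidHom) :=
    fun g => ⟨⟨hTn.map _ (c g).surjective, fun e => hTne (by
      rwa [Subgroup.map_eq_bot_iff_of_injective (f := (c g).toMonoidHom) _ (c g).injective] at e)⟩, fun N hN hle => by
      have h1 : N.comap (c g).toMonoidHom ≤ T := (comap_mono hle).trans
        (comap_map_eq_self_of_injective (c g).injective T).le
      have h2 : T ≤ N.comap (c g).toMonoidHom := hT.le_of_le ⟨hN.1.comap _, fun e => hN.2 (by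
        rw [← map_comap_eq_self_of_surjective (f := (c g).toMonoidHom) (c g).surjective N, e,
          Subgroup.map_bot])⟩ h1
      exact (map_mono h2).trans (map_comap_le _ N)⟩
  have hTns : ¬ Group.IsSolvable ↥T := by
    intro hs
    -- the conjugates of a soluble minimal normal subgroup generate a soluble normal subgroup
    obtain ⟨M, -, hM⟩ := Finite.exists_le_maximal
      (p := fun N : Subgroup ↥K => N.Normal ∧ Group.IsSolvable ↥N) (a := T) ⟨hTn, hs⟩
    obtain ⟨hMn, hMs⟩ := hM.prop
    have hle : ∀ N : Subgroup ↥K, N.Normal → Group.IsSolvable ↥N → N ≤ M := by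
      intro N hNn hNs
      haveI := hNn; haveI := hMn; haveI := hNs; haveI := hMs
      refine le_trans le_sup_left (hM.le_of_ge (y := N ⊔ M) ⟨inferInstance, ?_⟩ le_sup_right)
      set W := N ⊔ M
      have e : ↥(M.subgroupOf W) ≃* ↥M := subgroupOfEquivOfLe le_sup_right
      haveI : Group.IsSolvable ↥(M.subgroupOf W) :=
        Group.isSolvable_of_isSolvable_injective (f := e.toMonoidHom) e.injective
      haveI : (M.subgroupOf W).Normal := hMn.subgroupOf W
      let f : ↥N →* ↥W ⧸ M.subgroupOf W :=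
        (QuotientGroup.mk' _).comp (inclusion le_sup_left)
      have hf : Function.Surjective f := by
        intro q
        obtain ⟨⟨w, hw⟩, rfl⟩ := QuotientGroup.mk'_surjective _ q
        rw [← SetLike.mem_coe, mul_normal] at hw
        obtain ⟨a, ha, b, hb, rfl⟩ := hw
        refine ⟨⟨a, ha⟩, (QuotientGroup.eq).2 ?_⟩
        rw [mem_subgroupOf]
        simpa using hb
      haveI := Group.isSolvable_of_surjective hf
      exact Group.isSolvable_of_ker_le_range (M.subgroupOf W).subtype
        (QuotientGroup.mk' (M.subgroupOf W)) (by rw [QuotientGroup.ker_mk', range_subtype])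
    haveI := hMs
    haveI : (M.map K.subtype).Normal := ⟨by
      rintro _ ⟨x, hx, rfl⟩ g
      have h1 : (c g) x ∈ M := hle (M.map (c g).toMonoidHom) (hMn.map _ (c g).surjective)
        (Group.isSolvable_of_surjective (f := ((c g).subgroupMap M).toMonoidHom)
          ((c g).subgroupMap M).surjective) ⟨x, hx, rfl⟩
      exact ⟨_, h1, by simp [c]⟩⟩
    have h0 := hrad (M.map K.subtype) inferInstance
      (Group.isSolvable_of_surjective (f := (M.equivMapOfInjective _ K.subtype_injective).toMonoidHom)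
        (MulEquiv.surjective _))
    rw [Subgroup.map_eq_bot_iff_of_injective _ K.subtype_injective] at h0
    exact hTne (eq_bot_mono (hle T hTn hs) h0)
  -- all conjugates of `T` coincide
  have hfix : ∀ g, T.map (c g).toMonoidHom = T := by
    intro g
    by_contra hne
    set T' := T.map (c g).toMonoidHom with hTg
    haveI := (hT' g).prop.1
    have hdis : Disjoint T T' := by
      rw [disjoint_iff]
      by_contra h0
      have e1 := hT.le_of_le (y := T ⊓ T') ⟨inferInstance, h0⟩ inf_le_left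
      have e2 := (hT' g).le_of_le (y := T ⊓ T') ⟨inferInstance, h0⟩ inf_le_right
      exact hne (le_antisymm (e2.trans inf_le_left) (e1.trans inf_le_right))
    refine (h.subgroup K).not_two_commuting hTns (fun hs => hTns ?_) hdis
      (fun a ha => mem_centralizer_iff.2 fun b hb =>
        (commute_of_normal_of_disjoint T T' inferInstance inferInstance hdis a b ha hb).eq.symm)
    haveI := hs
    exact Group.isSolvable_of_isSolvable_injective
      (f := (T.equivMapOfInjective (c g).toMonoidHom (c g).injective).toMonoidHom)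
      (MulEquiv.injective _)
  -- so `T = K`, which is simple
  have hTtop : T = ⊤ := by
    haveI : (T.map K.subtype).Normal := ⟨by
      rintro _ ⟨x, hx, rfl⟩ g
      refine ⟨(c g) x, ?_, by simp [c]⟩
      exact hfix g ▸ (⟨x, hx, rfl⟩ : (c g) x ∈ T.map (c g).toMonoidHom)⟩
    have h1 := hK.le_of_le (y := T.map K.subtype) ⟨inferInstance, fun e => hTne (by
      rwa [Subgroup.map_eq_bot_iff_of_injective _ K.subtype_injective] at e)⟩ (map_subtype_le _)
    rw [eq_top_iff]
    intro x _
    obtain ⟨y, hy, e⟩ := h1 x.2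
    exact (Subtype.ext e : y = x) ▸ hy
  haveI hsimple : IsSimpleGroup ↥K := ⟨fun N hN => (eq_or_ne N ⊥).imp id fun hne =>
    top_le_iff.1 (hTtop ▸ hT.le_of_le ⟨hN, hne⟩ (hTtop ▸ le_top))⟩
  refine ⟨K, hKn, hsimple, hKns, ?_⟩
  by_contra hC
  have hCns : ¬ Group.IsSolvable ↥(centralizer (K : Set G)) := fun hs => hC (hrad _ inferInstance hs)
  refine h.not_two_commuting hCns hKns ?_ le_rfl
  rw [disjoint_iff]
  have hZn : ((centralizer (K : Set G) ⊓ K).subgroupOf K).Normal := inferInstance
  rcases hZn.eq_bot_or_eq_top with e | e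
  · rw [subgroupOf_eq_bot] at e
    exact eq_bot_iff.2 fun x hx => disjoint_def.1 e hx hx.2 ▸ one_mem _
  · exfalso
    refine hKns (Group.isSolvable_of_comm fun a b => Subtype.ext ?_)
    exact (mem_centralizer_iff.1 (subgroupOf_eq_top.1 e b.2).1 a a.2)

/-- The last term of the derived series. -/
theorem exists_perfect_derived (G : Type u) [Group G] [Finite G] :
    ∃ n, ⁅derivedSeries G n, derivedSeries G n⁆ = derivedSeries G n := by
  classical
  obtain ⟨n, hn⟩ : ∃ n, ∀ m, Nat.card ↥(derivedSeries G n) ≤ Nat.card ↥(derivedSeries G m) := by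
    have hex : ∃ c, ∃ n, Nat.card ↥(derivedSeries G n) = c := ⟨_, 0, rfl⟩
    obtain ⟨n, hn⟩ := Nat.find_spec hex
    exact ⟨n, fun m => hn ▸ Nat.find_min' hex ⟨m, rfl⟩⟩
  refine ⟨n, ?_⟩
  rw [← derivedSeries_succ]
  exact eq_of_le_of_card_ge (derivedSeries_antitone G n.le_succ) (hn (n + 1))

/-- Two commuting involutions in a quasi-dihedral group. -/
theorem qd_involutions {P : Type*} [Group P] (S : Subgroup P) {k : ℕ} (hk : 3 ≤ k) {x y : ↥S}
    (hx : orderOf x = 2 ^ k) (hy : orderOf y = 2) (hxy : y * x * y⁻¹ = x ^ (2 ^ (k - 1) - 1)) :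
    ∃ a b : P, Commute a b ∧ orderOf a = 2 ∧ orderOf b = 2 ∧ a ≠ b := by
  have hz : orderOf (x ^ 2 ^ (k - 1)) = 2 := by
    rw [orderOf_pow_of_dvd (by positivity) (hx ▸ pow_dvd_pow 2 (by omega)), hx,
      Nat.pow_div (by omega) two_pos, show k - (k - 1) = 1 by omega, pow_one]
  have hzy : y * x ^ 2 ^ (k - 1) * y⁻¹ = x ^ 2 ^ (k - 1) := by
    rw [← conj_pow, hxy, ← pow_mul]
    refine pow_eq_pow_iff_modEq.2 ?_
    rw [hx]
    obtain ⟨l, rfl⟩ : ∃ l, k = l + 3 := ⟨k - 3, by omega⟩
    refine (Nat.modEq_iff_dvd.2 ⟨-(2 ^ (l + 1) - 1 : ℤ), ?_⟩)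
    simp only [show l + 3 - 1 = l + 2 by omega]
    rw [Nat.cast_mul, Nat.cast_sub Nat.one_le_two_pow]
    push_cast
    ring
  refine ⟨(x ^ 2 ^ (k - 1) : ↥S), (y : ↥S),
    (show Commute y _ from mul_inv_eq_iff_eq_mul.1 hzy).symm.map S.subtype,
    by rw [Subgroup.orderOf_coe, hz], by rw [Subgroup.orderOf_coe, hy], fun e1 => ?_⟩
  have e2 : x ^ 2 ^ (k - 1) = y := Subtype.ext e1
  rw [← e2] at hxy
  rw [(Commute.self_pow x _).symm.eq, mul_inv_cancel_right] at hxy
  have h3 := pow_eq_pow_iff_modEq.1 ((pow_one x).trans hxy)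
  rw [hx] at h3
  have h4 : 2 ≤ 2 ^ (k - 1) - 1 := by
    have : 2 ^ 2 ≤ 2 ^ (k - 1) := Nat.pow_le_pow_right two_pos (by omega)
    omega
  have h5 : 2 ^ (k - 1) ≤ 2 ^ k := Nat.pow_le_pow_right two_pos (by omega)
  have := h3.eq_of_lt_of_lt (by omega) (by omega)
  omega

/-- The layer and the radical split. -/
theorem Hyp.split_of_surjective (h : Hyp G) {p : ℕ} [Fact p.Prime] (hp : 5 ≤ p)
    (π : G →* Matrix.ProjectiveSpecialLinearGroup (Fin 2) (ZMod p)) (hπ : Function.Surjective π) :
    ∃ X L : Subgroup G, X.Normal ∧ L.Normal ∧ X ⊓ L = ⊥ ∧ X ⊔ L = ⊤ ∧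
      (Nat.card X).Coprime (Nat.card L) ∧ Odd (Nat.card X) ∧
      (∃ (C : Subgroup ↥X) (_ : C.Normal), IsCyclic C ∧ IsCyclic (↥X ⧸ C)) ∧
      (Nonempty (↥L ≃* Matrix.ProjectiveSpecialLinearGroup (Fin 2) (ZMod p)) ∨
        Nonempty (↥L ≃* Matrix.SpecialLinearGroup (Fin 2) (ZMod p))) := by
  haveI : Fact (Nat.Prime 2) := ⟨Nat.prime_two⟩
  haveI := isSimpleGroup_psl p hp
  set P := Matrix.ProjectiveSpecialLinearGroup (Fin 2) (ZMod p)
  have hPns : ¬ Group.IsSolvable P := fun hs => by
    haveI := hs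
    have hcomm : ∀ a b : P, a * b = b * a := IsSimpleGroup.comm_iff_isSolvable.2 inferInstance
    let A : Matrix.SpecialLinearGroup (Fin 2) (ZMod p) :=
      ⟨!![1, 1; 0, 1], by simp [Matrix.det_fin_two]⟩
    let B : Matrix.SpecialLinearGroup (Fin 2) (ZMod p) :=
      ⟨!![1, 0; 1, 1], by simp [Matrix.det_fin_two]⟩
    obtain ⟨r, -, hr⟩ := Matrix.SpecialLinearGroup.mem_center_iff.1
      ((QuotientGroup.eq (s := center (Matrix.SpecialLinearGroup (Fin 2) (ZMod p)))).1
        (hcomm (QuotientGroup.mk A) (QuotientGroup.mk B)))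
    have h1 : ((A * B * ((A * B)⁻¹ * (B * A)) : Matrix.SpecialLinearGroup (Fin 2) (ZMod p)) :
        Matrix (Fin 2) (Fin 2) (ZMod p)) = (A * B : Matrix.SpecialLinearGroup (Fin 2) (ZMod p)).1 *
          Matrix.scalar (Fin 2) r := by
      rw [Matrix.SpecialLinearGroup.coe_mul, ← hr]
    rw [mul_inv_cancel_left] at h1
    have h00 := congrFun (congrFun h1 0) 0
    have h01 := congrFun (congrFun h1 0) 1
    rw [Matrix.SpecialLinearGroup.coe_mul, Matrix.SpecialLinearGroup.coe_mul,
      show (A : Matrix (Fin 2) (Fin 2) (ZMod p)) = !![1, 1; 0, 1] from rfl,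
      show (B : Matrix (Fin 2) (Fin 2) (ZMod p)) = !![1, 0; 1, 1] from rfl] at h00 h01
    simp [Matrix.mul_apply, Fin.sum_univ_two] at h00 h01
    exact one_ne_zero (α := ZMod p) (by linear_combination -h00 + 2 * h01)
  -- the radical is a Z-group
  set R := π.ker with hR
  have hSR : ∀ S : Sylow 2 G, IsCyclic ↥((S : Subgroup G) ⊓ R : Subgroup G) := by
    intro S
    obtain ⟨C, hC, hi⟩ := h.two S
    haveI := hC
    have hSimg : ¬ IsCyclic ↥((S : Subgroup G).map π) := fun hc =>
      (h.of_surjective π hπ).not_cyclic_two hPns (S.mapSurjective hπ) hc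
    have hle : ((S : Subgroup G) ⊓ R).subgroupOf (S : Subgroup G) ≤ C := by
      by_contra hnot
      obtain ⟨r, hr, hrC⟩ := SetLike.not_le_iff_exists.1 hnot
      refine hSimg ?_
      have hi2 : C.index = 2 := ((Nat.dvd_prime Nat.prime_two).1 hi).resolve_left
        fun e => hrC (by rw [index_eq_one.1 e]; exact mem_top r)
      refine isCyclic_of_surjective ((π.subgroupMap (S : Subgroup G)).comp C.subtype) fun q => ?_
      obtain ⟨s, rfl⟩ := π.subgroupMap_surjective (S : Subgroup G) q
      by_cases hs : s ∈ C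
      · exact ⟨⟨s, hs⟩, rfl⟩
      · refine ⟨⟨s * r, (Subgroup.mul_mem_iff_of_index_two hi2).2 (iff_of_false hs hrC)⟩,
          Subtype.ext ?_⟩
        show π ((s : G) * (r : G)) = π s
        rw [map_mul, MonoidHom.mem_ker.1 (mem_subgroupOf.1 hr).2, mul_one]
    haveI := Subgroup.isCyclic_of_le hle
    exact (subgroupOfEquivOfLe inf_le_left).isCyclic.1 inferInstance
  haveI hZ : IsZGroup ↥R := ⟨fun q hq Q => by
    haveI := Fact.mk hq
    rcases eq_or_ne q 2 with rfl | hq2
    · obtain ⟨S, hS⟩ := (Q.2.map R.subtype).exists_le_sylow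
      haveI := hSR S
      haveI := Subgroup.isCyclic_of_le (le_inf hS (map_subtype_le (Q : Subgroup ↥R)))
      exact ((Q : Subgroup ↥R).equivMapOfInjective _ R.subtype_injective).isCyclic.2 inferInstance
    · exact (h.subgroup R).odd q hq hq2 Q⟩
  -- the perfect residual
  obtain ⟨n, hn⟩ := exists_perfect_derived G
  set L := derivedSeries G n with hL
  haveI : L.Normal := derivedSeries_normal G n
  have hLperf : commutator ↥L = ⊤ := by
    apply map_injective L.subtype_injective
    rw [_root_.commutator_def, map_commutator, ← MonoidHom.range_eq_map, range_subtype, hn]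
  have hLπ : L.map π = ⊤ := by
    have hPperf : commutator P = ⊤ := by
      rcases (inferInstance : (commutator P).Normal).eq_bot_or_eq_top with e | e
      · exfalso
        exact hPns (Group.isSolvable_of_comm fun a b => commutatorElement_eq_one_iff_mul_comm.1
          (mem_bot.1 (e ▸ commutator_mem_commutator (mem_top a) (mem_top b))))
      · exact e
    have hall : ∀ m, derivedSeries P m = ⊤ := fun m => by
      induction m with
      | zero => exact derivedSeries_zero P
      | succ m ih => rw [derivedSeries_succ, ih, ← _root_.commutator_def, hPperf]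
    rw [hL, map_derivedSeries_eq hπ n]
    exact hall n
  have hLR : L ≤ centralizer (R : Set G) :=
    perfect_centralizes_zGroup hLperf (by rw [normalizer_eq_top]; exact le_top)
  -- `L` is `PSL` or `SL`
  set f := π.comp L.subtype with hf
  have hfs : Function.Surjective f := fun q => by
    obtain ⟨x, hx, rfl⟩ := (hLπ ▸ mem_top q : q ∈ L.map π)
    exact ⟨⟨x, hx⟩, rfl⟩
  have hfc : f.ker ≤ center ↥L := fun x hx => mem_center_iff.2 fun y =>
    Subtype.ext (mem_centralizer_iff.1 (hLR y.2) x (MonoidHom.mem_ker.1 hx)).symm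
  obtain ⟨hk2, hiso⟩ := psl_or_sl_of_cover p hp hLperf f hfs hfc
  set Z := L ⊓ R with hZdef
  have hZ2 : Nat.card ↥Z ∣ 2 := by
    refine dvd_trans (dvd_of_eq ?_) hk2
    rw [← Nat.card_congr (subgroupOfEquivOfLe (inf_le_left : L ⊓ R ≤ L)).toEquiv,
      inf_subgroupOf_left]
    rfl
  -- the odd part of `R`
  obtain ⟨D⟩ : Nonempty (Sylow 2 ↥R) := inferInstance
  haveI : IsCyclic ↥(D : Subgroup ↥R) := hZ.isZGroup 2 Nat.prime_two D
  have hnpc : Cfsg.HasNormalPComplement 2 ↥R := by
    by_cases h2 : 2 ∣ Nat.card ↥R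
    · exact Fusion.Abelian.npc_of_normalizer_le_centralizer D
        (IsCyclic.normalizer_le_centralizer ((Nat.minFac_eq_two_iff _).2 h2) inferInstance)
    · exact Fusion.Basic.npc_of_not_dvd h2
  set O := Cfsg.pResidual 2 ↥R with hO
  set X := O.map R.subtype with hX
  have hOodd : Odd (Nat.card ↥O) := Nat.coprime_two_right.1 (Fusion.Basic.npc_iff_coprime.1 hnpc)
  haveI hXn : X.Normal := ⟨by
    rintro _ ⟨x, hx, rfl⟩ g
    refine ⟨(MulAut.conjNormal g : MulAut ↥R) x, ?_, by simp⟩
    exact Fusion.Basic.mem_pResidual_of_coprime (by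
      rw [MulEquiv.orderOf_eq]
      exact (Fusion.Basic.mem_pResidual_iff hnpc).1 hx)⟩
  have hXR : X ≤ R := map_subtype_le _
  have hcardX : Nat.card ↥X = Nat.card ↥O := card_map_of_injective R.subtype_injective
  have hXodd : Odd (Nat.card ↥X) := hcardX ▸ hOodd
  -- a 2-element of `R` lies in `L`
  have h2L : ∀ d ∈ R, ∀ j : ℕ, orderOf d = 2 ^ j → d ∈ L := by
    intro d hdR j hdo
    by_contra hdL
    -- shorten to `d ∉ L` with `d * d ∈ L`
    obtain ⟨d, hdR, hdL, hd2⟩ : ∃ d' ∈ R, d' ∉ L ∧ d' * d' ∈ Z := by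
      have hex : ∃ i, d ^ 2 ^ i ∈ L :=
        ⟨j, by rw [← hdo, pow_orderOf_eq_one]; exact one_mem _⟩
      classical
      have hsp := Nat.find_spec hex
      obtain ⟨i, hi⟩ : ∃ i, Nat.find hex = i + 1 := ⟨Nat.find hex - 1, by
        have : Nat.find hex ≠ 0 := fun e => hdL (by simpa [e] using hsp)
        omega⟩
      refine ⟨d ^ 2 ^ i, pow_mem hdR _, Nat.find_min hex (by omega), mem_inf.2 ⟨?_, ?_⟩⟩
      · rw [← pow_two, ← pow_mul, ← pow_succ, ← hi]; exact hsp
      · exact mul_mem (pow_mem hdR _) (pow_mem hdR _)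
    -- two commuting involutions of the quotient
    obtain ⟨S⟩ : Nonempty (Sylow 2 P) := inferInstance
    obtain ⟨a', b', hab', ha', hb', hne'⟩ : ∃ a b : P, Commute a b ∧ orderOf a = 2 ∧
        orderOf b = 2 ∧ a ≠ b := by
      rcases sylow_two_shape (h.of_surjective π hπ) hPns S with ⟨m, hm, ⟨e⟩⟩ | hqd
      case inr => obtain ⟨k, hk, hc, x, y, hx, hy, hxy⟩ := hqd; exact qd_involutions S hk hx hy hxy
      · haveI : Finite (DihedralGroup m) := Finite.of_equiv _ e.toEquiv
        have hS2 : IsPGroup 2 (DihedralGroup m) := S.2.of_equiv e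
        obtain ⟨k, hk⟩ := hS2.exists_card_eq
        rw [DihedralGroup.nat_card] at hk
        obtain ⟨k, rfl⟩ : ∃ k', k = k' + 2 := ⟨k - 2, by
          have : ¬ k < 2 := fun hlt => by interval_cases k <;> omega
          omega⟩
        have hm' : m = 2 ^ (k + 1) := by rw [pow_succ'] at hk; omega
        haveI : NeZero m := ⟨by omega⟩
        set r : DihedralGroup m := DihedralGroup.r 1 ^ 2 ^ k
        have hro : orderOf r = 2 := by
          have hdvd : 2 ^ k ∣ orderOf (DihedralGroup.r 1 : DihedralGroup m) := by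
            rw [DihedralGroup.orderOf_r_one, hm', pow_succ]
            exact dvd_mul_right _ _
          rw [orderOf_pow_of_dvd (by positivity) hdvd, DihedralGroup.orderOf_r_one, hm', pow_succ,
            Nat.mul_div_cancel_left _ (by positivity)]
        have hcomm : Commute r (DihedralGroup.sr 0) := by
          show r * _ = _ * r
          rw [show r = DihedralGroup.r ((2 ^ k : ℕ) : ZMod m) from DihedralGroup.r_one_pow _,
            DihedralGroup.r_mul_sr, DihedralGroup.sr_mul_r, zero_sub, zero_add]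
          congr 1
          rw [neg_eq_iff_add_eq_zero, ← Nat.cast_add, ← two_mul, ← pow_succ', ← hm',
            ZMod.natCast_self]
        have hne : r ≠ DihedralGroup.sr 0 := by
          rw [show r = DihedralGroup.r ((2 ^ k : ℕ) : ZMod m) from DihedralGroup.r_one_pow _]
          exact fun e => by cases e
        refine ⟨(e.symm r : ↥(S : Subgroup P)), (e.symm (DihedralGroup.sr 0) : ↥(S : Subgroup P)),
          (hcomm.map e.symm).map (S : Subgroup P).subtype, ?_, ?_,
          fun e1 => hne (e.symm.injective (Subtype.ext e1))⟩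
        · rw [Subgroup.orderOf_coe, MulEquiv.orderOf_eq, hro]
        · rw [Subgroup.orderOf_coe, MulEquiv.orderOf_eq, DihedralGroup.orderOf_sr]
    obtain ⟨a, ha⟩ := hfs a'
    obtain ⟨b, hb⟩ := hfs b'
    have hπa : π (a : G) = a' := ha
    have hπb : π (b : G) = b' := hb
    have haa : a' * a' = 1 := (pow_two a').symm.trans (orderOf_dvd_iff_pow_eq_one.1 (dvd_of_eq ha'))
    have hbb : b' * b' = 1 := (pow_two b').symm.trans (orderOf_dvd_iff_pow_eq_one.1 (dvd_of_eq hb'))
    -- the preimage of `⟨a, b, d⟩`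
    set W := closure ({(a : G), (b : G), d} ∪ (Z : Set G)) with hW
    have haW : (a : G) ∈ W := subset_closure (by simp)
    have hbW : (b : G) ∈ W := subset_closure (by simp)
    have hdW : d ∈ W := subset_closure (by simp)
    have hZW : Z ≤ W := fun x hx => subset_closure (Or.inr hx)
    have hZc : ∀ x ∈ L, ∀ z ∈ Z, Commute x z := fun x hx z hz =>
      (mem_centralizer_iff.1 (hLR hx) z hz.2).symm
    have hdc : ∀ x ∈ L, Commute x d := fun x hx => (mem_centralizer_iff.1 (hLR hx) d hdR).symm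
    have hdZ : ∀ z ∈ Z, Commute d z := fun z hz => (hdc z hz.1).symm
    have hnorm : W ≤ normalizer (Z : Set G) := by
      refine le_trans ((closure_le _).2 ?_) (centralizer_le_normalizer _)
      intro x hx
      refine mem_centralizer_iff.2 fun z hz => ?_
      rcases hx with (rfl | rfl | rfl) | hx
      exacts [(hZc _ a.2 z hz).eq.symm, (hZc _ b.2 z hz).eq.symm, (hdZ z hz).eq.symm,
        (hZc x hx.1 z hz).eq.symm]
    set ρ := QuotientGroup.mk' (Z.subgroupOf W) with hρ
    haveI : (Z.subgroupOf W).Normal := (normal_subgroupOf_iff_le_normalizer hZW).2 hnorm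
    have hρeq : ∀ (x y : ↥W), ((x : G)⁻¹ * y ∈ Z) → ρ x = ρ y := fun x y hxy =>
      (QuotientGroup.eq).2 (mem_subgroupOf.2 hxy)
    have hW2 : ∀ x ∈ W, x * x ∈ Z := by
      have hgen : ∀ y ∈ ({(a : G), (b : G), d} : Set G), y * y ∈ Z := by
        rintro y (rfl | rfl | rfl)
        · exact ⟨mul_mem a.2 a.2, MonoidHom.mem_ker.2 (by rw [map_mul, hπa, haa])⟩
        · exact ⟨mul_mem b.2 b.2, MonoidHom.mem_ker.2 (by rw [map_mul, hπb, hbb])⟩
        · exact hd2
      have hcg : ∀ y ∈ ({(a : G), (b : G), d} : Set G), ∀ w ∈ ({(a : G), (b : G), d} : Set G),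
          y * w * y⁻¹ * w⁻¹ ∈ Z := by
        have key : ∀ y w : G, Commute y w → y * w * y⁻¹ * w⁻¹ ∈ Z := fun y w hyw => by
          rw [hyw.eq, mul_inv_cancel_right, mul_inv_cancel]; exact one_mem _
        have hab1 : ∀ y w : ↥L, Commute (π (y : G)) (π (w : G)) →
            (y : G) * w * (y : G)⁻¹ * (w : G)⁻¹ ∈ Z := fun y w hyw =>
          mem_inf.2 ⟨L.mul_mem (L.mul_mem (L.mul_mem y.2 w.2) (L.inv_mem y.2)) (L.inv_mem w.2),
            MonoidHom.mem_ker.2 (by
              rw [map_mul, map_mul, map_mul, map_inv, map_inv, hyw.eq, mul_inv_cancel_right,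
                mul_inv_cancel])⟩
        rintro y (rfl | rfl | rfl) w (rfl | rfl | rfl)
        exacts [key _ _ (Commute.refl _), hab1 a b (by rw [hπa, hπb]; exact hab'), key _ _ (hdc _ a.2),
          hab1 b a (by rw [hπa, hπb]; exact hab'.symm), key _ _ (Commute.refl _), key _ _ (hdc _ b.2),
          key _ _ (hdc _ a.2).symm, key _ _ (hdc _ b.2).symm, key _ _ (Commute.refl _)]
      -- the quotient is commutative of exponent two
      have hall : ∀ (x : G) (hx : x ∈ W), ρ ⟨x, hx⟩ * ρ ⟨x, hx⟩ = 1 ∧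
          ∀ (y : G) (hy : y ∈ W), y ∈ ({(a : G), (b : G), d} : Set G) →
            Commute (ρ ⟨y, hy⟩) (ρ ⟨x, hx⟩) := by
        intro x hx
        induction hx using closure_induction with
        | mem x hxm =>
          rcases hxm with hxm | hxm
          · refine ⟨(QuotientGroup.eq_one_iff _).2 (mem_subgroupOf.2 (hgen x hxm)), fun y hy hym => ?_⟩
            show ρ (⟨y, hy⟩ * ⟨x, _⟩) = ρ (⟨x, _⟩ * ⟨y, hy⟩)
            refine hρeq _ _ ?_
            have h1 := hcg x⁻¹⁻¹ (by rw [inv_inv]; exact hxm) y hym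
            rw [inv_inv] at h1
            have h2 : (y * x)⁻¹ * (x * y) = (y * x)⁻¹ * (x * y * x⁻¹ * y⁻¹) * (y * x) := by group
            show (y * x)⁻¹ * (x * y) ∈ Z
            rw [h2]
            have := (mem_normalizer_iff.1 (hnorm (inv_mem (mul_mem hy
              (subset_closure (Or.inl hxm))))) _).1 h1
            simpa using this
          · have h1 : ρ ⟨x, subset_closure (Or.inr hxm)⟩ = 1 :=
              (QuotientGroup.eq_one_iff _).2 (mem_subgroupOf.2 hxm)
            exact ⟨by rw [h1, one_mul], fun y hy _ => by rw [h1]; exact Commute.one_right _⟩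
        | one =>
          exact ⟨by rw [← map_mul]; exact (QuotientGroup.eq_one_iff _).2 (mem_subgroupOf.2 (by simp)),
            fun y hy _ => (Commute.one_right _).map ρ⟩
        | mul u v hu hv hu' hv' =>
          have huv : Commute (ρ ⟨u, hu⟩) (ρ ⟨v, hv⟩) := by
            clear hv'
            induction hv using closure_induction with
            | mem v hvm =>
              rcases hvm with hvm | hvm
              · exact (hu'.2 v (subset_closure (Or.inl hvm)) hvm).symm
              · rw [show ρ ⟨v, _⟩ = 1 from (QuotientGroup.eq_one_iff _).2 (mem_subgroupOf.2 hvm)]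
                exact Commute.one_right _
            | one => exact (Commute.one_right _).map ρ
            | mul s t hs ht h1 h2 => exact h1.mul_right h2
            | inv s hs h1 => exact h1.inv_right
          refine ⟨?_, fun y hy hym => (hu'.2 y hy hym).mul_right (hv'.2 y hy hym)⟩
          show ρ ⟨u, hu⟩ * ρ ⟨v, hv⟩ * (ρ ⟨u, hu⟩ * ρ ⟨v, hv⟩) = 1
          rw [huv.symm.mul_mul_mul_comm, hu'.1, hv'.1, one_mul]
        | inv u hu hu' =>
          refine ⟨?_, fun y hy hym => (hu'.2 y hy hym).inv_right⟩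
          show (ρ ⟨u, hu⟩)⁻¹ * (ρ ⟨u, hu⟩)⁻¹ = 1
          rw [← mul_inv_rev, hu'.1, inv_one]
      intro x hx
      have h1 := (hall x hx).1
      rw [← map_mul, hρ, QuotientGroup.mk'_apply, QuotientGroup.eq_one_iff, mem_subgroupOf] at h1
      exact h1
    have hW2' : IsPGroup 2 ↥W := fun ⟨x, hx⟩ => ⟨2, Subtype.ext (by
      show x ^ 2 ^ 2 = 1
      rw [show (2 : ℕ) ^ 2 = 2 * 2 from rfl, pow_mul, pow_two x]
      exact orderOf_dvd_iff_pow_eq_one.1
        ((Subgroup.orderOf_dvd_natCard Z (hW2 x hx)).trans hZ2))⟩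
    have hWcard : 8 * Nat.card ↥Z ≤ Nat.card ↥W := by
      classical
      let t : Fin 2 × Fin 2 × Fin 2 × ↥Z → ↥W := fun q =>
        ⟨(a : G) ^ (q.1 : ℕ) * (b : G) ^ (q.2.1 : ℕ) * d ^ (q.2.2.1 : ℕ) * q.2.2.2,
          mul_mem (mul_mem (mul_mem (pow_mem haW _) (pow_mem hbW _)) (pow_mem hdW _))
            (hZW q.2.2.2.2)⟩
      have ht : Function.Injective t := by
        rintro ⟨i, j, l, z⟩ ⟨i', j', l', z'⟩ e
        have e0 : (a : G) ^ (i : ℕ) * (b : G) ^ (j : ℕ) * d ^ (l : ℕ) * z =
            (a : G) ^ (i' : ℕ) * (b : G) ^ (j' : ℕ) * d ^ (l' : ℕ) * z' :=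
          congrArg Subtype.val e
        have e1 := congrArg π e0
        simp only [map_mul, map_pow, hπa, hπb, MonoidHom.mem_ker.1 (show d ∈ π.ker from hdR),
          MonoidHom.mem_ker.1 (show (z : G) ∈ π.ker from z.2.2),
          MonoidHom.mem_ker.1 (show (z' : G) ∈ π.ker from z'.2.2), one_pow, mul_one] at e1
        have ha1 : a' ≠ 1 := fun e2 => by rw [e2, orderOf_one] at ha'; omega
        have hb1 : b' ≠ 1 := fun e2 => by rw [e2, orderOf_one] at hb'; omega
        have hab1 : a' * b' ≠ 1 := fun e2 => hne' (mul_right_cancel (e2.trans hbb.symm))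
        obtain ⟨rfl, rfl⟩ : i = i' ∧ j = j' := by
          have n1 : a' * b' ≠ a' := fun e2 => hb1 (mul_eq_left.1 e2)
          have n2 : a' * b' ≠ b' := fun e2 => ha1 (mul_eq_right.1 e2)
          fin_cases i <;> fin_cases j <;> fin_cases i' <;> fin_cases j' <;>
            first
              | exact ⟨rfl, rfl⟩
              | (simp only [pow_zero, pow_one, one_mul, mul_one] at e1
                 first
                  | exact absurd e1 ha1
                  | exact absurd e1.symm ha1
                  | exact absurd e1 hb1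
                  | exact absurd e1.symm hb1
                  | exact absurd e1 hne'
                  | exact absurd e1.symm hne'
                  | exact absurd e1 hab1
                  | exact absurd e1.symm hab1
                  | exact absurd e1 n1
                  | exact absurd e1.symm n1
                  | exact absurd e1 n2
                  | exact absurd e1.symm n2)
        obtain rfl : l = l' := by
          rw [mul_assoc ((a : G) ^ (i : ℕ) * _), mul_assoc ((a : G) ^ (i : ℕ) * _)] at e0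
          have e2 := mul_left_cancel e0
          fin_cases l <;> fin_cases l' <;> simp at e2 ⊢
          · exact hdL ((L.mul_mem_cancel_right z'.2.1).1 (e2 ▸ z.2.1))
          · exact hdL ((L.mul_mem_cancel_right z.2.1).1 (e2 ▸ z'.2.1))
        rw [Subtype.ext (mul_left_cancel e0)]
      have h1 := Nat.card_le_card_of_injective t ht
      simp only [Nat.card_prod, Nat.card_fin] at h1
      omega
    obtain ⟨C, hC, hi⟩ := h.cyclicMax_of_pGroup hW2'
    haveI := hC
    obtain ⟨⟨⟨w, hwW⟩, hwC⟩, hwg⟩ := IsCyclic.exists_generator (α := ↥C)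
    have hwo : orderOf w ∣ 2 * Nat.card ↥Z := orderOf_dvd_of_pow_eq_one (by
      rw [pow_mul, pow_two]
      exact orderOf_dvd_iff_pow_eq_one.1 (Subgroup.orderOf_dvd_natCard Z (hW2 w hwW)))
    have hC4 : Nat.card ↥C = orderOf w := by
      rw [← orderOf_eq_card_of_forall_mem_zpowers hwg, Subgroup.orderOf_mk, Subgroup.orderOf_mk]
    have h1 := C.card_mul_index
    have h2 : C.index ≤ 2 := Nat.le_of_dvd two_pos hi
    have h3 := Nat.le_of_dvd (Nat.mul_pos two_pos Nat.card_pos) hwo
    have h4 := Nat.card_pos (α := ↥Z)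
    nlinarith [Nat.mul_le_mul_left (Nat.card ↥C) h2]
  -- the decomposition
  have hdis : X ⊓ L = ⊥ := (eq_bot_iff_forall _).2 fun x hx =>
    orderOf_eq_one_iff.1 (Nat.eq_one_of_dvd_coprimes (Nat.coprime_two_right.2 hXodd)
      (Subgroup.orderOf_dvd_natCard X hx.1)
      ((Subgroup.orderOf_dvd_natCard Z (mem_inf.2 ⟨hx.2, hXR hx.1⟩)).trans hZ2))
  refine ⟨X, L, hXn, inferInstance, hdis, ?_, ?_, hXodd, ?_, hiso⟩
  · rw [eq_top_iff]
    intro g _
    obtain ⟨l, hl⟩ := hfs (π g)
    have hlR : (l : G)⁻¹ * g ∈ R := by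
      rw [MonoidHom.mem_ker, map_mul, map_inv, show π (l : G) = π g from hl, inv_mul_cancel]
    obtain ⟨c, hc, u, hu, hcu⟩ := Fusion.Basic.exists_eq_pResidual_mul D ⟨_, hlR⟩
    have huL : (u : G) ∈ L := by
      obtain ⟨j, hj⟩ := D.2.exists_orderOf_eq_pow ⟨u, hu⟩
      rw [Subgroup.orderOf_mk] at hj
      exact h2L u u.2 j ((Subgroup.orderOf_coe u).trans hj)
    rw [show g = (l : G) * ((l : G)⁻¹ * g) by group,
      show (l : G)⁻¹ * g = (c : G) * u from congrArg Subtype.val hcu]
    exact mul_mem (mem_sup_right l.2)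
      (mul_mem (mem_sup_left ⟨c, hc, rfl⟩) (mem_sup_right huL))
  · refine Nat.coprime_of_dvd fun r hr hrX hrL => ?_
    haveI := Fact.mk hr
    have hr2 : r ≠ 2 := fun e => by
      subst e
      exact Nat.not_even_iff_odd.2 hXodd (even_iff_two_dvd.2 hrX)
    obtain ⟨⟨x, hx⟩, hxo⟩ := exists_prime_orderOf_dvd_card' (G := ↥X) r hrX
    obtain ⟨⟨y, hy⟩, hyo⟩ := exists_prime_orderOf_dvd_card' (G := ↥L) r hrL
    rw [Subgroup.orderOf_mk] at hxo hyo
    have hxy : Commute x y := mem_centralizer_iff.1 (hLR hy) x (hXR hx)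
    have hyx := h.mem_zpowers_of_commute hr hr2 hxy hxo (hyo ▸ pow_orderOf_eq_one y)
    have : y ∈ X ⊓ L := ⟨zpowers_le.2 hx hyx, hy⟩
    rw [hdis, mem_bot] at this
    rw [this, orderOf_one] at hyo
    exact hr.ne_one hyo.symm
  · haveI : IsZGroup ↥X := IsZGroup.of_injective (f := inclusion hXR) (inclusion_injective _)
    refine ⟨commutator ↥X, inferInstance, IsZGroup.isCyclic_commutator _, ?_⟩
    exact (inferInstance : IsCyclic (Abelianization ↥X))

/-- The theorem, from the two facts about simple groups. -/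
theorem structure_of (hD : GWDihedral.SimpleDihedral.{u}) (hQ : NoQuasiDihedral.{u})
    (h : Hyp G) (hns : ¬ Group.IsSolvable G) :
    ∃ G₀ : Subgroup G, G₀.Normal ∧ G₀.index ∣ 2 ∧
      ∃ X L : Subgroup ↥G₀, X.Normal ∧ L.Normal ∧ X ⊓ L = ⊥ ∧ X ⊔ L = ⊤ ∧
        (Nat.card X).Coprime (Nat.card L) ∧ Odd (Nat.card X) ∧
        (∃ (C : Subgroup ↥X) (_ : C.Normal), IsCyclic C ∧ IsCyclic (↥X ⧸ C)) ∧
        ∃ (p : ℕ) (_ : Fact p.Prime), 5 ≤ p ∧
          (Nonempty (↥L ≃* Matrix.ProjectiveSpecialLinearGroup (Fin 2) (ZMod p)) ∨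
           Nonempty (↥L ≃* Matrix.SpecialLinearGroup (Fin 2) (ZMod p))) := by
  obtain ⟨R, -, hR⟩ := Finite.exists_le_maximal
    (p := fun N : Subgroup G => N.Normal ∧ Group.IsSolvable ↥N) (a := ⊥)
    ⟨inferInstance, inferInstance⟩
  obtain ⟨hRn, hRs⟩ := hR.prop
  haveI := hRn
  haveI := hRs
  set π := QuotientGroup.mk' R
  have hrad : ∀ N : Subgroup (G ⧸ R), N.Normal → Group.IsSolvable ↥N → N = ⊥ := by
    intro N hN hNs
    haveI := hNs
    have hle : R ≤ N.comap π := fun x hx => by
      rw [mem_comap, show π x = 1 from (QuotientGroup.eq_one_iff x).2 hx]; exact one_mem _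
    have hsol : Group.IsSolvable ↥(N.comap π) :=
      Group.isSolvable_of_ker_le_range (inclusion hle) (π.subgroupComap N) fun x hx => by
        have h1 : π (x : G) = 1 := congrArg Subtype.val (MonoidHom.mem_ker.1 hx)
        exact ⟨⟨x, (QuotientGroup.eq_one_iff _).1 h1⟩, rfl⟩
    have h1 := hR.le_of_ge ⟨hN.comap π, hsol⟩ hle
    rw [← map_comap_eq_self_of_surjective (f := π) (QuotientGroup.mk'_surjective R) N, eq_bot_iff]
    rintro _ ⟨x, hx, rfl⟩
    exact (QuotientGroup.eq_one_iff x).2 (h1 hx)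
  haveI : Nontrivial (G ⧸ R) := by
    by_contra hn
    rw [not_nontrivial_iff_subsingleton] at hn
    exact hns (Group.isSolvable_of_ker_le_range R.subtype π
      (by rw [QuotientGroup.ker_mk', range_subtype]))
  obtain ⟨K, hKn, hKs, hKns, hKC⟩ := (h.quotient R).exists_simple_socle hrad
  obtain ⟨p, hpf, hp5, ⟨e⟩⟩ := exists_psl_of_simple hD hQ ((h.quotient R).subgroup K) hKns
  haveI := hpf
  haveI := hKn
  refine ⟨K.comap π, inferInstance, ?_, ?_⟩
  · rw [index_comap_of_surjective _ (QuotientGroup.mk'_surjective R)]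
    exact index_dvd_two_of_centralizer_eq_bot p hp5 K e hKC
  set f := e.toMonoidHom.comp (π.subgroupComap K)
  obtain ⟨X, L, h1, h2, h3, h4, h5, h6, h7, h8⟩ := (h.subgroup (K.comap π)).split_of_surjective hp5 f
    (e.surjective.comp (π.subgroupComap_surjective_of_surjective K (QuotientGroup.mk'_surjective R)))
  exact ⟨X, L, h1, h2, h3, h4, h5, h6, h7, p, hpf, hp5, h8⟩

end CfsgLib.AlmostCyclic
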