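import Cfsg.Agent.Lib.AlmostCyclic.Local
import Cfsg.Agent.Lib.Classical.SL2Sylow
import Cfsg.Agent.Lib.KnownA.PSLMultiplier
import Cfsg.Agent.Lib.Involution.ZStar.Basic

/-!
# A section `SL(2,p)` above the odd core, cyclic Sylow subgroups

The prime 3 occurs only in the section, and for `p = 5` the Sylow 5-subgroups number six, each
normalised by an element of order divisible by four.
-/

set_option autoImplicit false
set_option linter.unusedSectionVars false
set_option linter.style.haveILetI false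

namespace CfsgLib.AlmostCyclic

open Subgroup CfsgLib.Involution.ZStar
open scoped MatrixGroups

instance instNormalOddCore {C : Type*} [Group C] : (Cfsg.oddCore C).Normal :=
  Cfsg.pPrimeCore_normal 2 C

/-- Elements of `SL(2,5)`: the upper and lower unipotent and a diagonal of order four. -/
private def fA : SL(2, ZMod 5) := ⟨!![1, 1; 0, 1], by decide⟩
private def fB : SL(2, ZMod 5) := ⟨!![1, 0; 1, 1], by decide⟩
private def fW : SL(2, ZMod 5) := ⟨!![2, 0; 0, 3], by decide⟩

private theorem five_facts : (fA ^ 5 = 1 ∧ fA ≠ 1) ∧ (fB ^ 5 = 1 ∧ fB ≠ 1) ∧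
    (¬ fW ^ 2 ^ 1 = 1 ∧ fW ^ 2 ^ (1 + 1) = 1) ∧ fW * fA * fW⁻¹ = fA ^ 4 ∧
    (∀ t : Fin 5, fA ^ (t : ℕ) ≠ fB) := by
  decide +kernel

variable {C : Type*} [Group C] [Finite C] (h : Hyp C) {p : ℕ} [hp : Fact p.Prime]
  (e : ↥(commutator (C ⧸ Cfsg.oddCore C)) ≃* SL(2, ZMod p)) (hp5 : 5 ≤ p)
include e hp5

theorem perfect_section :
    ⁅commutator (C ⧸ Cfsg.oddCore C), commutator (C ⧸ Cfsg.oddCore C)⁆ =
      commutator (C ⧸ Cfsg.oddCore C) := by
  have h1 : commutator ↥(commutator (C ⧸ Cfsg.oddCore C)) = ⊤ := by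
    apply map_injective (f := e.toMonoidHom) e.injective
    rw [_root_.commutator_def (↥(commutator (C ⧸ Cfsg.oddCore C))), map_commutator, map_top_of_surjective _ e.surjective,
      ← _root_.commutator_def, KnownA.PSLMultiplier.sl_two_perfect (by rw [ZMod.card]; omega)]
  have h2 := congrArg (Subgroup.map (commutator (C ⧸ Cfsg.oddCore C)).subtype) h1
  rwa [_root_.commutator_def (↥(commutator (C ⧸ Cfsg.oddCore C))), map_commutator,
    ← MonoidHom.range_eq_map, range_subtype] at h2

theorem card_section : Nat.card ↥(commutator (C ⧸ Cfsg.oddCore C)) = p * (p ^ 2 - 1) :=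
  (Nat.card_congr e.toEquiv).trans (CfsgLib.Classical.card_sl2 (ZMod.card p))

include h

/-- A prime dividing the section does not divide the odd core. -/
theorem not_dvd_oddCore {r : ℕ} [hr : Fact r.Prime] (hr2 : r ≠ 2)
    (hdvd : r ∣ p * (p ^ 2 - 1)) : ¬ r ∣ Nat.card ↥(Cfsg.oddCore C) := by
  intro hO
  set π := QuotientGroup.mk' (Cfsg.oddCore C)
  set L := commutator (C ⧸ Cfsg.oddCore C)
  set g := π.subgroupComap L
  have hgs : Function.Surjective g :=
    π.subgroupComap_surjective_of_surjective L (QuotientGroup.mk'_surjective _)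
  obtain ⟨R⟩ : Nonempty (Sylow r ↥(L.comap π)) := inferInstance
  haveI := (h.subgroup (L.comap π)).odd r hr.out hr2 R
  let eq := QuotientGroup.quotientKerEquivOfSurjective g hgs
  have hperf : commutator (↥(L.comap π) ⧸ g.ker) = ⊤ := by
    apply map_injective (f := (eq.trans e).toMonoidHom) (eq.trans e).injective
    rw [_root_.commutator_def, map_commutator, map_top_of_surjective _ (eq.trans e).surjective,
      ← _root_.commutator_def, KnownA.PSLMultiplier.sl_two_perfect (by rw [ZMod.card]; omega)]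
  have hker : g.ker = (Cfsg.oddCore C).subgroupOf (L.comap π) := by
    ext x
    rw [MonoidHom.mem_ker, mem_subgroupOf, Subtype.ext_iff]
    exact QuotientGroup.eq_one_iff (x : C)
  have hle : Cfsg.oddCore C ≤ L.comap π := fun x hx => by
    rw [mem_comap, show π x = 1 from (QuotientGroup.eq_one_iff x).2 hx]; exact one_mem _
  refine not_dvd_index R g.ker hperf ?_ ?_
  · rwa [hker, Nat.card_congr (subgroupOfEquivOfLe hle).toEquiv]
  · rw [index_eq_card, Nat.card_congr (eq.trans e).toEquiv,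
      CfsgLib.Classical.card_sl2 (ZMod.card p)]
    exact hdvd

/-- The `r`-part of `|C|` is that of the section, for an odd prime `r` dividing the section. -/
theorem pow_dvd_section {r : ℕ} [hr : Fact r.Prime] (hr2 : r ≠ 2) (hdvd : r ∣ p * (p ^ 2 - 1))
    {j : ℕ} (hj : r ^ j ∣ Nat.card C) : r ^ j ∣ p * (p ^ 2 - 1) := by
  set π := QuotientGroup.mk' (Cfsg.oddCore C)
  set L := commutator (C ⧸ Cfsg.oddCore C)
  have hO := not_dvd_oddCore h e hp5 hr2 hdvd
  obtain ⟨R⟩ : Nonempty (Sylow r C) := inferInstance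
  haveI := (h.quotient (Cfsg.oddCore C)).odd r hr.out hr2 (R.mapSurjective (QuotientGroup.mk'_surjective _))
  have hRL := le_commutator (R.mapSurjective (QuotientGroup.mk'_surjective (Cfsg.oddCore C)))
    (by rw [card_section e hp5]; exact hdvd)
  -- `R` meets the odd core trivially
  have hinj : Function.Injective (π.subgroupMap (R : Subgroup C)) := by
    refine (MonoidHom.ker_eq_bot_iff _).1 ((eq_bot_iff_forall _).2 fun x hx => ?_)
    have hxO : (x : C) ∈ Cfsg.oddCore C :=
      (QuotientGroup.eq_one_iff _).1 (congrArg Subtype.val (MonoidHom.mem_ker.1 hx))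
    obtain ⟨n, hn⟩ := R.2.exists_orderOf_eq_pow x
    refine orderOf_eq_one_iff.1 (Nat.eq_one_of_dvd_coprimes
      (Nat.Coprime.pow_left n (hr.out.coprime_iff_not_dvd.2 hO)) hn.dvd ?_)
    rw [← Subgroup.orderOf_coe]
    exact Subgroup.orderOf_dvd_natCard _ hxO
  have hcard : Nat.card ↥((R : Subgroup C).map π) = Nat.card ↥(R : Subgroup C) :=
    (Nat.card_eq_of_bijective _ ⟨hinj, π.subgroupMap_surjective _⟩).symm
  calc r ^ j ∣ Nat.card ↥(R : Subgroup C) := by
        rw [R.card_eq_multiplicity]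
        exact pow_dvd_pow r ((hr.out.pow_dvd_iff_le_factorization Nat.card_pos.ne').1 hj)
    _ = Nat.card ↥((R : Subgroup C).map π) := hcard.symm
    _ ∣ Nat.card ↥L := card_dvd_of_le hRL
    _ = p * (p ^ 2 - 1) := card_section e hp5

omit hp5

set_option maxHeartbeats 800000 in
/-- For `p = 5`: six Sylow 5-subgroups, and an element of order divisible by four normalising one. -/
theorem sylow_five (hp5 : p = 5) (X : Sylow p C) :
    (normalizer ((X : Subgroup C) : Set C)).index = 6 ∧
      ∃ g ∈ normalizer ((X : Subgroup C) : Set C), 4 ∣ orderOf g := by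
  subst hp5
  set π := QuotientGroup.mk' (Cfsg.oddCore C)
  have hπs : Function.Surjective π := QuotientGroup.mk'_surjective _
  set L := commutator (C ⧸ Cfsg.oddCore C) with hL
  have hdvd5 : 5 ∣ 5 * (5 ^ 2 - 1) := dvd_mul_right _ _
  have hO := not_dvd_oddCore h e le_rfl (by norm_num) hdvd5
  have h25 : ¬ 5 ^ 2 ∣ Nat.card C := fun h' => by
    have := pow_dvd_section h e le_rfl (by norm_num) hdvd5 h'
    norm_num at this
  have hXcard : ∀ (Y : Subgroup C), IsPGroup 5 ↥Y → Nat.card ↥Y ∣ 5 := fun Y hY => by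
    obtain ⟨n, hn⟩ := hY.exists_card_eq
    rw [hn]
    refine (Nat.pow_dvd_pow 5 (show n ≤ 1 from ?_)).trans (by norm_num)
    by_contra hn1
    exact h25 ((pow_dvd_pow 5 (show 2 ≤ n by omega)).trans (hn ▸ card_subgroup_dvd_card Y))
  -- the perfect residual centralises the odd core and contains `X`
  obtain ⟨n, hn⟩ : ∃ n, ⁅derivedSeries C n, derivedSeries C n⁆ = derivedSeries C n := by
    classical
    obtain ⟨n, hn⟩ : ∃ n, ∀ m, Nat.card ↥(derivedSeries C n) ≤ Nat.card ↥(derivedSeries C m) := by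
      have hex : ∃ c, ∃ n, Nat.card ↥(derivedSeries C n) = c := ⟨_, 0, rfl⟩
      obtain ⟨n, hn⟩ := Nat.find_spec hex
      exact ⟨n, fun m => hn ▸ Nat.find_min' hex ⟨m, rfl⟩⟩
    refine ⟨n, ?_⟩
    rw [← derivedSeries_succ]
    exact eq_of_le_of_card_ge (derivedSeries_antitone C n.le_succ) (hn (n + 1))
  set D := derivedSeries C n with hDdef
  haveI : D.Normal := derivedSeries_normal C n
  have hLD : L ≤ D.map π := by
    rw [hDdef, map_derivedSeries_eq hπs]
    have hall : ∀ m, L ≤ derivedSeries (C ⧸ Cfsg.oddCore C) m := fun m => by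
      induction m with
      | zero => exact le_top
      | succ m ih =>
        rw [derivedSeries_succ]
        exact (perfect_section e le_rfl).ge.trans (commutator_mono ih ih)
    exact hall n
  have h5D : 5 ∣ Nat.card ↥D := by
    refine (dvd_trans ?_ (card_dvd_of_le hLD)).trans (card_map_dvd _ _)
    rw [card_section e le_rfl]; exact hdvd5
  have hXD : ∀ Y : Sylow 5 C, (Y : Subgroup C) ≤ D := by
    intro Y
    obtain ⟨R⟩ : Nonempty (Sylow 5 ↥D) := inferInstance
    obtain ⟨Y', hY'⟩ := (R.2.map D.subtype).exists_le_sylow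
    have hRne : 5 ∣ Nat.card ↥((R : Subgroup ↥D).map D.subtype) := by
      rw [card_map_of_injective D.subtype_injective]; exact R.dvd_card_of_dvd_card h5D
    have heq : (R : Subgroup ↥D).map D.subtype = (Y' : Subgroup C) :=
      eq_of_le_of_card_ge hY' ((Nat.le_of_dvd (by norm_num) (hXcard _ Y'.2)).trans
        (Nat.le_of_dvd Nat.card_pos hRne))
    obtain ⟨g, rfl⟩ := MulAction.exists_smul_eq C Y' Y
    intro y hy
    rw [Sylow.coe_subgroup_smul] at hy
    obtain ⟨y₀, hy₀, rfl⟩ := hy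
    exact (inferInstance : D.Normal).conj_mem y₀ (map_subtype_le _ (heq ▸ hy₀)) g
  have hDperf : commutator ↥D = ⊤ := by
    apply map_injective D.subtype_injective
    rw [_root_.commutator_def, map_commutator, ← MonoidHom.range_eq_map, range_subtype, hn]
  haveI : IsZGroup ↥(Cfsg.oddCore C) := ⟨fun q hq P => by
    haveI := Fact.mk hq
    rcases eq_or_ne q 2 with rfl | hq2
    · haveI : Subsingleton ↥(P : Subgroup ↥(Cfsg.oddCore C)) := by
        rw [← Finite.card_le_one_iff_subsingleton]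
        obtain ⟨j, hj⟩ := P.2.exists_card_eq
        rcases j with _ | j
        · exact hj.le
        · exact absurd (even_iff_two_dvd.2 ((dvd_pow_self 2 j.succ_ne_zero).trans
            (hj ▸ card_subgroup_dvd_card (P : Subgroup ↥(Cfsg.oddCore C)))))
            (Nat.not_even_iff_odd.2 odd_card_oddCore)
      infer_instance
    · exact (h.subgroup _).odd q hq hq2 P⟩
  have hcen : D ≤ centralizer (Cfsg.oddCore C : Set C) :=
    perfect_centralizes_zGroup hDperf (by rw [normalizer_eq_top]; exact le_top)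
  -- normalisers are read off in the quotient
  have hlift : ∀ (Y : Sylow 5 C) (g : C),
      π g ∈ normalizer (((Y : Subgroup C).map π : Subgroup (C ⧸ Cfsg.oddCore C)) : Set _) →
        g ∈ normalizer ((Y : Subgroup C) : Set C) := by
    intro Y g hg
    rw [mem_normalizer_iff_map_conj_eq]
    refine eq_of_le_of_card_ge ?_ (le_of_eq ?_)
    · rintro _ ⟨y, hy, rfl⟩
      have h1 := (mem_normalizer_iff.1 hg (π y)).1 ⟨y, hy, rfl⟩
      rw [← map_inv, ← map_mul, ← map_mul] at h1
      obtain ⟨y', hy', he⟩ := h1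
      have ho : y'⁻¹ * (g * y * g⁻¹) ∈ Cfsg.oddCore C := (QuotientGroup.eq).1 he
      set o := y'⁻¹ * (g * y * g⁻¹) with hodef
      have hyo : g * y * g⁻¹ = y' * o := by rw [hodef, mul_inv_cancel_left]
      have hcomm : Commute y' o := (mem_centralizer_iff.1 (hcen (hXD Y hy')) o ho).symm
      have hy5 : ∀ t ∈ (Y : Subgroup C), t ^ 5 = 1 := fun t ht =>
        orderOf_dvd_iff_pow_eq_one.1 ((Subgroup.orderOf_dvd_natCard _ ht).trans (hXcard _ Y.2))
      have h5 : (y' * o) ^ 5 = 1 := by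
        rw [← hyo, conj_pow, hy5 y hy, mul_one, mul_inv_cancel]
      rw [hcomm.mul_pow, hy5 y' hy', one_mul] at h5
      have ho1 : o = 1 := orderOf_eq_one_iff.1 (Nat.eq_one_of_dvd_coprimes
        ((Nat.Prime.coprime_iff_not_dvd (by norm_num : Nat.Prime 5)).2 hO)
        (orderOf_dvd_of_pow_eq_one h5) (Subgroup.orderOf_dvd_natCard _ ho))
      show g * y * g⁻¹ ∈ (Y : Subgroup C)
      rw [hyo, ho1, mul_one]
      exact hy'
    · rw [card_map_of_injective (MulAut.conj g).injective]
  have hnorm : normalizer ((X : Subgroup C) : Set C) =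
      (normalizer (((X : Subgroup C).map π : Subgroup (C ⧸ Cfsg.oddCore C)) : Set _)).comap π := by
    refine le_antisymm (fun g hg => ?_) fun g hg => hlift X g hg
    rw [mem_comap, mem_normalizer_iff_map_conj_eq, map_map]
    conv_rhs => rw [← mem_normalizer_iff_map_conj_eq.1 hg, map_map]
    congr 1
  -- the section
  obtain ⟨⟨hA1, hA2⟩, ⟨hB1, hB2⟩, ⟨hW1, hW2⟩, hconjW, hAB⟩ := five_facts
  have hA : orderOf fA = 5 := orderOf_eq_prime hA1 hA2
  have hB : orderOf fB = 5 := orderOf_eq_prime hB1 hB2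
  have hW : orderOf fW = 4 := orderOf_eq_prime_pow (p := 2) (n := 1) hW1 hW2
  have hcardL : Nat.card ↥L = 120 := (card_section e le_rfl).trans (by norm_num)
  have h25L : ¬ 5 ^ 2 ∣ Nat.card ↥L := by rw [hcardL]; norm_num
  obtain ⟨U⟩ : Nonempty (Sylow 5 ↥L) := inferInstance
  have hsyl : ∀ x : SL(2, ZMod 5), orderOf x = 5 → ∃ P : Sylow 5 ↥L,
      (P : Subgroup ↥L) = zpowers (e.symm x) := by
    intro x hx
    obtain ⟨P, hP⟩ := (IsPGroup.of_card (n := 1) (show Nat.card ↥(zpowers (e.symm x)) = 5 ^ 1 by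
      rw [Nat.card_zpowers, e.symm.orderOf_eq, hx, pow_one])).exists_le_sylow
    refine ⟨P, (eq_of_le_of_card_ge hP ?_).symm⟩
    rw [Nat.card_zpowers, e.symm.orderOf_eq, hx]
    obtain ⟨j, hj⟩ := P.2.exists_card_eq
    rw [hj]
    refine (Nat.pow_le_pow_right (by norm_num) (show j ≤ 1 from ?_)).trans (by norm_num)
    by_contra hj1
    exact h25L ((pow_dvd_pow 5 (show 2 ≤ j by omega)).trans (hj ▸ card_subgroup_dvd_card _))
  have hn6 : Nat.card (Sylow 5 ↥L) = 6 := by
    have h1 := card_sylow_modEq_one 5 ↥L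
    have h2 := U.card_dvd_index
    have h3 : U.index ∣ 24 := by
      have h4 := (U : Subgroup ↥L).index_mul_card
      obtain ⟨P, hP⟩ := hsyl fA hA
      have h5 : Nat.card ↥(U : Subgroup ↥L) = 5 := by
        rw [U.card_eq_multiplicity, ← P.card_eq_multiplicity, hP, Nat.card_zpowers,
          e.symm.orderOf_eq, hA]
      rw [h5, hcardL] at h4
      exact dvd_of_eq (by omega)
    have h4 : Nat.card (Sylow 5 ↥L) ≠ 1 := by
      intro h1'
      haveI := (Nat.card_eq_one_iff_unique.1 h1').1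
      obtain ⟨P, hP⟩ := hsyl fA hA
      obtain ⟨P', hP'⟩ := hsyl fB hB
      rw [Subsingleton.elim P' P, hP] at hP'
      obtain ⟨l, hl⟩ := mem_zpowers_iff.1 (hP'.symm ▸ mem_zpowers (e.symm fB) :
        e.symm fB ∈ zpowers (e.symm fA))
      rw [← map_zpow] at hl
      have h5 := e.symm.injective hl
      rw [← zpow_mod_orderOf, hA] at h5
      obtain ⟨t, ht⟩ := Int.eq_ofNat_of_zero_le (Int.emod_nonneg l (b := (5 : ℕ)) (by norm_num))
      have htlt : t < 5 := by
        have := Int.emod_lt_of_pos l (b := (5 : ℕ)) (by norm_num)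
        omega
      rw [ht, zpow_natCast] at h5
      exact hAB ⟨t, htlt⟩ h5
    have h5 := h2.trans h3
    have h6 : Nat.card (Sylow 5 ↥L) ≤ 24 := Nat.le_of_dvd (by norm_num) h5
    unfold Nat.ModEq at h1
    interval_cases hN : Nat.card (Sylow 5 ↥L) <;> omega
  -- Sylow subgroups of the quotient lie in the section
  have hYL : ∀ Y : Sylow 5 (C ⧸ Cfsg.oddCore C), (Y : Subgroup (C ⧸ Cfsg.oddCore C)) ≤ L := fun Y => by
    haveI := (h.quotient (Cfsg.oddCore C)).odd 5 (by norm_num) (by norm_num) Y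
    exact le_commutator Y (by rw [card_section e le_rfl]; exact hdvd5)
  let toL : Sylow 5 (C ⧸ Cfsg.oddCore C) → Sylow 5 ↥L := fun Y => Y.subtype (hYL Y)
  have htoL : Function.Bijective toL := by
    refine ⟨fun Y Y' hY => ?_, fun P => ?_⟩
    · refine Sylow.ext ?_
      have h1 := congrArg (fun P : Sylow 5 ↥L => (P : Subgroup ↥L).map L.subtype) hY
      simp only [toL, Sylow.coe_subtype, subgroupOf_map_subtype, inf_eq_left.2 (hYL Y),
        inf_eq_left.2 (hYL Y')] at h1
      exact h1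
    · obtain ⟨Y, hY⟩ := (P.2.map L.subtype).exists_le_sylow
      refine ⟨Y, Sylow.ext (P.3 (Y.subtype (hYL Y)).2 fun x hx => ?_)⟩
      exact mem_subgroupOf.2 (hY ⟨x, hx, rfl⟩)
  have hidx : ∀ Y : Sylow 5 (C ⧸ Cfsg.oddCore C),
      (normalizer (Y : Set (C ⧸ Cfsg.oddCore C))).index = 6 := fun Y =>
    (Sylow.card_eq_index_normalizer Y).symm.trans ((Nat.card_eq_of_bijective toL htoL).trans hn6)
  refine ⟨?_, ?_⟩
  · rw [hnorm, index_comap_of_surjective _ hπs]
    exact hidx (X.mapSurjective hπs)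
  -- an element of order four normalising a Sylow subgroup of the section
  obtain ⟨P, hP⟩ := hsyl fA hA
  obtain ⟨Y, hY⟩ := htoL.2 P
  obtain ⟨c, hc⟩ := MulAction.exists_smul_eq (C ⧸ Cfsg.oddCore C) Y (X.mapSurjective hπs)
  set w : C ⧸ Cfsg.oddCore C := ((e.symm fW : ↥L) : C ⧸ Cfsg.oddCore C) with hwdef
  have hwY : w ∈ normalizer ((Y : Subgroup (C ⧸ Cfsg.oddCore C)) : Set _) := by
    have hYeq : (Y : Subgroup (C ⧸ Cfsg.oddCore C)) = (P : Subgroup ↥L).map L.subtype := by
      rw [← hY]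
      simp only [toL, Sylow.coe_subtype, subgroupOf_map_subtype, inf_eq_left.2 (hYL Y)]
    rw [mem_normalizer_iff_map_conj_eq, hYeq, hP, MonoidHom.map_zpowers, MonoidHom.map_zpowers]
    refine eq_of_le_of_card_ge (zpowers_le.2 ?_) (le_of_eq ?_)
    · refine mem_zpowers_iff.2 ⟨4, ?_⟩
      show ((e.symm fA : ↥L) : C ⧸ Cfsg.oddCore C) ^ (4 : ℤ) = w * (e.symm fA : ↥L) * w⁻¹
      rw [zpow_ofNat, hwdef, ← Subgroup.coe_inv, ← Subgroup.coe_mul, ← Subgroup.coe_mul,
        ← map_inv, ← map_mul, ← map_mul, hconjW, map_pow, Subgroup.coe_pow]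
    · rw [Nat.card_zpowers, Nat.card_zpowers]
      exact ((MulAut.conj w).orderOf_eq _).symm
  obtain ⟨g, hg⟩ := hπs (c * w * c⁻¹)
  refine ⟨g, hlift X g ?_, ?_⟩
  · show π g ∈ normalizer
      (((X.mapSurjective hπs : Sylow 5 (C ⧸ Cfsg.oddCore C)) : Subgroup (C ⧸ Cfsg.oddCore C)) : Set _)
    rw [hg, ← hc, Sylow.coe_subgroup_smul, mem_normalizer_iff_map_conj_eq]
    show ((Y : Subgroup (C ⧸ Cfsg.oddCore C)).map (MulAut.conj c).toMonoidHom).map
      (MulAut.conj (c * w * c⁻¹)).toMonoidHom =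
        (Y : Subgroup (C ⧸ Cfsg.oddCore C)).map (MulAut.conj c).toMonoidHom
    rw [map_map]
    conv_rhs => rw [← mem_normalizer_iff_map_conj_eq.1 hwY, map_map]
    congr 1
    ext x
    show c * w * c⁻¹ * (c * x * c⁻¹) * (c * w * c⁻¹)⁻¹ = c * (w * x * w⁻¹) * c⁻¹
    group
  · refine dvd_trans (dvd_of_eq ?_) (orderOf_map_dvd π g)
    rw [hg, ← MulAut.conj_apply, MulEquiv.orderOf_eq, hwdef, Subgroup.orderOf_coe,
      MulEquiv.orderOf_eq, hW]

end CfsgLib.AlmostCyclic
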