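import Cfsg.Agent.Lib.AlmostCyclic.Lift
import Cfsg.Agent.Lib.SDBlock.Central
import Cfsg.Agent.Lib.Blocks.Eigen

/-!
# The line character and cyclic Sylow subgroups

With a cyclic Sylow `p`-subgroup, `p = |Q|`, no element of order `p` of `C(z)` commutes with an
involution other than `z`, nor, for `p ≠ 3`, with an element of order 4: the line character vanishes
at some `p`-element, is `±1` at its products with such 2-elements, and these values agree modulo 2.
-/

set_option autoImplicit false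
set_option linter.unusedSectionVars false
set_option linter.style.haveILetI false

namespace CfsgLib.AlmostCyclic

open Subgroup CfsgLib.SDBlock

variable {G : Type*} [Group G] [Finite G] {S : Sylow 2 G} {a b z : G} {k : ℕ}
  {σ : centralizer ({z} : Set G) → ℂ} {Q : ℤ}

/-- `z` inside its centralizer. -/
abbrev zC (z : G) : ↥(centralizer ({z} : Set G)) := ⟨z, mem_centralizer_singleton_iff.2 rfl⟩

theorem zC_mem_center (z : G) : zC z ∈ center ↥(centralizer ({z} : Set G)) :=
  mem_center_iff.2 fun c => Subtype.ext (mem_centralizer_singleton_iff.1 c.2)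

theorem orderOf_zC (cfg : Config S a b z k) : orderOf (zC z) = 2 := by
  rw [Subgroup.orderOf_mk]
  refine orderOf_eq_prime (by rw [pow_two]; exact cfg.z_sq) fun e => ?_
  have h1 := cfg.ord_a
  rw [cfg.z_eq] at e
  have h2 := Nat.le_of_dvd (by positivity) (orderOf_dvd_of_pow_eq_one e)
  rw [h1] at h2
  have : 2 ^ (k - 1) < 2 ^ k := Nat.pow_lt_pow_right (by norm_num) (by have := cfg.three_le; omega)
  omega

/-- An involution of `C(z)` other than `z` is conjugate to `b` in `C(z)`. -/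
theorem exists_conj_b (cfg : Config S a b z k) {v : ↥(centralizer ({z} : Set G))}
    (hv : orderOf v = 2) (hvz : v ≠ zC z) :
    ∃ c : ↥(centralizer ({z} : Set G)), c * v * c⁻¹ = ⟨b, cfg.b_mem_C⟩ := by
  obtain ⟨c, ⟨j, hj⟩ | hb⟩ := cfg.two_cases (i := 1) (by rw [hv, pow_one])
  · exfalso
    have hsq : a ^ j * a ^ j = 1 := by
      rw [← hj, ← Subgroup.coe_mul, show c * v * c⁻¹ * (c * v * c⁻¹) = c * (v * v) * c⁻¹ by group,
        ← pow_two, ← hv, pow_orderOf_eq_one, mul_one, mul_inv_cancel, Subgroup.coe_one]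
    rcases cfg.sq_zpow hsq with e | e <;> rw [e] at hj
    · have h1 : c * v * c⁻¹ = 1 := Subtype.ext hj
      rw [conj_eq_one_iff] at h1
      rw [h1, orderOf_one] at hv
      omega
    · have h1 : c * v * c⁻¹ = zC z := Subtype.ext hj
      refine hvz ?_
      rw [mul_inv_eq_iff_eq_mul, ← (mem_center_iff.1 (zC_mem_center z) c)] at h1
      exact mul_left_cancel h1
  · exact ⟨c, Subtype.ext hb⟩

/-- Values at `v * u` and at `u` of the line character cannot be `±1` and `0`. -/
theorem not_parity (l : Line z b σ Q) {u v : ↥(centralizer ({z} : Set G))} {j : ℕ}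
    (hv : orderOf v = 2 ^ j) (hvu : Commute v u) (hu : σ u = 0)
    (hvu' : σ (v * u) = 1 ∨ σ (v * u) = -1) : False := by
  obtain ⟨N, hN⟩ := CfsgLib.Blocks.exists_isPModular Nat.prime_two
  obtain ⟨s, hs, n, ρ, -, hρ⟩ := l.irr
  have h1 := CfsgLib.Blocks.character_mul_congr hN ρ hv hvu
  rw [hρ] at h1
  simp only [hu, mul_zero, sub_zero] at h1
  have h2 : (s : ℂ) * σ (v * u) = 1 ∨ (s : ℂ) * σ (v * u) = -1 := by
    rcases hs with rfl | rfl <;> rcases hvu' with e | e <;> simp [e]
  rcases h2 with e | e <;> rw [e] at h1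
  · exact CfsgLib.Blocks.LI.not_one hN h1
  · exact CfsgLib.Blocks.LI.not_one hN (by simpa using CfsgLib.Blocks.LI.neg h1)

/-- The line character vanishes at some `p`-element. -/
theorem exists_vanishing {p : ℕ} [hp : Fact p.Prime] (l : Line z b σ Q) (hQ : Q.natAbs = p) :
    ∃ (u : ↥(centralizer ({z} : Set G))) (n : ℕ), orderOf u = p ^ n ∧ σ u = 0 := by
  obtain ⟨P, P₀, hle, -, hcard, -, hzero⟩ := l.reg
  obtain ⟨R⟩ : Nonempty (Sylow p ↥P) := inferInstance
  by_contra hall
  push Not at hall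
  have hR : (R : Subgroup ↥P) ≤ P₀.subgroupOf P := fun y hy => by
    by_contra hy0
    obtain ⟨n, hn⟩ := R.2.exists_orderOf_eq_pow ⟨y, hy⟩
    rw [Subgroup.orderOf_mk, ← Subgroup.orderOf_coe] at hn
    exact hall y n hn (hzero y y.2 fun e => hy0 (mem_subgroupOf.2 e))
  refine R.not_dvd_index ((dvd_of_eq ?_).trans (index_dvd_of_le hR))
  have h1 := (P₀.subgroupOf P).card_mul_index
  rw [Nat.card_congr (subgroupOfEquivOfLe hle).toEquiv, hcard, hQ, mul_comm] at h1
  exact (Nat.eq_of_mul_eq_mul_right Nat.card_pos h1).symm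

section

variable {p : ℕ} [hp : Fact p.Prime]

/-- A conjugate of the vanishing element commutes with a given 2-element centralised by a Sylow
`p`-subgroup. -/
theorem exists_vanishing_commute (l : Line z b σ Q) (hQ : Q.natAbs = p)
    {e : ↥(centralizer ({z} : Set G))} (R : Sylow p ↥(centralizer ({z} : Set G)))
    (hR : ∀ y ∈ (R : Subgroup ↥(centralizer ({z} : Set G))), Commute y e) :
    ∃ (u : ↥(centralizer ({z} : Set G))) (n : ℕ),
      orderOf u = p ^ n ∧ Commute u e ∧ σ u = 0 := by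
  obtain ⟨u, n, hn, hu⟩ := exists_vanishing l hQ
  obtain ⟨R₁, hR₁⟩ := (IsPGroup.of_card (n := n)
    (show Nat.card ↥(zpowers u) = p ^ n by rw [Nat.card_zpowers, hn])).exists_le_sylow
  obtain ⟨c, rfl⟩ := MulAction.exists_smul_eq ↥(centralizer ({z} : Set G)) R R₁
  have hmem := hR₁ (mem_zpowers u)
  rw [Sylow.coe_subgroup_smul] at hmem
  obtain ⟨y, hy, hyu⟩ := hmem
  refine ⟨y, n, ?_, hR y hy, ?_⟩
  · rw [← hn, ← hyu]
    exact ((MulAut.conj c).orderOf_eq y).symm
  · rw [← l.conj_eq c y]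
    exact (congrArg σ hyu).trans hu

variable (h : Hyp G) (cfg : Config S a b z k) (l : Line z b σ Q) (hp2 : p ≠ 2) (hQ : Q.natAbs = p)
include h cfg l hp2 hQ

/-- No involution other than `z` commutes with an element of order `p`. -/
theorem invol_eq_zC {x v : ↥(centralizer ({z} : Set G))} (hx : orderOf x = p)
    (hv : orderOf v = 2) (hxv : Commute x v) : v = zC z := by
  by_contra hvz
  obtain ⟨R, hR⟩ := exists_sylow_commute (h.subgroup _) hp2 (zC_mem_center z) (orderOf_zC cfg)
    hx (j := 1) (by rw [hv, pow_one]) hxv (Or.inr (by rw [← pow_two, ← hv, pow_orderOf_eq_one]))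
  obtain ⟨u, n, hn, huv, hu⟩ := exists_vanishing_commute l hQ R hR
  obtain ⟨c, hc⟩ := exists_conj_b cfg hv hvz
  have h1 : Commute (c * u * c⁻¹) (⟨b, cfg.b_mem_C⟩ : ↥(centralizer ({z} : Set G))) := by
    rw [← hc]; exact huv.map (MulAut.conj c).toMonoidHom
  refine not_parity l (u := c * u * c⁻¹) (v := ⟨b, cfg.b_mem_C⟩) (j := 1)
    (by rw [Subgroup.orderOf_mk, cfg.orderOf_b, pow_one]) h1.symm (by rw [l.conj_eq]; exact hu)
    (Or.inl (l.refl _ ⟨((c * u * c⁻¹ : ↥(centralizer ({z} : Set G))) : G),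
      congrArg Subtype.val h1.symm.eq, ?_, rfl⟩))
  rw [Subgroup.orderOf_coe, ← MulAut.conj_apply, MulEquiv.orderOf_eq, hn]
  exact (hp.out.odd_of_ne_two hp2).pow

/-- For `p ≠ 3` no element of order 4 commutes with an element of order `p`. -/
theorem not_commute_four (hp3 : p ≠ 3) {x e : ↥(centralizer ({z} : Set G))} (hx : orderOf x = p)
    (he : orderOf e = 4) : ¬ Commute x e := by
  intro hxe
  obtain ⟨R, hR⟩ := exists_sylow_commute (h.subgroup _) hp2 (zC_mem_center z) (orderOf_zC cfg)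
    hx (j := 2) (by rw [he]; norm_num) hxe (Or.inl hp3)
  obtain ⟨u, n, hn, hue, hu⟩ := exists_vanishing_commute l hQ R hR
  refine not_parity l (j := 2) (by rw [he]; norm_num) hue.symm hu (Or.inr (l.rot _ ?_))
  rw [Subgroup.orderOf_coe, hue.symm.orderOf_mul_eq_mul_orderOf_of_coprime, he]
  · exact dvd_mul_right 4 _
  · rw [he, hn, show 4 = 2 ^ 2 by norm_num]
    exact Nat.Coprime.pow 2 n ((Nat.coprime_primes Nat.prime_two hp.out).2 (Ne.symm hp2))

end

/-- If `r` does not divide `|C(z, b)|`, no involution other than `z` commutes with an element of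
order `r` in `C(z)`. -/
theorem invol_eq_zC_of_not_dvd (h : Hyp G) (cfg : Config S a b z k) {r : ℕ} [hr : Fact r.Prime]
    (hr2 : r ≠ 2) (hw : ¬ r ∣ Nat.card ↥(centralizer ({z, b} : Set G)))
    {x v : ↥(centralizer ({z} : Set G))} (hx : orderOf x = r) (hv : orderOf v = 2)
    (hxv : Commute x v) : v = zC z := by
  by_contra hvz
  obtain ⟨R, hR⟩ := exists_sylow_commute (h.subgroup _) hr2 (zC_mem_center z) (orderOf_zC cfg)
    hx (j := 1) (by rw [hv, pow_one]) hxv (Or.inr (by rw [← pow_two, ← hv, pow_orderOf_eq_one]))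
  obtain ⟨c, hc⟩ := exists_conj_b cfg hv hvz
  obtain ⟨R₁, hR₁⟩ := (IsPGroup.of_card (n := 1)
    (show Nat.card ↥(zpowers x) = r ^ 1 by rw [Nat.card_zpowers, hx, pow_one])).exists_le_sylow
  obtain ⟨g, rfl⟩ := MulAction.exists_smul_eq ↥(centralizer ({z} : Set G)) R R₁
  have hmem := hR₁ (mem_zpowers x)
  rw [Sylow.coe_subgroup_smul] at hmem
  obtain ⟨y, hy, hyx⟩ := hmem
  have h1 : Commute (c * y * c⁻¹) (⟨b, cfg.b_mem_C⟩ : ↥(centralizer ({z} : Set G))) := by
    rw [← hc]; exact (hR y hy).map (MulAut.conj c).toMonoidHom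
  have hmem2 : ((c * y * c⁻¹ : ↥(centralizer ({z} : Set G))) : G) ∈ centralizer ({z, b} : Set G) := by
    refine mem_centralizer_iff.2 fun t ht => ?_
    rcases ht with rfl | rfl
    · exact (mem_centralizer_singleton_iff.1 (c * y * c⁻¹).2).symm
    · exact congrArg Subtype.val h1.symm.eq
  refine hw ((dvd_of_eq ?_).trans (Subgroup.orderOf_dvd_natCard _ hmem2))
  rw [Subgroup.orderOf_coe, ← MulAut.conj_apply, MulEquiv.orderOf_eq, ← hx, ← hyx]
  exact (MulAut.conj g).orderOf_eq y

end CfsgLib.AlmostCyclic
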