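import Cfsg.Agent.Lib.AlmostCyclic.TwoSylow
import Cfsg.Agent.Lib.GWDihedral.Statement
import Mathlib.LinearAlgebra.Matrix.ProjectiveSpecialLinearGroup

/-!
# Simple groups with almost cyclic Sylow subgroups: the reduction

Such a group is `PSL(2,p)`, given the dihedral theorem and the exclusion of quasi-dihedral Sylow
2-subgroups (`NoQuasiDihedral`).
-/

set_option autoImplicit false
set_option linter.unusedSectionVars false
set_option linter.style.haveILetI false

universe u

namespace CfsgLib.AlmostCyclic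

open Subgroup
open scoped MatrixGroups

/-- No simple group of this kind has a quasi-dihedral Sylow 2-subgroup. -/
def NoQuasiDihedral : Prop :=
  ∀ (G : Type u) [Group G] [Finite G] [IsSimpleGroup G], Hyp G → ¬ Group.IsSolvable G →
    ∀ S : Sylow 2 G, ¬ Cfsg.IsQuasiDihedral ↥(S : Subgroup G)

/-- Commuting elements of the same odd prime order generate the same subgroup. -/
theorem Hyp.mem_zpowers_of_commute {G : Type*} [Group G] [Finite G] (h : Hyp G) {p : ℕ}
    (hp : p.Prime) (hp2 : p ≠ 2) {a b : G} (hab : Commute a b) (ha : orderOf a = p)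
    (hb : b ^ p = 1) : b ∈ zpowers a := by
  haveI := Fact.mk hp
  have hPp : IsPGroup p ↥(closure {a, b}) := by
    refine fun ⟨x, hx⟩ => ⟨1, ?_⟩
    rw [pow_one]
    suffices hall : x ^ p = 1 ∧ Commute x a ∧ Commute x b from Subtype.ext hall.1
    induction hx using closure_induction with
    | mem y hy =>
      rcases hy with rfl | rfl
      exacts [⟨ha ▸ pow_orderOf_eq_one y, Commute.refl y, hab⟩, ⟨hb, hab.symm, Commute.refl y⟩]
    | one => exact ⟨one_pow p, Commute.one_left a, Commute.one_left b⟩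
    | mul y w _ hwm hy hw =>
      refine ⟨?_, hy.2.1.mul_left hw.2.1, hy.2.2.mul_left hw.2.2⟩
      have hyw : Commute y w := by
        have hle : closure {a, b} ≤ centralizer ({y} : Set G) := (closure_le _).2 (by
          rintro t (rfl | rfl)
          exacts [mem_centralizer_singleton_iff.2 hy.2.1.symm.eq,
            mem_centralizer_singleton_iff.2 hy.2.2.symm.eq])
        exact (mem_centralizer_singleton_iff.1 (hle hwm)).symm
      rw [hyw.mul_pow, hy.1, hw.1, one_mul]
    | inv y _ hy => exact ⟨by rw [inv_pow, hy.1, inv_one], hy.2.1.inv_left, hy.2.2.inv_left⟩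
  haveI := h.cyclic_of_pGroup hp hp2 hPp
  exact mem_zpowers_of_pow_eq_one_of_le (P := closure {a, b}) (subset_closure (by simp))
    (subset_closure (by simp)) (by rw [ha, hb])

/-- The alternating group of degree 7 has two independent commuting elements of order 3. -/
theorem not_hyp_alt_seven : ¬ Hyp ↥(alternatingGroup (Fin 7)) := by
  intro h
  let a : ↥(alternatingGroup (Fin 7)) :=
    ⟨Equiv.swap 0 1 * Equiv.swap 1 2, Equiv.Perm.mem_alternatingGroup.2 (by decide)⟩
  let b : ↥(alternatingGroup (Fin 7)) :=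
    ⟨Equiv.swap 3 4 * Equiv.swap 4 5, Equiv.Perm.mem_alternatingGroup.2 (by decide)⟩
  haveI : Fact (Nat.Prime 3) := ⟨Nat.prime_three⟩
  have hab : Commute a b := Subtype.ext (by decide +kernel : (a : Equiv.Perm (Fin 7)) * b = b * a)
  have ha : orderOf a = 3 := orderOf_eq_prime (Subtype.ext (by decide +kernel :
    (a : Equiv.Perm (Fin 7)) ^ 3 = 1)) (fun e => by
      have := congrArg (fun t : ↥(alternatingGroup (Fin 7)) => (t : Equiv.Perm (Fin 7)) 1) e
      simp [a] at this
      exact absurd this (by decide))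
  have hb : b ^ 3 = 1 := Subtype.ext (by decide +kernel : (b : Equiv.Perm (Fin 7)) ^ 3 = 1)
  obtain ⟨l, hl⟩ := mem_zpowers_iff.1
    (h.mem_zpowers_of_commute Nat.prime_three (by norm_num) hab ha hb)
  have h1 := congrArg (fun t : ↥(alternatingGroup (Fin 7)) => (t : Equiv.Perm (Fin 7)) 3) hl
  have hfix : (a : Equiv.Perm (Fin 7)) 3 = 3 := by decide
  rw [Subgroup.coe_zpow] at h1
  rw [Equiv.Perm.zpow_apply_eq_self_of_apply_eq_self hfix] at h1
  simp [b] at h1
  exact absurd h1 (by decide)

/-- `PSL(2,·)` of isomorphic fields. -/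
theorem psl_congr {K L : Type*} [Field K] [Field L] (φ : K ≃+* L) :
    Nonempty (Matrix.ProjectiveSpecialLinearGroup (Fin 2) K ≃*
      Matrix.ProjectiveSpecialLinearGroup (Fin 2) L) := by
  let e : SL(2, K) ≃* SL(2, L) :=
    { toFun := Matrix.SpecialLinearGroup.map (φ : K →+* L)
      invFun := Matrix.SpecialLinearGroup.map (φ.symm : L →+* K)
      left_inv := fun A => by ext i j; simp
      right_inv := fun A => by ext i j; simp
      map_mul' := map_mul _ }
  refine ⟨QuotientGroup.congr _ _ e ?_⟩
  ext A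
  constructor
  · rintro ⟨B, hB, rfl⟩
    exact Subgroup.mem_center_iff.2 fun C => by
      obtain ⟨D, rfl⟩ := e.surjective C
      simp only [MonoidHom.coe_coe]
      rw [← map_mul, ← map_mul, Subgroup.mem_center_iff.1 hB D]
  · intro hA
    obtain ⟨B, rfl⟩ := e.surjective A
    refine ⟨B, Subgroup.mem_center_iff.2 fun C => e.injective ?_, rfl⟩
    rw [map_mul, map_mul, Subgroup.mem_center_iff.1 hA (e C)]

/-- A finite field whose `PSL(2)` has cyclic odd Sylow subgroups has prime order. -/
theorem prime_field_of_psl {F : Type*} [Field F] [Fintype F] (hodd : Odd (Fintype.card F))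
    (h : Hyp (Matrix.ProjectiveSpecialLinearGroup (Fin 2) F)) : (Fintype.card F).Prime := by
  obtain ⟨p, hchar⟩ := CharP.exists F
  haveI := hchar
  obtain ⟨n, hp, hn⟩ := FiniteField.card F p
  haveI := Fact.mk hp
  have hp2 : p ≠ 2 := by
    rintro rfl
    rw [hn] at hodd
    exact (Nat.not_even_iff_odd.2 hodd) (even_iff_two_dvd.2 (dvd_pow_self 2 n.ne_zero))
  let T : Multiplicative F →* SL(2, F) :=
    MonoidHom.mk' (fun x => ⟨!![1, x.toAdd; 0, 1], by simp [Matrix.det_fin_two]⟩) fun x y => by
      refine Subtype.ext ?_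
      show (!![1, (x * y).toAdd; 0, 1] : Matrix (Fin 2) (Fin 2) F) =
        !![1, x.toAdd; 0, 1] * !![1, y.toAdd; 0, 1]
      simp [add_comm]
  set U := (QuotientGroup.mk' (center SL(2, F))).comp T
  have hinj : Function.Injective U := (injective_iff_map_eq_one U).2 fun x hx => by
    obtain ⟨r, -, hr⟩ := Matrix.SpecialLinearGroup.mem_center_iff.1
      ((QuotientGroup.eq_one_iff _).1 hx)
    have h01 : Matrix.scalar (Fin 2) r 0 1 = (!![1, x.toAdd; 0, 1] : Matrix (Fin 2) (Fin 2) F) 0 1 :=
      congrFun (congrFun hr 0) 1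
    simp at h01
    exact Multiplicative.toAdd.injective h01.symm
  have h1 : orderOf (U (Multiplicative.ofAdd 1)) = p := by
    rw [orderOf_injective U hinj, orderOf_ofAdd_eq_addOrderOf]
    exact CharP.eq F (CharP.addOrderOf_one F) hchar
  have hall : ∀ x : F, ∃ l : ℤ, (l : F) = x := fun x => by
    obtain ⟨l, hl⟩ := mem_zpowers_iff.1 (h.mem_zpowers_of_commute hp hp2
      (a := U (Multiplicative.ofAdd 1)) (b := U (Multiplicative.ofAdd x))
      ((Commute.all _ _).map U) h1 (by
        rw [← map_pow, ← ofAdd_nsmul, nsmul_eq_mul, CharP.cast_eq_zero, zero_mul, ofAdd_zero,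
          map_one]))
    rw [← map_zpow] at hl
    refine ⟨l, ?_⟩
    have := congrArg Multiplicative.toAdd (hinj hl)
    simpa using this
  have hle : Nat.card F ≤ p := by
    refine le_of_le_of_eq (Nat.card_le_card_of_surjective (fun i : ZMod p => ZMod.castHom dvd_rfl F i)
      fun x => ?_) (Nat.card_zmod p)
    obtain ⟨l, hl⟩ := hall x
    exact ⟨(l : ZMod p), (map_intCast (ZMod.castHom dvd_rfl F) l).trans hl⟩
  rw [Nat.card_eq_fintype_card, hn] at hle
  have hn1 : (n : ℕ) = 1 := by
    by_contra hne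
    have : p ^ 2 ≤ p ^ (n : ℕ) := Nat.pow_le_pow_right hp.pos (by have := n.pos; omega)
    have := hp.two_le
    nlinarith
  rw [hn, hn1, pow_one]
  exact hp

variable {G : Type u} [Group G] [Finite G]

/-- A simple group of this kind is `PSL(2,p)`. -/
theorem exists_psl_of_simple (hD : GWDihedral.SimpleDihedral.{u}) (hQ : NoQuasiDihedral.{u})
    [IsSimpleGroup G] (h : Hyp G) (hns : ¬ Group.IsSolvable G) :
    ∃ (p : ℕ) (_ : Fact p.Prime), 5 ≤ p ∧
      Nonempty (G ≃* Matrix.ProjectiveSpecialLinearGroup (Fin 2) (ZMod p)) := by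
  obtain ⟨S⟩ : Nonempty (Sylow 2 G) := inferInstance
  obtain ⟨m, hm, he⟩ := (sylow_two_shape h hns S).resolve_right (hQ G h hns S)
  have hnc : ¬ IsMulCommutative G := fun hc => hns (Group.isSolvable_of_comm fun a b => mul_comm' a b)
  rcases hD G hnc S m hm he with ⟨F, i1, i2, hodd, h3, ⟨e⟩⟩ | he'
  · have hp := prime_field_of_psl hodd (h.of_surjective e.toMonoidHom e.surjective)
    haveI := Fact.mk hp
    obtain ⟨e'⟩ := psl_congr (ZMod.ringEquivOfPrime F hp rfl).symm
    refine ⟨Fintype.card F, inferInstance, ?_, ⟨e.trans e'⟩⟩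
    have : Fintype.card F ≠ 4 := fun e4 => by rw [e4] at hodd; exact absurd hodd (by decide)
    omega
  · obtain ⟨e⟩ := he'
    exact absurd (h.of_surjective e.toMonoidHom e.surjective) not_hyp_alt_seven

end CfsgLib.AlmostCyclic
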