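import Cfsg.Agent.Lib.AlmostCyclic.Basic

/-!
# Automorphisms of odd order of a 2-group with a cyclic subgroup of index two

The cube of such an automorphism is trivial; if the automorphism itself is not, the group is the
four-group or non-abelian of order 8 with a single involution.
-/

set_option autoImplicit false
set_option linter.unusedSectionVars false
set_option linter.style.haveILetI false

namespace CfsgLib.AlmostCyclic

open Subgroup

namespace TwoAction

variable {T : Type*} [Group T] [Finite T]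

/-- An automorphism of odd order leaving a cyclic subgroup of index two invariant is trivial. -/
theorem eq_one_of_map_eq (hT : IsPGroup 2 T) {φ : MulAut T} (hodd : Odd (orderOf φ))
    {C : Subgroup T} [IsCyclic ↥C] (hC : C.index = 2) (hφ : C.map φ.toMonoidHom = C) : φ = 1 := by
  haveI : Fact (Nat.Prime 2) := ⟨Nat.prime_two⟩
  obtain ⟨⟨g, hg⟩, hgen⟩ := IsCyclic.exists_generator (α := ↥C)
  have hmem : ∀ x ∈ C, ∃ l : ℤ, x = g ^ l := fun x hx => by
    obtain ⟨l, hl⟩ := mem_zpowers_iff.1 (hgen ⟨x, hx⟩)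
    exact ⟨l, (congrArg Subtype.val hl).symm⟩
  obtain ⟨e, he⟩ := hmem (φ g) (hφ ▸ mem_map_of_mem φ.toMonoidHom hg)
  have hit : ∀ m : ℕ, (φ ^ m) g = g ^ (e ^ m) := by
    intro m
    induction m with
    | zero => simp
    | succ m ih =>
      rw [pow_succ', MulAut.mul_apply, ih, map_zpow, he, ← zpow_mul, pow_succ']
  obtain ⟨n, hn⟩ := hT.exists_orderOf_eq_pow g
  have hfixg : φ g = g := by
    have h1 := hit (orderOf φ)
    rw [pow_orderOf_eq_one, MulAut.one_apply] at h1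
    rcases n with _ | n
    · rw [orderOf_eq_one_iff.1 (hn.trans (pow_zero 2)), map_one]
    have hdvd : (orderOf g : ℤ) ∣ e ^ orderOf φ - 1 := by
      rw [orderOf_dvd_iff_zpow_eq_one, zpow_sub, zpow_one, ← h1, mul_inv_cancel]
    have he2 : Odd e := by
      rcases Int.even_or_odd e with ⟨l, rfl⟩ | h
      · exfalso
        have h2 : (2 : ℤ) ∣ (l + l) ^ orderOf φ - 1 := by
          refine dvd_trans ?_ hdvd
          rw [hn]; push_cast; exact dvd_pow_self 2 n.succ_ne_zero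
        have h3 : (2 : ℤ) ∣ (l + l) ^ orderOf φ :=
          dvd_pow ⟨l, by ring⟩ (orderOf_pos φ).ne'
        have h4 := dvd_sub h3 h2
        rw [sub_sub_cancel] at h4
        norm_num at h4
      · exact h
    set s := ∑ i ∈ Finset.range (orderOf φ), e ^ i with hs
    have hsodd : ¬ (2 : ℤ) ∣ s := by
      intro h2
      have h3 : ((s : ℤ) : ZMod 2) = 0 := (ZMod.intCast_zmod_eq_zero_iff_dvd _ 2).2 h2
      rw [hs, Int.cast_sum] at h3
      have he1 : ((e : ℤ) : ZMod 2) = 1 := by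
        obtain ⟨l, rfl⟩ := he2
        push_cast
        rw [show (2 : ZMod 2) = 0 from rfl]
        simp
      simp only [Int.cast_pow, he1, one_pow, Finset.sum_const, Finset.card_range,
        nsmul_eq_mul, mul_one] at h3
      rw [ZMod.natCast_eq_zero_iff_even] at h3
      exact Nat.not_even_iff_odd.2 hodd h3
    rw [← geom_sum_mul, ← hs, hn] at hdvd
    push_cast at hdvd
    have hcop : IsCoprime ((2 : ℤ) ^ (n + 1)) s :=
      ((Int.prime_two.coprime_iff_not_dvd).2 hsodd).pow_left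
    have h5 : ((orderOf g : ℕ) : ℤ) ∣ e - 1 := by
      rw [hn]; push_cast; exact hcop.dvd_of_dvd_mul_left hdvd
    rw [orderOf_dvd_iff_zpow_eq_one, zpow_sub, zpow_one, mul_inv_eq_one] at h5
    rw [he, h5]
  have hfixC : ∀ x ∈ C, φ x = x := fun x hx => by
    obtain ⟨l, rfl⟩ := hmem x hx
    rw [map_zpow, hfixg]
  refine MulEquiv.ext fun x => ?_
  rw [MulAut.one_apply]
  by_cases hx : x ∈ C
  · exact hfixC x hx
  have hφx : φ x ∉ C := fun h => hx (by
    obtain ⟨y, hy, hyx⟩ := (hφ.symm ▸ h : φ x ∈ C.map φ.toMonoidHom)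
    exact φ.injective hyx ▸ hy)
  set d := x⁻¹ * φ x with hd
  have hdC : d ∈ C := (Subgroup.mul_mem_iff_of_index_two hC).2
    (iff_of_false (fun h => hx (inv_inv x ▸ C.inv_mem h)) hφx)
  have hitx : ∀ m : ℕ, (φ ^ m) x = x * d ^ m := by
    intro m
    induction m with
    | zero => simp
    | succ m ih =>
      rw [pow_succ', MulAut.mul_apply, ih, map_mul, map_pow, hfixC d hdC,
        show φ x = x * d from (mul_inv_cancel_left x (φ x)).symm, mul_assoc, ← pow_succ']
  have h1 := hitx (orderOf φ)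
  rw [pow_orderOf_eq_one, MulAut.one_apply, left_eq_mul] at h1
  obtain ⟨j, hj⟩ := hT.exists_orderOf_eq_pow d
  have hd1 : d = 1 := orderOf_eq_one_iff.1 (Nat.eq_one_of_dvd_coprimes
    ((Nat.coprime_two_left.2 hodd).pow_left j) (hj ▸ dvd_rfl) (orderOf_dvd_of_pow_eq_one h1))
  rw [hd, inv_mul_eq_one] at hd1
  exact hd1.symm

variable {C₀ : Subgroup T}

/-- A subgroup of index two is determined by which of two generators it contains. -/
theorem index_two_eq {g h : T} (hgen : closure {g, h} = (⊤ : Subgroup T)) {A B : Subgroup T}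
    (hA : A.index = 2) (hB : B.index = 2) (hg : g ∈ A ↔ g ∈ B) (hh : h ∈ A ↔ h ∈ B) : A = B := by
  ext x
  have hx : x ∈ closure {g, h} := hgen ▸ mem_top x
  induction hx using closure_induction with
  | mem y hy => rcases hy with rfl | rfl; exacts [hg, hh]
  | one => simp
  | mul y w _ _ hy hw =>
    rw [Subgroup.mul_mem_iff_of_index_two hA, Subgroup.mul_mem_iff_of_index_two hB]
    exact iff_congr hy hw
  | inv y _ hy =>
    rw [inv_mem_iff, inv_mem_iff]
    exact hy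

/-- Four distinct patterns avoiding one of the four possible ones do not exist. -/
private theorem four_pattern {a b c d a' b' c' d' : Prop} (hab : ¬ ((a ↔ b) ∧ (a' ↔ b')))
    (hac : ¬ ((a ↔ c) ∧ (a' ↔ c'))) (had : ¬ ((a ↔ d) ∧ (a' ↔ d')))
    (hbc : ¬ ((b ↔ c) ∧ (b' ↔ c'))) (hbd : ¬ ((b ↔ d) ∧ (b' ↔ d')))
    (hcd : ¬ ((c ↔ d) ∧ (c' ↔ d'))) (ha : ¬ (a ∧ a')) (hb : ¬ (b ∧ b')) (hc : ¬ (c ∧ c'))
    (hd : ¬ (d ∧ d')) : False := by
  by_cases a <;> by_cases b <;> by_cases c <;> by_cases d <;> by_cases a' <;> by_cases b' <;>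
    by_cases c' <;> by_cases d' <;> simp_all

/-- The three subgroups of index two. -/
structure Frame (φ : MulAut T) (C₀ C₁ C₂ : Subgroup T) : Prop where
  i₀ : C₀.index = 2
  i₁ : C₁.index = 2
  i₂ : C₂.index = 2
  c₀ : IsCyclic ↥C₀
  c₁ : IsCyclic ↥C₁
  c₂ : IsCyclic ↥C₂
  cube : φ ^ 3 = 1
  third : ∀ x : T, x ∈ C₂ ↔ (x ∈ C₀ ↔ x ∈ C₁)
  ne : C₀ ≠ C₁

theorem exists_frame (hT : IsPGroup 2 T) {φ : MulAut T} (hodd : Odd (orderOf φ)) (hφ : φ ≠ 1)
    [IsCyclic ↥C₀] (hC : C₀.index = 2) : ∃ C₁ C₂, Frame φ C₀ C₁ C₂ := by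
  set C₁ := C₀.map φ.toMonoidHom with hC₁
  set C₂ := C₁.map φ.toMonoidHom with hC₂
  have hidx : ∀ {A : Subgroup T}, A.index = 2 → (A.map φ.toMonoidHom).index = 2 := fun {A} hA =>
    (A.index_map_equiv φ).trans hA
  have hcyc : ∀ {A : Subgroup T}, IsCyclic ↥A → IsCyclic ↥(A.map φ.toMonoidHom) := fun {A} hA =>
    (A.equivMapOfInjective _ φ.injective).isCyclic.1 hA
  have h01 : C₀ ≠ C₁ := fun e => hφ (eq_one_of_map_eq hT hodd hC e.symm)
  have hmap2 : C₂ = C₀.map (φ ^ 2).toMonoidHom := by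
    rw [hC₂, hC₁, map_map]; rfl
  have hodd2 : ∀ j : ℕ, Odd (orderOf (φ ^ j)) := fun j => hodd.of_dvd_nat (orderOf_pow_dvd j)
  have h02 : C₀ ≠ C₂ := by
    intro e
    have h1 := eq_one_of_map_eq hT (hodd2 2) hC (hmap2 ▸ e.symm)
    obtain ⟨l, hl⟩ := hodd
    refine hφ ?_
    have h2 : φ ^ orderOf φ = 1 := pow_orderOf_eq_one φ
    rwa [hl, pow_succ, pow_mul, h1, one_pow, one_mul] at h2
  have h12 : C₁ ≠ C₂ := fun e => h01 (map_injective (f := φ.toMonoidHom) φ.injective e)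
  obtain ⟨⟨g, hg⟩, hgen⟩ := IsCyclic.exists_generator (α := ↥C₀)
  obtain ⟨h, hh⟩ : ∃ h, h ∉ C₀ := by
    by_contra hall
    push Not at hall
    rw [(eq_top_iff' _).2 hall, index_top] at hC
    omega
  have hT2 : closure {g, h} = (⊤ : Subgroup T) := by
    refine (eq_top_iff' _).2 fun x => ?_
    have hC0 : C₀ ≤ closure {g, h} := fun y hy => by
      obtain ⟨l, hl⟩ := mem_zpowers_iff.1 (hgen ⟨y, hy⟩)
      rw [show y = g ^ l from (congrArg Subtype.val hl).symm]
      exact zpow_mem (subset_closure (by simp)) l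
    by_cases hx : x ∈ C₀
    · exact hC0 hx
    have hxh : x * h ∈ C₀ := (Subgroup.mul_mem_iff_of_index_two hC).2 (iff_of_false hx hh)
    rw [← mul_inv_cancel_right x h]
    exact mul_mem (hC0 hxh) (inv_mem (subset_closure (by simp)))
  -- a fourth subgroup coincides with one of the three
  have hnot : ∀ {A : Subgroup T}, A.index = 2 → ¬ (g ∈ A ∧ h ∈ A) := fun {A} hA hgh => by
    rw [(eq_top_iff' A).2 fun x => (closure_le A).2 (by
      rintro y (rfl | rfl)
      exacts [hgh.1, hgh.2]) (hT2 ▸ mem_top x), index_top] at hA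
    omega
  have hfour : ∀ {A : Subgroup T}, A.index = 2 → A = C₀ ∨ A = C₁ ∨ A = C₂ := by
    intro A hA
    by_contra hne
    simp only [not_or] at hne
    obtain ⟨n0, n1, n2⟩ := hne
    have hkey : ∀ {X Y : Subgroup T}, X.index = 2 → Y.index = 2 → X ≠ Y →
        ¬ ((g ∈ X ↔ g ∈ Y) ∧ (h ∈ X ↔ h ∈ Y)) := fun hX hY hne e =>
      hne (index_two_eq hT2 hX hY e.1 e.2)
    have k0 := hkey hA hC n0
    have k1 := hkey hA (hidx hC) n1
    have k2 := hkey hA (hidx (hidx hC)) n2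
    have k01 := hkey hC (hidx hC) h01
    have k02 := hkey hC (hidx (hidx hC)) h02
    have k12 := hkey (hidx hC) (hidx (hidx hC)) h12
    have nA := hnot hA
    have nC0 := hnot hC
    have nC1 := hnot (hidx hC)
    have nC2 := hnot (hidx (hidx hC))
    exact four_pattern k0 k1 k2 k01 k02 k12 nA nC0 nC1 nC2
  refine ⟨C₁, C₂, hC, hidx hC, hidx (hidx hC), inferInstance, hcyc inferInstance,
    hcyc (hcyc inferInstance), ?_, ?_, h01⟩
  · have h3 : C₂.map φ.toMonoidHom = C₀ := by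
      rcases hfour (hidx (A := C₂) (hidx (hidx hC))) with e | e | e
      · exact e
      · exact absurd (map_injective (f := φ.toMonoidHom) φ.injective (e.trans hC₁)) (Ne.symm h02)
      · exact absurd (map_injective (f := φ.toMonoidHom) φ.injective (e.trans hC₂)) (Ne.symm h12)
    refine eq_one_of_map_eq hT (hodd2 3) hC ?_
    conv_rhs => rw [← h3, hmap2, map_map]
    rfl
  · -- the symmetric difference is the third subgroup
    let K : Subgroup T :=
      { carrier := {x | x ∈ C₀ ↔ x ∈ C₁}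
        one_mem' := iff_of_true (one_mem _) (one_mem _)
        mul_mem' := fun {x y} hx hy => by
          show x * y ∈ C₀ ↔ x * y ∈ C₁
          rw [Subgroup.mul_mem_iff_of_index_two hC, Subgroup.mul_mem_iff_of_index_two (hidx hC)]
          exact iff_congr hx hy
        inv_mem' := fun {x} hx => by
          show x⁻¹ ∈ C₀ ↔ x⁻¹ ∈ C₁
          rw [inv_mem_iff, inv_mem_iff]
          exact hx }
    have hKmem : ∀ x, x ∈ K ↔ (x ∈ C₀ ↔ x ∈ C₁) := fun x => Iff.rfl
    obtain ⟨b, hb0, hb1⟩ : ∃ b, b ∈ C₀ ∧ b ∉ C₁ := SetLike.not_le_iff_exists.1 fun hle =>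
      h01 (eq_of_le_of_card_ge hle (by
        rw [card_map_of_injective (f := φ.toMonoidHom) φ.injective]))
    have hK2 : K.index = 2 := by
      refine index_eq_two_iff.2 ⟨b, fun x => ?_⟩
      have m0 : x * b ∈ C₀ ↔ (x ∈ C₀ ↔ b ∈ C₀) := Subgroup.mul_mem_iff_of_index_two hC
      have m1 : x * b ∈ C₁ ↔ (x ∈ C₁ ↔ b ∈ C₁) := Subgroup.mul_mem_iff_of_index_two (hidx hC)
      by_cases hx0 : x ∈ C₀ <;> by_cases hx1 : x ∈ C₁ <;>
        simp [Xor, hKmem, m0, m1, hb0, hb1, hx0, hx1]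
    intro x
    rw [← hKmem]
    rcases hfour hK2 with e | e | e
    · exfalso
      obtain ⟨b', hb1', hb0'⟩ : ∃ b', b' ∈ C₁ ∧ b' ∉ C₀ := SetLike.not_le_iff_exists.1 fun hle =>
        h01 (eq_of_le_of_card_ge hle (by
          rw [card_map_of_injective (f := φ.toMonoidHom) φ.injective])).symm
      exact hb1 (((hKmem b).1 (e ▸ hb0)).1 hb0)
    · exfalso
      obtain ⟨b', hb1', hb0'⟩ : ∃ b', b' ∈ C₁ ∧ b' ∉ C₀ := SetLike.not_le_iff_exists.1 fun hle =>
        h01 (eq_of_le_of_card_ge hle (by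
          rw [card_map_of_injective (f := φ.toMonoidHom) φ.injective])).symm
      exact hb0' (((hKmem b').1 (e ▸ hb1')).2 hb1')
    · rw [e]

variable {φ : MulAut T} {C₁ C₂ : Subgroup T}

/-- The group of a frame is the four-group or non-abelian of order 8 with one involution. -/
theorem Frame.shape (F : Frame φ C₀ C₁ C₂) (hT : IsPGroup 2 T) :
    (Nat.card T = 4 ∧ ∀ x : T, x * x = 1) ∨
      (Nat.card T = 8 ∧ (∃ x y : T, x * y ≠ y * x) ∧
        ∀ u v : T, orderOf u = 2 → orderOf v = 2 → u = v) := by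
  haveI : Fact (Nat.Prime 2) := ⟨Nat.prime_two⟩
  haveI := F.c₀
  haveI := F.c₁
  haveI := F.c₂
  have hcard : ∀ {A : Subgroup T}, A.index = 2 → 2 * Nat.card A = Nat.card T := fun {A} hA => by
    rw [← A.card_mul_index, hA, mul_comm]
  have hcov : ∀ x : T, x ∈ C₀ ∨ x ∈ C₁ ∨ x ∈ C₂ := fun x => by
    by_cases h0 : x ∈ C₀
    · exact Or.inl h0
    by_cases h1 : x ∈ C₁
    · exact Or.inr (Or.inl h1)
    exact Or.inr (Or.inr ((F.third x).2 (iff_of_false h0 h1)))
  obtain ⟨n, hn⟩ := IsPGroup.iff_card.1 hT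
  have h4 : 4 ∣ Nat.card T := by
    rcases n with _ | _ | n
    · have := hcard F.i₀; rw [hn] at this; omega
    · exfalso
      refine F.ne ?_
      have h1 := hcard F.i₀
      have h2 := hcard F.i₁
      rw [hn, pow_succ, pow_zero, one_mul] at h1 h2
      rw [eq_bot_of_card_eq C₀ (by omega), eq_bot_of_card_eq C₁ (by omega)]
    · rw [hn]; exact ⟨2 ^ n, by ring⟩
  by_cases h4' : Nat.card T = 4
  · left
    refine ⟨h4', fun x => ?_⟩
    have key : ∀ {A : Subgroup T}, A.index = 2 → x ∈ A → x * x = 1 := fun {A} hA hx => by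
      have h2 : Nat.card A = 2 := by have := hcard hA; omega
      have := Subgroup.orderOf_dvd_natCard A hx
      rw [h2] at this
      rw [← pow_two]; exact orderOf_dvd_iff_pow_eq_one.1 this
    rcases hcov x with h | h | h
    exacts [key F.i₀ h, key F.i₁ h, key F.i₂ h]
  right
  -- all involutions lie in the intersection
  obtain ⟨⟨g, hg⟩, hgg⟩ := IsCyclic.exists_generator (α := ↥C₀)
  obtain ⟨⟨h, hh⟩, hhg⟩ := IsCyclic.exists_generator (α := ↥C₁)
  have hg' : ∀ x ∈ C₀, ∃ l : ℤ, x = g ^ l := fun x hx => by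
    obtain ⟨l, hl⟩ := mem_zpowers_iff.1 (hgg ⟨x, hx⟩)
    exact ⟨l, (congrArg Subtype.val hl).symm⟩
  have hh' : ∀ x ∈ C₁, ∃ l : ℤ, x = h ^ l := fun x hx => by
    obtain ⟨l, hl⟩ := mem_zpowers_iff.1 (hhg ⟨x, hx⟩)
    exact ⟨l, (congrArg Subtype.val hl).symm⟩
  have hne' : ∀ {A B : Subgroup T}, A.index = 2 → B.index = 2 → A ≠ B → ¬ A ≤ B :=
    fun {A B} hA hB hne hle => hne (eq_of_le_of_card_ge hle
      (Nat.eq_of_mul_eq_mul_left two_pos ((hcard hA).trans (hcard hB).symm)).ge)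
  have hgC₁ : g ∉ C₁ := fun hc => hne' F.i₀ F.i₁ F.ne fun x hx => by
    obtain ⟨l, rfl⟩ := hg' x hx
    exact zpow_mem hc l
  have hhC₀ : h ∉ C₀ := fun hc => hne' F.i₁ F.i₀ (Ne.symm F.ne) fun x hx => by
    obtain ⟨l, rfl⟩ := hh' x hx
    exact zpow_mem hc l
  have hbig : ∀ {A : Subgroup T}, A.index = 2 → 4 ∣ Nat.card A := fun {A} hA => by
    have h1 := hcard hA
    rcases n with _ | _ | _ | n
    · rw [hn] at h4; norm_num at h4
    · rw [hn] at h4; norm_num at h4
    · exact absurd (hn.trans (by norm_num)) h4'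
    · exact ⟨2 ^ n, by rw [hn, pow_succ, pow_succ, pow_succ] at h1; omega⟩
  have hinv₀ : ∀ {A : Subgroup T} [IsCyclic ↥A], A.index = 2 → ∀ u ∈ A, orderOf u = 2 →
      u ∈ C₀ ∧ u ∈ C₁ := by
    intro A _ hA u hu hu2
    obtain ⟨⟨a, ha⟩, hag⟩ := IsCyclic.exists_generator (α := ↥A)
    have hao : orderOf a = Nat.card A := by
      rw [← orderOf_eq_card_of_forall_mem_zpowers hag, Subgroup.orderOf_mk]
    obtain ⟨c, hc⟩ := hbig hA
    have hb : orderOf (a ^ (2 * c)) = 2 := by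
      rw [orderOf_pow_of_dvd (by have := Nat.card_pos (α := ↥A); omega) ⟨2, by rw [hao, hc]; ring⟩,
        hao, hc, show 4 * c = 2 * c * 2 by ring, Nat.mul_div_cancel_left]
      have := Nat.card_pos (α := ↥A); omega
    have huz : u ∈ zpowers (a ^ (2 * c)) := mem_zpowers_of_pow_eq_one_of_le (pow_mem ha _) hu
      (by rw [hb, ← hu2]; exact pow_orderOf_eq_one u)
    have hsq : ∀ {B : Subgroup T}, B.index = 2 → u ∈ B := fun {B} hB => by
      refine (zpowers_le.2 ?_) huz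
      rw [pow_mul]
      exact pow_mem (by rw [pow_two]; exact Subgroup.mul_self_mem_of_index_two hB a) c
    exact ⟨hsq F.i₀, hsq F.i₁⟩
  have hinv : ∀ u : T, orderOf u = 2 → u ∈ C₀ := fun u hu => by
    rcases hcov u with h | h | h
    exacts [h, (hinv₀ F.i₁ u h hu).1, (hinv₀ F.i₂ u h hu).1]
  have huniq : ∀ u v : T, orderOf u = 2 → orderOf v = 2 → u = v := fun u v hu hv => by
    obtain ⟨l, hl⟩ := mem_zpowers_iff.1 (mem_zpowers_of_pow_eq_one_of_le (hinv u hu) (hinv v hv)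
      (by rw [hu, ← hv]; exact pow_orderOf_eq_one v))
    have hu1 : u ^ (2 : ℤ) = 1 := by rw [zpow_ofNat, ← hu]; exact pow_orderOf_eq_one u
    rcases Int.even_or_odd l with ⟨j, rfl⟩ | ⟨j, rfl⟩
    · rw [← two_mul, zpow_mul, hu1, one_zpow] at hl
      rw [← hl, orderOf_one] at hv; omega
    · rw [zpow_add, zpow_mul, hu1, one_zpow, one_mul, zpow_one] at hl
      exact hl
  -- the intersection is central
  have hgen : ∀ x : T, x ∈ closure {g, h} := fun x => by
    have h0 : C₀ ≤ closure {g, h} := fun y hy => by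
      obtain ⟨l, rfl⟩ := hg' y hy
      exact zpow_mem (subset_closure (by simp)) l
    by_cases hx : x ∈ C₀
    · exact h0 hx
    rw [← mul_inv_cancel_right x h]
    exact mul_mem (h0 ((Subgroup.mul_mem_iff_of_index_two F.i₀).2 (iff_of_false hx hhC₀)))
      (inv_mem (subset_closure (by simp)))
  have hcen : ∀ z, z ∈ C₀ → z ∈ C₁ → ∀ x : T, Commute z x := by
    intro z hz0 hz1 x
    have hcg : Commute z g := by obtain ⟨l, rfl⟩ := hg' z hz0; exact (Commute.refl g).zpow_left l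
    have hch : Commute z h := by obtain ⟨l, rfl⟩ := hh' z hz1; exact (Commute.refl h).zpow_left l
    have hle : closure {g, h} ≤ centralizer ({z} : Set T) := (closure_le _).2 (by
      rintro y (rfl | rfl)
      exacts [mem_centralizer_singleton_iff.2 hcg.eq.symm, mem_centralizer_singleton_iff.2 hch.eq.symm])
    exact (mem_centralizer_singleton_iff.1 (hle (hgen x))).symm
  obtain ⟨l, hl⟩ := hg' (h * h) (Subgroup.mul_self_mem_of_index_two F.i₀ h)
  obtain ⟨u, rfl⟩ : ∃ u, l = 2 * u := by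
    rcases Int.even_or_odd l with ⟨j, hj⟩ | ⟨j, rfl⟩
    · exact ⟨j, by omega⟩
    exfalso
    have h1 : g ^ (2 * j + 1) ∈ C₁ := hl ▸ mul_mem hh hh
    rw [zpow_add, zpow_mul, zpow_ofNat, zpow_one, pow_two] at h1
    exact hgC₁ ((C₁.mul_mem_cancel_left
      (C₁.zpow_mem (Subgroup.mul_self_mem_of_index_two F.i₁ g) j)).1 h1)
  set c := g * h * g⁻¹ * h⁻¹ with hc
  have hc0 : c ∈ C₀ := by
    haveI := normal_of_index_eq_two F.i₀
    rw [show c = g * (h * g⁻¹ * h⁻¹) by rw [hc]; group]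
    exact mul_mem hg ((inferInstance : C₀.Normal).conj_mem _ (inv_mem hg) h)
  have hc1 : c ∈ C₁ := by
    haveI := normal_of_index_eq_two F.i₁
    exact mul_mem ((inferInstance : C₁.Normal).conj_mem _ hh g) (inv_mem hh)
  have hcc := hcen c hc0 hc1
  have hstep : g * h * g⁻¹ = c * h := by rw [hc, inv_mul_cancel_right]
  have hpow : ∀ m : ℕ, g ^ m * h * (g ^ m)⁻¹ = c ^ m * h := by
    intro m
    induction m with
    | zero => simp
    | succ m ih =>
      rw [pow_succ', show g * g ^ m * h * (g * g ^ m)⁻¹ = g * (g ^ m * h * (g ^ m)⁻¹) * g⁻¹ by group,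
        ih, show g * (c ^ m * h) * g⁻¹ = g * c ^ m * g⁻¹ * (g * h * g⁻¹) by group,
        ← ((hcc g).pow_left m).eq, mul_inv_cancel_right, hstep, ← mul_assoc, ← pow_succ]
  have hc2 : c ^ 2 = 1 := by
    have h1 := hpow 2
    have hgg2 : g ^ 2 ∈ C₀ ∧ g ^ 2 ∈ C₁ :=
      ⟨pow_mem hg 2, by rw [pow_two]; exact Subgroup.mul_self_mem_of_index_two F.i₁ g⟩
    rw [(hcen _ hgg2.1 hgg2.2 h).eq, mul_inv_cancel_right, right_eq_mul] at h1
    exact h1
  have hzpow : ∀ m : ℤ, g ^ m * h * (g ^ m)⁻¹ = c ^ m * h := by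
    intro m
    rcases Int.eq_nat_or_neg m with ⟨j, rfl | rfl⟩
    · simpa [zpow_natCast] using hpow j
    · have h1 := hpow j
      have hcj : ∀ x, Commute (c ^ j) x := fun x => (hcc x).pow_left j
      rw [zpow_neg, zpow_neg, zpow_natCast, zpow_natCast, inv_inv]
      calc (g ^ j)⁻¹ * h * g ^ j = (g ^ j)⁻¹ * ((c ^ j)⁻¹ * (c ^ j * h)) * g ^ j := by group
        _ = (g ^ j)⁻¹ * ((c ^ j)⁻¹ * (g ^ j * h * (g ^ j)⁻¹)) * g ^ j := by rw [h1]
        _ = (c ^ j)⁻¹ * h := by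
          rw [← mul_assoc ((g ^ j)⁻¹), ← ((hcj (g ^ j)⁻¹).inv_left).eq]; group
  set k := h * g ^ (-u) with hk
  have hkk : k * k = c ^ (-u) := by
    calc k * k = h * (g ^ (-u) * h * (g ^ (-u))⁻¹) * (g ^ (-u) * g ^ (-u)) := by rw [hk]; group
      _ = c ^ (-u) * (h * h) * (g ^ (-u) * g ^ (-u)) := by
        rw [hzpow, ← mul_assoc h, ← ((hcc h).zpow_left (-u)).eq, mul_assoc (c ^ (-u)) h h]
      _ = c ^ (-u) := by rw [hl, mul_assoc, ← zpow_add, ← zpow_add]; simp [two_mul]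
  have hkC₀ : k ∉ C₀ := fun hc' => hhC₀ ((C₀.mul_mem_cancel_right (zpow_mem hg _)).1 hc')
  have hk1 : k * k ≠ 1 := by
    intro e
    by_cases hk0 : k = 1
    · exact hkC₀ (hk0 ▸ one_mem _)
    exact hkC₀ (hinv k (orderOf_eq_prime (by rw [pow_two]; exact e) hk0))
  have hnab : c ≠ 1 := fun e => hk1 (by rw [hkk, e, one_zpow])
  have hk4 : orderOf k = 4 := orderOf_eq_prime_pow (p := 2) (n := 1)
    (by rw [pow_one, pow_two]; exact hk1) (by
      rw [show 2 ^ (1 + 1) = 2 * 2 by norm_num, pow_mul, pow_two k, hkk, ← zpow_natCast, ← zpow_mul,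
        mul_comm, zpow_mul, zpow_natCast, hc2, one_zpow])
  have hu : Odd u := by
    rcases Int.even_or_odd u with ⟨j, rfl⟩ | h1
    · exfalso
      refine hk1 ?_
      rw [hkk, ← two_mul, zpow_neg, zpow_mul, zpow_ofNat, hc2, one_zpow, inv_one]
    · exact h1
  have hkC₁ : k ∉ C₁ := fun hc' => by
    obtain ⟨j, rfl⟩ := hu
    have h1 := (C₁.mul_mem_cancel_left hh).1 hc'
    rw [zpow_neg, inv_mem_iff, zpow_add, zpow_mul, zpow_ofNat, zpow_one, pow_two] at h1
    exact hgC₁ ((C₁.mul_mem_cancel_left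
      (C₁.zpow_mem (Subgroup.mul_self_mem_of_index_two F.i₁ g) j)).1 h1)
  have hkC₂ : k ∈ C₂ := (F.third k).2 (iff_of_false hkC₀ hkC₁)
  obtain ⟨⟨m, hm⟩, hmg⟩ := IsCyclic.exists_generator (α := ↥C₂)
  obtain ⟨i, hi⟩ := mem_zpowers_iff.1 (hmg ⟨k, hkC₂⟩)
  have hki : m ^ i = k := congrArg Subtype.val hi
  have hmo : orderOf m = 4 := by
    rcases Int.even_or_odd i with ⟨j, rfl⟩ | ⟨j, rfl⟩
    · exfalso
      refine hkC₀ ?_
      rw [← hki, zpow_add, ← (Commute.refl m).mul_zpow]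
      exact zpow_mem (Subgroup.mul_self_mem_of_index_two F.i₀ m) j
    · obtain ⟨t, ht⟩ := hT.exists_orderOf_eq_pow m
      rw [← hk4, ← hki]
      have hcop : (orderOf m).Coprime (2 * j + 1).natAbs := by
        rw [ht]
        exact Nat.Coprime.pow_left t (Nat.coprime_two_left.2 (Int.natAbs_odd.2 ⟨j, rfl⟩))
      rcases Int.natAbs_eq (2 * j + 1) with e | e
      · rw [e, zpow_natCast, hcop.orderOf_pow]
      · rw [e, zpow_neg, zpow_natCast, orderOf_inv, hcop.orderOf_pow]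
  have hC2 : Nat.card C₂ = 4 := by
    rw [← orderOf_eq_card_of_forall_mem_zpowers hmg, Subgroup.orderOf_mk]; exact hmo
  refine ⟨by have := hcard F.i₂; omega, ⟨g, h, fun e => hnab ?_⟩, huniq⟩
  rw [hc, e]; group

end TwoAction

variable {G : Type*} [Group G] [Finite G]

/-- The cube of an element of odd order normalising an almost cyclic 2-group centralises it. -/
theorem commute_cube {Q : Subgroup G} (hQ2 : IsPGroup 2 ↥Q) (hQ : CyclicMax ↥Q) {y : G}
    (hy : y ∈ normalizer (Q : Set G)) (hodd : Odd (orderOf y)) {d : G} (hd : d ∈ Q) :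
    Commute (y ^ 3) d := by
  obtain ⟨C, hC, hi⟩ := hQ
  rcases (Nat.dvd_prime Nat.prime_two).1 hi with e | e
  · haveI : IsCyclic ↥Q := by
      rw [index_eq_one.1 e] at hC
      exact Subgroup.topEquiv.isCyclic.1 hC
    exact (commute_of_cyclic_two hQ2 hy hodd hd).pow_left 3
  haveI := hC
  set φ : MulAut ↥Q := Q.normalizerMonoidHom ⟨y, hy⟩ with hφ
  have hφo : Odd (orderOf φ) := hodd.of_dvd_nat ((orderOf_map_dvd _ _).trans
    (dvd_of_eq (Subgroup.orderOf_mk y hy)))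
  have h3 : φ ^ 3 = 1 := by
    by_cases hne : φ = 1
    · rw [hne, one_pow]
    obtain ⟨C₁, C₂, F⟩ := TwoAction.exists_frame hQ2 hφo hne e
    exact F.cube
  rw [hφ, ← map_pow] at h3
  have h4 := congrArg (fun a : MulAut ↥Q => ((a ⟨d, hd⟩ : ↥Q) : G)) h3
  simp at h4
  exact mul_inv_eq_iff_eq_mul.1 h4

/-- An element of odd order normalising an almost cyclic 2-group without centralising it leaves a
four-group or a group of order 8 with one involution. -/
theorem shape_of_not_commute {Q : Subgroup G} (hQ2 : IsPGroup 2 ↥Q) (hQ : CyclicMax ↥Q) {y : G}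
    (hy : y ∈ normalizer (Q : Set G)) (hodd : Odd (orderOf y))
    (hne : ¬ ∀ d ∈ Q, Commute y d) :
    (Nat.card Q = 4 ∧ ∀ x : ↥Q, x * x = 1) ∨
      (Nat.card Q = 8 ∧ (∃ x y : ↥Q, x * y ≠ y * x) ∧
        ∀ u v : ↥Q, orderOf u = 2 → orderOf v = 2 → u = v) := by
  obtain ⟨C, hC, hi⟩ := hQ
  rcases (Nat.dvd_prime Nat.prime_two).1 hi with e | e
  · haveI : IsCyclic ↥Q := by
      rw [index_eq_one.1 e] at hC
      exact Subgroup.topEquiv.isCyclic.1 hC
    exact absurd (fun d hd => commute_of_cyclic_two hQ2 hy hodd hd) hne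
  haveI := hC
  set φ : MulAut ↥Q := Q.normalizerMonoidHom ⟨y, hy⟩ with hφ
  have hφo : Odd (orderOf φ) := hodd.of_dvd_nat ((orderOf_map_dvd _ _).trans
    (dvd_of_eq (Subgroup.orderOf_mk y hy)))
  have hφ1 : φ ≠ 1 := fun h1 => hne fun d hd => by
    have h4 := congrArg (fun a : MulAut ↥Q => ((a ⟨d, hd⟩ : ↥Q) : G)) h1
    simp [hφ] at h4
    exact mul_inv_eq_iff_eq_mul.1 h4
  obtain ⟨C₁, C₂, F⟩ := TwoAction.exists_frame hQ2 hφo hφ1 e
  exact F.shape hQ2

end CfsgLib.AlmostCyclic
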