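import Cfsg.Agent.Lib.AlmostCyclic.Local
import Cfsg.Agent.Lib.FrobRealize.Quaternion
import Cfsg.Agent.Lib.BrauerSuzuki.Main
import Cfsg.Agent.S3224
import Mathlib.GroupTheory.SpecificGroups.KleinFour

/-!
# The Sylow 2-subgroup of a simple group with almost cyclic Sylow subgroups

It is dihedral (four-groups included) or quasi-dihedral.
-/

set_option autoImplicit false
set_option linter.unusedSectionVars false
set_option linter.style.haveILetI false

universe u

namespace CfsgLib.AlmostCyclic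

open Subgroup

variable {G : Type u} [Group G] [Finite G]

/-- A group of odd order with cyclic Sylow subgroups of odd order is soluble. -/
theorem Hyp.isSolvable_of_odd (h : Hyp G) (hodd : Odd (Nat.card G)) : Group.IsSolvable G := by
  haveI : IsZGroup G := ⟨fun p hp P => by
    rcases eq_or_ne p 2 with rfl | hp2
    · haveI := Fact.mk hp
      haveI : Subsingleton ↥(P : Subgroup G) := by
        rw [← Finite.card_le_one_iff_subsingleton]
        obtain ⟨n, hn⟩ := P.2.exists_card_eq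
        rcases n with _ | n
        · exact hn.le
        · exact absurd (even_iff_two_dvd.2 ((dvd_pow_self 2 n.succ_ne_zero).trans
            (hn ▸ card_subgroup_dvd_card (P : Subgroup G)))) (Nat.not_even_iff_odd.2 hodd)
      infer_instance
    · exact h.odd p hp hp2 P⟩
  infer_instance

/-- An insoluble group of this kind has no normal 2-complement. -/
theorem Hyp.not_npc_two (h : Hyp G) (hns : ¬ Group.IsSolvable G) :
    ¬ Cfsg.HasNormalPComplement 2 G := by
  haveI : Fact (Nat.Prime 2) := ⟨Nat.prime_two⟩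
  intro hn
  have hodd : Odd (Nat.card ↥(Cfsg.pResidual 2 G)) :=
    Nat.coprime_two_right.1 (Fusion.Basic.npc_iff_coprime.1 hn)
  haveI := (h.subgroup (Cfsg.pResidual 2 G)).isSolvable_of_odd hodd
  haveI := (Fusion.Basic.isPGroup_quotient_pResidual (G := G) (p := 2)).isNilpotent
  exact hns (Group.isSolvable_of_ker_le_range (Cfsg.pResidual 2 G).subtype
    (QuotientGroup.mk' (Cfsg.pResidual 2 G))
    (by rw [QuotientGroup.ker_mk', range_subtype]))

/-- The centralizer inside `S` as a subgroup of `S`. -/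
theorem card_centralizer_mk (S : Subgroup G) {v : G} (hv : v ∈ S) :
    Nat.card ↥(centralizer ({⟨v, hv⟩} : Set ↥S)) =
      Nat.card ↥(S ⊓ centralizer ({v} : Set G)) := by
  rw [← card_map_of_injective S.subtype_injective]
  congr 2
  ext s
  constructor
  · rintro ⟨t, ht, rfl⟩
    exact ⟨t.2, mem_centralizer_singleton_iff.2
      (congrArg Subtype.val (mem_centralizer_singleton_iff.1 ht))⟩
  · rintro ⟨hs, hs'⟩
    exact ⟨⟨s, hs⟩, mem_centralizer_singleton_iff.2
      (Subtype.ext (mem_centralizer_singleton_iff.1 hs')), rfl⟩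

/-- A four-group moved by an odd element gives an involution with centraliser of order 4 in `S`. -/
theorem exists_small_of_four (h : Hyp G) (S : Sylow 2 G) {Q : Subgroup G}
    (hQS : Q ≤ (S : Subgroup G)) (hQ4 : Nat.card ↥Q = 4) (hexp : ∀ x : ↥Q, x * x = 1)
    {g : G} (hg : g ∈ normalizer (Q : Set G)) (hodd : Odd (orderOf g))
    (hne : ¬ ∀ d ∈ Q, Commute g d) :
    ∃ z v : G, z ∈ (S : Subgroup G) ∧ v ∈ (S : Subgroup G) ∧ orderOf z = 2 ∧ orderOf v = 2 ∧
      z ≠ v ∧ Commute z v ∧ Nat.card ↥((S : Subgroup G) ⊓ centralizer ({v} : Set G)) = 4 := by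
  haveI : Fact (Nat.Prime 2) := ⟨Nat.prime_two⟩
  set N := normalizer (Q : Set G)
  set φ := Q.normalizerMonoidHom
  have hQN : Q ≤ N := le_normalizer
  have hQcomm : ∀ a ∈ Q, ∀ b ∈ Q, Commute a b := fun a ha b hb => by
    have hsq : ∀ t : ↥Q, t⁻¹ = t := fun t => inv_eq_of_mul_eq_one_right (hexp t)
    exact congrArg Subtype.val (show (⟨a, ha⟩ : ↥Q) * ⟨b, hb⟩ = ⟨b, hb⟩ * ⟨a, ha⟩ by
      rw [← hsq (⟨a, ha⟩ * ⟨b, hb⟩), mul_inv_rev, hsq, hsq])
  have hker : ∀ n : ↥N, n ∈ φ.ker ↔ ∀ d ∈ Q, Commute d (n : G) := fun n => by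
    rw [Subgroup.normalizerMonoidHom_ker]
    exact mem_centralizer_iff
  let P : Sylow 2 ↥φ.ker := default
  set P₁ := (P : Subgroup ↥φ.ker).map φ.ker.subtype with hP₁
  set P₂ := P₁.map N.subtype with hP₂
  have hP₂2 : IsPGroup 2 ↥P₂ := (P.2.map _).map _
  -- `Q` lies in it
  have hQP : Q ≤ P₂ := by
    intro a ha
    have hak : (⟨a, hQN ha⟩ : ↥N) ∈ φ.ker := (hker _).2 fun d hd => hQcomm d hd a ha
    haveI : (zpowers (⟨⟨a, hQN ha⟩, hak⟩ : ↥φ.ker)).Normal := ⟨fun b hb c => by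
      obtain ⟨l, rfl⟩ := mem_zpowers_iff.1 hb
      have h1 : Commute (⟨⟨a, hQN ha⟩, hak⟩ : ↥φ.ker) c :=
        Subtype.ext (Subtype.ext ((hker _).1 c.2 a ha))
      rw [← (h1.zpow_left l).eq, mul_inv_cancel_right]
      exact zpow_mem (mem_zpowers _) l⟩
    have h2 : IsPGroup 2 ↥(zpowers (⟨⟨a, hQN ha⟩, hak⟩ : ↥φ.ker)) := fun ⟨b, hb⟩ => ⟨1, by
      obtain ⟨l, rfl⟩ := mem_zpowers_iff.1 hb
      have : (⟨⟨a, hQN ha⟩, hak⟩ : ↥φ.ker) ^ (2 : ℕ) = 1 :=
        Subtype.ext (Subtype.ext (by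
          simp only [Subgroup.coe_one, pow_two]
          exact congrArg Subtype.val (hexp ⟨a, ha⟩)))
      refine Subtype.ext ?_
      rw [pow_one, Subgroup.coe_pow, ← zpow_natCast, ← zpow_mul, mul_comm, zpow_mul, zpow_natCast,
        this, one_zpow, Subgroup.coe_one]⟩
    exact ⟨_, ⟨_, h2.le_sylow_of_normal P (mem_zpowers _), rfl⟩, rfl⟩
  -- Frattini gives an odd element normalising it and moving `Q`
  obtain ⟨y, hyP, hyo, hyne⟩ : ∃ y ∈ normalizer (P₂ : Set G), Odd (orderOf y) ∧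
      ¬ ∀ d ∈ P₂, Commute y d := by
    have hmem : (⟨g, hg⟩ : ↥N) ∈ normalizer (P₁ : Set ↥N) ⊔ φ.ker := by
      rw [hP₁, Sylow.normalizer_sup_eq_top P]; exact mem_top _
    rw [← SetLike.mem_coe, mul_normal] at hmem
    obtain ⟨n, hn, c, hc, hnc⟩ := hmem
    have hφ : φ n = φ ⟨g, hg⟩ := by
      rw [← hnc, map_mul, MonoidHom.mem_ker.1 hc, mul_one]
    obtain ⟨a, m, hm, hord⟩ := Nat.exists_eq_pow_mul_and_not_dvd (orderOf_pos (n : G)).ne' 2
      (by norm_num)
    refine ⟨((n ^ 2 ^ a : ↥N) : G), ?_, ?_, fun hall => hne ?_⟩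
    · rw [mem_normalizer_iff_map_conj_eq, hP₂, map_map]
      have h1 := mem_normalizer_iff_map_conj_eq.1 (pow_mem hn (2 ^ a))
      conv_rhs => rw [← h1, map_map]
      congr 1
    · rw [Subgroup.coe_pow, orderOf_pow_of_dvd (by positivity) (hord ▸ dvd_mul_right _ _), hord,
        Nat.mul_div_cancel_left _ (by positivity)]
      exact Nat.not_even_iff_odd.1 fun e => hm (even_iff_two_dvd.1 e)
    have hc2 : (n ^ 2 ^ a : ↥N) ∈ φ.ker := (hker _).2 fun d hd => (hall d (hQP hd)).symm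
    have ho : (orderOf (φ ⟨g, hg⟩)).Coprime (2 ^ a) :=
      ((Nat.coprime_two_right.2 hodd).coprime_dvd_left
        ((orderOf_map_dvd φ _).trans (dvd_of_eq (Subgroup.orderOf_mk g hg)))).pow_right a
    have h1 : φ ⟨g, hg⟩ = 1 := by
      rw [← orderOf_eq_one_iff]
      refine Nat.eq_one_of_dvd_coprimes ho dvd_rfl (orderOf_dvd_of_pow_eq_one ?_)
      rw [← hφ, ← map_pow]
      exact MonoidHom.mem_ker.1 hc2
    exact fun d hd => ((hker ⟨g, hg⟩).1 (MonoidHom.mem_ker.2 h1) d hd).symm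
  have hP4 : P₂ = Q := by
    rcases shape_of_not_commute hP₂2 (h.cyclicMax_of_pGroup hP₂2) hyP hyo hyne with
      ⟨h4, -⟩ | ⟨-, -, huniq⟩
    · exact (eq_of_le_of_card_ge hQP (by rw [h4, hQ4])).symm
    exfalso
    have hle : Nat.card ↥Q ≤ 2 := by
      have hinv : ∀ a : ↥Q, a ≠ 1 → ∀ b : ↥Q, b ≠ 1 → a = b := fun a ha b hb => by
        have e : ∀ c : ↥Q, c ≠ 1 → orderOf (⟨c, hQP c.2⟩ : ↥P₂) = 2 := fun c hc => by
          rw [Subgroup.orderOf_mk, Subgroup.orderOf_coe]
          exact orderOf_eq_prime (by rw [pow_two]; exact hexp c) hc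
        exact Subtype.ext (congrArg (fun t : ↥P₂ => (t : G))
          (huniq ⟨a, hQP a.2⟩ ⟨b, hQP b.2⟩ (e a ha) (e b hb)))
      classical
      rw [← Nat.card_fin 2]
      refine Nat.card_le_card_of_injective (fun a : ↥Q => if a = 1 then (0 : Fin 2) else 1) ?_
      intro a b hab
      by_cases ha : a = 1 <;> by_cases hb : b = 1
      · rw [ha, hb]
      · simp [ha, hb] at hab
      · simp [ha, hb] at hab
      · exact hinv a ha b hb
    omega
  -- so `Q` is its own centraliser in `S`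
  have hCS : (S : Subgroup G) ⊓ centralizer (Q : Set G) = Q := by
    refine (eq_of_le_of_card_ge (le_inf hQS fun a ha => mem_centralizer_iff.2 fun b hb =>
      hQcomm b hb a ha) ?_).symm
    set W := (S : Subgroup G) ⊓ centralizer (Q : Set G) with hW
    have hWN : W ≤ N := inf_le_right.trans (centralizer_le_normalizer _)
    let W₁ : Subgroup ↥φ.ker := (W.subgroupOf N).subgroupOf φ.ker
    have hWk : W.subgroupOf N ≤ φ.ker := fun t ht =>
      (hker t).2 fun d hd => mem_centralizer_iff.1 (mem_subgroupOf.1 ht).2 d hd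
    have hW1 : Nat.card ↥W₁ = Nat.card ↥W :=
      (Nat.card_congr (subgroupOfEquivOfLe hWk).toEquiv).trans
        (Nat.card_congr (subgroupOfEquivOfLe hWN).toEquiv)
    have hW2 : IsPGroup 2 ↥W₁ := ((S.2.to_le (inf_le_left : W ≤ _)).of_equiv
      (subgroupOfEquivOfLe hWN).symm).of_equiv (subgroupOfEquivOfLe hWk).symm
    obtain ⟨P', hP'⟩ := hW2.exists_le_sylow
    rw [← hW1]
    refine (Subgroup.card_le_of_le hP').trans (le_of_eq ?_)
    rw [Sylow.card_eq_multiplicity P', ← Sylow.card_eq_multiplicity P]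
    conv_rhs => rw [← hP4, hP₂, card_map_of_injective N.subtype_injective, hP₁,
      card_map_of_injective φ.ker.subtype_injective]
  -- a central involution of `S` and another involution of `Q`
  haveI : Nontrivial ↥(S : Subgroup G) := by
    rw [← Finite.one_lt_card_iff_nontrivial]
    have := Subgroup.card_le_of_le hQS
    omega
  haveI := S.2.center_nontrivial
  obtain ⟨n, hn⟩ := (S.2.to_le (show (center ↥(S : Subgroup G)).map (S : Subgroup G).subtype ≤ _
    from map_subtype_le _)).exists_card_eq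
  obtain ⟨⟨z, ⟨⟨zS, hzS⟩, hzc, hzeq⟩⟩, hzo⟩ := exists_prime_orderOf_dvd_card' (p := 2)
    (G := ↥((center ↥(S : Subgroup G)).map (S : Subgroup G).subtype)) (by
      rw [hn]
      refine dvd_pow_self 2 fun e => ?_
      rw [e, pow_zero, card_map_of_injective (S : Subgroup G).subtype_injective] at hn
      exact (Finite.one_lt_card_iff_nontrivial.2 ‹Nontrivial (center ↥(S : Subgroup G))›).ne' hn)
  obtain rfl : zS = z := hzeq
  replace hzo : orderOf zS = 2 := by rw [← hzo, ← Subgroup.orderOf_coe]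
  have hzcomm : ∀ a ∈ (S : Subgroup G), Commute zS a := fun a ha =>
    (congrArg Subtype.val (mem_center_iff.1 hzc ⟨a, ha⟩)).symm
  have hzQ : zS ∈ Q := by
    rw [← hCS]
    exact ⟨hzS, mem_centralizer_iff.2 fun a ha => (hzcomm a (hQS ha)).eq.symm⟩
  obtain ⟨v, hvQ, hvz, hv1⟩ : ∃ v ∈ Q, v ≠ zS ∧ v ≠ 1 := by
    by_contra hall
    push Not at hall
    have hle : Q ≤ zpowers zS := fun v hv => by
      rcases eq_or_ne v zS with rfl | e
      exacts [mem_zpowers _, by rw [hall v hv e]; exact one_mem _]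
    have := Subgroup.card_le_of_le hle
    rw [Nat.card_zpowers, hzo, hQ4] at this
    omega
  have hvo : orderOf v = 2 := orderOf_eq_prime (by
    rw [pow_two]; exact congrArg Subtype.val (hexp ⟨v, hvQ⟩)) hv1
  refine ⟨zS, v, hzS, hQS hvQ, hzo, hvo, hvz.symm, hQcomm _ hzQ _ hvQ, ?_⟩
  suffices heq : (S : Subgroup G) ⊓ centralizer ({v} : Set G) = Q by rw [heq, hQ4]
  refine le_antisymm (fun s hs => ?_) (le_inf hQS fun a ha =>
    mem_centralizer_singleton_iff.2 (hQcomm a ha v hvQ).eq)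
  rw [← hCS]
  refine ⟨hs.1, mem_centralizer_iff.2 ?_⟩
  set K := Q ⊓ centralizer ({s} : Set G) with hK
  suffices hKQ : Q ≤ K from fun d hd => mem_centralizer_singleton_iff.1 (hKQ hd).2
  have hzK : zS ∈ K := ⟨hzQ, mem_centralizer_singleton_iff.2 (hzcomm s hs.1).eq⟩
  have hvK : v ∈ K := ⟨hvQ, mem_centralizer_singleton_iff.2
    (mem_centralizer_singleton_iff.1 hs.2).symm⟩
  have hKd : Nat.card ↥K ∣ 2 ^ 2 := by
    rw [show (2 : ℕ) ^ 2 = Nat.card ↥Q by omega]; exact card_dvd_of_le inf_le_left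
  obtain ⟨j, hj, hjc⟩ := (Nat.dvd_prime_pow Nat.prime_two).1 hKd
  have hj2 : j = 2 := by
    by_contra hj2
    have hzKle : zpowers zS ≤ K := zpowers_le.2 hzK
    have := (eq_of_le_of_card_ge hzKle (by
      rw [Nat.card_zpowers, hzo, hjc]
      exact (Nat.pow_le_pow_right two_pos (show j ≤ 1 by omega))))
    rw [← this] at hvK
    obtain ⟨l, hl⟩ := mem_zpowers_iff.1 hvK
    rcases Int.even_or_odd l with ⟨i, rfl⟩ | ⟨i, rfl⟩
    · rw [← two_mul, zpow_mul, zpow_ofNat, ← hzo, pow_orderOf_eq_one, one_zpow] at hl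
      exact hv1 hl.symm
    · rw [zpow_add, zpow_mul, zpow_ofNat, ← hzo, pow_orderOf_eq_one, one_zpow, one_mul,
        zpow_one] at hl
      exact hvz hl.symm
  exact (eq_of_le_of_card_ge inf_le_left (by rw [hjc, hj2, hQ4]; norm_num)).ge

/-- A quaternion group inside `S` and a second involution. -/
theorem small_of_quaternion (h : Hyp G) (S : Sylow 2 G) {Q : Subgroup G}
    (hQS : Q ≤ (S : Subgroup G)) (hQ8 : Nat.card ↥Q = 8) (hnc : ∃ x y : ↥Q, x * y ≠ y * x)
    {u v : G} (huS : u ∈ (S : Subgroup G)) (hvS : v ∈ (S : Subgroup G))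
    (hu : orderOf u = 2) (hv : orderOf v = 2) (huv : u ≠ v) :
    ∃ z w : G, z ∈ (S : Subgroup G) ∧ w ∈ (S : Subgroup G) ∧ orderOf z = 2 ∧ orderOf w = 2 ∧
      z ≠ w ∧ Commute z w ∧ Nat.card ↥((S : Subgroup G) ⊓ centralizer ({w} : Set G)) = 4 := by
  haveI : Fact (Nat.Prime 2) := ⟨Nat.prime_two⟩
  obtain ⟨C₁, hC₁c, hC₁i⟩ := h.two S
  set C := C₁.map (S : Subgroup G).subtype with hC
  haveI : IsCyclic ↥C := (C₁.equivMapOfInjective _ (S : Subgroup G).subtype_injective).isCyclic.1 hC₁c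
  have hCS : C ≤ (S : Subgroup G) := map_subtype_le _
  have hQC : ¬ Q ≤ C := fun hle => by
    haveI : IsCyclic ↥Q := Subgroup.isCyclic_of_le hle
    letI := IsCyclic.commGroup (α := ↥Q)
    obtain ⟨x, y, hxy⟩ := hnc
    exact hxy (mul_comm x y)
  have hi : C₁.index = 2 := ((Nat.dvd_prime Nat.prime_two).1 hC₁i).resolve_left fun e => hQC (by
    rw [hC, index_eq_one.1 e, ← MonoidHom.range_eq_map, range_subtype]; exact hQS)
  have hmemC : ∀ {a : G} (ha : a ∈ (S : Subgroup G)), a ∈ C ↔ (⟨a, ha⟩ : ↥(S : Subgroup G)) ∈ C₁ :=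
    fun {a} ha => ⟨by rintro ⟨b, hb, rfl⟩; exact hb, fun hb => ⟨_, hb, rfl⟩⟩
  have hmul : ∀ {a b : G}, a ∈ (S : Subgroup G) → b ∈ (S : Subgroup G) →
      (a * b ∈ C ↔ (a ∈ C ↔ b ∈ C)) := fun {a b} ha hb => by
    rw [hmemC ha, hmemC hb, hmemC (mul_mem ha hb)]
    exact Subgroup.mul_mem_iff_of_index_two hi (a := ⟨a, ha⟩) (b := ⟨b, hb⟩)
  have hsq : ∀ {a : G}, a ∈ (S : Subgroup G) → a * a ∈ C := fun ha => (hmul ha ha).2 Iff.rfl
  -- an element of order four of `Q` in `C`, inverted by another one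
  obtain ⟨t, htQ, htC⟩ := SetLike.not_le_iff_exists.1 hQC
  have hQC4 : Nat.card ↥(Q ⊓ C : Subgroup G) = 4 := by
    have h1 : (C₁.subgroupOf (Q.subgroupOf (S : Subgroup G))).index = 2 := by
      refine index_eq_two_iff.2 ⟨⟨⟨t, hQS htQ⟩, htQ⟩, fun b => ?_⟩
      have h2 := Subgroup.mul_mem_iff_of_index_two hi
        (a := (b : ↥(S : Subgroup G))) (b := ⟨t, hQS htQ⟩)
      have h3 : (⟨t, hQS htQ⟩ : ↥(S : Subgroup G)) ∉ C₁ := fun e => htC ((hmemC _).2 e)
      show Xor ((b : ↥(S : Subgroup G)) * ⟨t, hQS htQ⟩ ∈ C₁) ((b : ↥(S : Subgroup G)) ∈ C₁)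
      by_cases hb : (b : ↥(S : Subgroup G)) ∈ C₁ <;> simp [Xor, h2, h3, hb]
    have h4 := (C₁.subgroupOf (Q.subgroupOf (S : Subgroup G))).card_mul_index
    rw [h1, Nat.card_congr (subgroupOfEquivOfLe hQS).toEquiv, hQ8] at h4
    have h5 : Nat.card ↥(C₁.subgroupOf (Q.subgroupOf (S : Subgroup G))) =
        Nat.card ↥(Q ⊓ C : Subgroup G) := by
      rw [← card_map_of_injective (Q.subgroupOf (S : Subgroup G)).subtype_injective,
        ← card_map_of_injective (S : Subgroup G).subtype_injective, subgroupOf_map_subtype,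
        map_inf _ _ _ (S : Subgroup G).subtype_injective, subgroupOf_map_subtype, inf_eq_left.2 hQS,
        inf_comm, ← hC]
    omega
  haveI : IsCyclic ↥(Q ⊓ C : Subgroup G) := Subgroup.isCyclic_of_le inf_le_right
  obtain ⟨⟨f, hf⟩, hfg⟩ := IsCyclic.exists_generator (α := ↥(Q ⊓ C : Subgroup G))
  have hfo : orderOf f = 4 := by
    rw [← hQC4, ← orderOf_eq_card_of_forall_mem_zpowers hfg, Subgroup.orderOf_mk]
  have hf2 : orderOf (f * f) = 2 := by
    rw [← pow_two, orderOf_pow_of_dvd two_ne_zero (by rw [hfo]; norm_num), hfo]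
  have htf : t * f * t⁻¹ = f⁻¹ := by
    have hfz : t * f * t⁻¹ ∈ Q ⊓ C := by
      refine mem_inf.2 ⟨Q.mul_mem (Q.mul_mem htQ hf.1) (Q.inv_mem htQ), ?_⟩
      have h1 : t * f ∉ C := fun e => htC (((hmul (hQS htQ) (hCS hf.2)).1 e).2 hf.2)
      exact (hmul (mul_mem (hQS htQ) (hCS hf.2)) (inv_mem (hQS htQ))).2
        (iff_of_false h1 fun e => htC (C.inv_mem_iff.1 e))
    obtain ⟨l, hl⟩ := mem_zpowers_iff.1 (hfg ⟨_, hfz⟩)
    have hl' : f ^ l = t * f * t⁻¹ := congrArg Subtype.val hl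
    have hodd : Odd l := by
      rcases Int.even_or_odd l with ⟨i, rfl⟩ | h1
      · exfalso
        have h2 : orderOf (f ^ (i + i)) = 4 := by
          rw [hl', ← hfo]; exact ((MulAut.conj t).orderOf_eq f)
        have h3 : (f ^ (i + i)) ^ 2 = 1 := by
          rw [← zpow_natCast, ← zpow_mul, show (i + i) * ((2 : ℕ) : ℤ) = 4 * i by push_cast; ring,
            zpow_mul, zpow_ofNat, ← hfo, pow_orderOf_eq_one, one_zpow]
        have := orderOf_dvd_of_pow_eq_one h3
        rw [h2] at this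
        norm_num at this
      · exact h1
    obtain ⟨i, rfl⟩ := hodd
    rcases Int.even_or_odd i with ⟨j, rfl⟩ | ⟨j, rfl⟩
    · exfalso
      have hc : Commute t f := by
        rw [show 2 * (j + j) + 1 = 4 * j + 1 by ring, zpow_add, zpow_mul, zpow_ofNat, ← hfo,
          pow_orderOf_eq_one, one_zpow, one_mul, zpow_one] at hl'
        exact mul_inv_eq_iff_eq_mul.1 hl'.symm
      -- then `Q` would be abelian
      have hgen : ∀ a ∈ Q, ∃ l : ℤ, a = f ^ l ∨ a = f ^ l * t := fun a ha => by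
        by_cases haC : a ∈ C
        · obtain ⟨l, hl⟩ := mem_zpowers_iff.1 (hfg ⟨a, ha, haC⟩)
          exact ⟨l, Or.inl (congrArg Subtype.val hl).symm⟩
        · have hat : a * t⁻¹ ∈ C := (hmul (hQS ha) (inv_mem (hQS htQ))).2
            (iff_of_false haC fun e => htC (C.inv_mem_iff.1 e))
          obtain ⟨l, hl⟩ := mem_zpowers_iff.1 (hfg ⟨a * t⁻¹, mem_inf.2 ⟨Q.mul_mem ha (Q.inv_mem htQ), hat⟩⟩)
          exact ⟨l, Or.inr (mul_inv_eq_iff_eq_mul.1 (congrArg Subtype.val hl).symm)⟩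
      obtain ⟨x, y, hxy⟩ := hnc
      refine hxy (Subtype.ext ?_)
      have hft : ∀ l : ℤ, Commute (f ^ l) t := fun l => (hc.symm.zpow_left l)
      obtain ⟨l, hl | hl⟩ := hgen x x.2 <;> obtain ⟨l', hl' | hl'⟩ := hgen y y.2 <;>
        simp only [Subgroup.coe_mul, hl, hl']
      · exact ((Commute.refl f).zpow_zpow l l').eq
      · exact (((Commute.refl f).zpow_zpow l l').mul_right (hft l)).eq
      · exact (((Commute.refl f).zpow_zpow l l').mul_left (hft l').symm).eq
      · exact ((((Commute.refl f).zpow_zpow l l').mul_left (hft l').symm).mul_right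
          ((hft l).mul_left (Commute.refl t))).eq
    · rw [show 2 * (2 * j + 1) + 1 = 4 * (j + 1) + (-1) by ring, zpow_add, zpow_mul, zpow_ofNat,
        ← hfo, pow_orderOf_eq_one, one_zpow, one_mul, zpow_neg_one] at hl'
      exact hl'.symm
  -- the involution of `C`
  have hCinv : ∀ a ∈ C, orderOf a = 2 → a = f * f := fun a ha hao => by
    have h1 := mem_zpowers_of_pow_eq_one_of_le (mul_mem hf.2 hf.2) ha
      (by rw [hf2, ← hao, pow_orderOf_eq_one])
    obtain ⟨l, hl⟩ := mem_zpowers_iff.1 h1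
    have h2 : (f * f) ^ (2 : ℕ) = 1 := hf2 ▸ pow_orderOf_eq_one _
    rcases Int.even_or_odd l with ⟨i, rfl⟩ | ⟨i, rfl⟩
    · rw [← two_mul, zpow_mul, zpow_ofNat, h2, one_zpow] at hl
      rw [← hl, orderOf_one] at hao; omega
    · rw [zpow_add, zpow_mul, zpow_ofNat, h2, one_zpow, one_mul, zpow_one] at hl
      exact hl.symm
  obtain ⟨w, hwS, hwo, hwC⟩ : ∃ w ∈ (S : Subgroup G), orderOf w = 2 ∧ w ∉ C := by
    by_contra hall
    push Not at hall
    exact huv ((hCinv u (hall u huS hu) hu).trans (hCinv v (hall v hvS hv) hv).symm)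
  -- it inverts `f`
  have hwinv : w * f * w⁻¹ = f⁻¹ := by
    have hwt : w * t⁻¹ ∈ C := (hmul hwS (inv_mem (hQS htQ))).2
      (iff_of_false hwC fun e => htC (C.inv_mem_iff.1 e))
    letI := IsCyclic.commGroup (α := ↥C)
    have hc : (w * t⁻¹) * f⁻¹ = f⁻¹ * (w * t⁻¹) :=
      congrArg Subtype.val (mul_comm (⟨_, hwt⟩ : ↥C) ⟨_, inv_mem hf.2⟩)
    calc w * f * w⁻¹ = (w * t⁻¹) * (t * f * t⁻¹) * (w * t⁻¹)⁻¹ := by group
      _ = f⁻¹ := by rw [htf, hc, mul_inv_cancel_right]
  have hzS : f * f ∈ (S : Subgroup G) := mul_mem (hCS hf.2) (hCS hf.2)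
  have hzw : Commute (f * f) w := by
    have h1 : w * (f * f) * w⁻¹ = f * f := by
      rw [show w * (f * f) * w⁻¹ = (w * f * w⁻¹) * (w * f * w⁻¹) by group, hwinv, ← mul_inv_rev]
      exact inv_eq_of_mul_eq_one_right (by rw [← pow_two, ← hf2, pow_orderOf_eq_one])
    exact (mul_inv_eq_iff_eq_mul.1 h1).symm
  have hne : f * f ≠ w := fun e => hwC (e ▸ mul_mem hf.2 hf.2)
  refine ⟨f * f, w, hzS, hwS, hf2, hwo, hne, hzw, ?_⟩
  set K := (S : Subgroup G) ⊓ centralizer ({w} : Set G) with hK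
  have hKC : ∀ a ∈ K, a ∈ C → a = 1 ∨ a = f * f := fun a ha haC => by
    by_cases ha2 : a * a = 1
    · rcases eq_or_ne a 1 with h1 | h1
      exacts [Or.inl h1, Or.inr (hCinv a haC (orderOf_eq_prime (by rw [pow_two]; exact ha2) h1))]
    exfalso
    -- a power of `a` of order four would be a power of `f`
    obtain ⟨n, hn⟩ := S.2.exists_orderOf_eq_pow ⟨a, ha.1⟩
    rw [Subgroup.orderOf_mk] at hn
    rcases n with _ | _ | n
    · exact ha2 (by rw [orderOf_eq_one_iff.1 (hn.trans (pow_zero 2)), mul_one])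
    · exact ha2 (by rw [← pow_two, ← orderOf_dvd_iff_pow_eq_one, hn]; norm_num)
    set b := a ^ 2 ^ n
    have hbo : orderOf b = 4 := by
      rw [orderOf_pow_of_dvd (by positivity) (hn ▸ pow_dvd_pow 2 (by omega)), hn,
        show 2 ^ (n + 1 + 1) = 2 ^ n * 4 by ring, Nat.mul_div_cancel_left _ (by positivity)]
    have hbw : Commute b w := Commute.pow_left (mem_centralizer_singleton_iff.1 ha.2) _
    obtain ⟨l, hl⟩ := mem_zpowers_iff.1 (mem_zpowers_of_pow_eq_one_of_le hf.2 (pow_mem haC (2 ^ n))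
      (by rw [hfo, ← hbo]; exact pow_orderOf_eq_one b))
    have h1 : w * b * w⁻¹ = b⁻¹ := by
      show w * a ^ 2 ^ n * w⁻¹ = (a ^ 2 ^ n)⁻¹
      rw [← hl, ← conj_zpow, hwinv, inv_zpow]
    rw [← hbw.eq, mul_inv_cancel_right] at h1
    have : b ^ 2 = 1 := by rw [pow_two]; nth_rw 2 [h1]; exact mul_inv_cancel b
    have := orderOf_dvd_of_pow_eq_one this
    rw [hbo] at this
    norm_num at this
  have hK4 : Nat.card ↥K ≤ 4 := by
    classical
    rw [← Nat.card_fin 4]
    refine Nat.card_le_card_of_injective (fun a : ↥K =>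
      if (a : G) = 1 then (0 : Fin 4) else if (a : G) = f * f then 1
        else if (a : G) = w then 2 else 3) ?_
    have hcase : ∀ a : ↥K, (a : G) ∉ C → (a : G) = w ∨ (a : G) = f * f * w := fun a ha => by
      have h1 : (a : G) * w⁻¹ ∈ C := (hmul a.2.1 (inv_mem hwS)).2
        (iff_of_false ha fun e => hwC (C.inv_mem_iff.1 e))
      have h2 : (a : G) * w⁻¹ ∈ K := mul_mem a.2
        (inv_mem ⟨hwS, mem_centralizer_singleton_iff.2 rfl⟩)
      rcases hKC _ h2 h1 with e | e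
      exacts [Or.inl (mul_inv_eq_one.1 e), Or.inr (mul_inv_eq_iff_eq_mul.1 e)]
    have hlast : ∀ a : ↥K, (a : G) ≠ 1 → (a : G) ≠ f * f → (a : G) ≠ w → (a : G) = f * f * w :=
      fun a h1 h2 h3 => by
        by_cases haC : (a : G) ∈ C
        · rcases hKC _ a.2 haC with e | e <;> contradiction
        · exact (hcase a haC).resolve_left h3
    intro a b hab
    refine Subtype.ext ?_
    dsimp only at hab
    by_cases a1 : (a : G) = 1
    · by_cases b1 : (b : G) = 1
      · rw [a1, b1]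
      · rw [if_pos a1, if_neg b1] at hab
        split_ifs at hab <;> exact absurd hab (by decide)
    rw [if_neg a1] at hab
    by_cases b1 : (b : G) = 1
    · rw [if_pos b1] at hab
      split_ifs at hab <;> exact absurd hab (by decide)
    rw [if_neg b1] at hab
    by_cases a2 : (a : G) = f * f <;> by_cases b2 : (b : G) = f * f
    · rw [a2, b2]
    · rw [if_pos a2, if_neg b2] at hab
      split_ifs at hab <;> exact absurd hab (by decide)
    · rw [if_neg a2, if_pos b2] at hab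
      split_ifs at hab <;> exact absurd hab (by decide)
    rw [if_neg a2, if_neg b2] at hab
    by_cases a3 : (a : G) = w <;> by_cases b3 : (b : G) = w
    · rw [a3, b3]
    · rw [if_pos a3, if_neg b3] at hab; exact absurd hab (by decide)
    · rw [if_neg a3, if_pos b3] at hab; exact absurd hab (by decide)
    · rw [hlast a a1 a2 a3, hlast b b1 b2 b3]
  refine le_antisymm hK4 ?_
  have hsub : zpowers (f * f) ⊔ zpowers w ≤ K := sup_le
    (zpowers_le.2 ⟨hzS, mem_centralizer_singleton_iff.2 hzw.eq⟩)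
    (zpowers_le.2 ⟨hwS, mem_centralizer_singleton_iff.2 rfl⟩)
  refine le_trans (le_of_eq ?_) (Subgroup.card_le_of_le hsub)
  rw [CfsgLib.Coprime.card_sup_of_le_normalizer, Nat.card_zpowers, Nat.card_zpowers, hf2, hwo]
  · refine zpowers_le.2 (centralizer_le_normalizer _ (mem_centralizer_iff.2 fun a ha => ?_))
    obtain ⟨l, rfl⟩ := mem_zpowers_iff.1 ha
    exact (hzw.zpow_left l).eq
  · rw [disjoint_iff, eq_bot_iff]
    rintro a ⟨ha, hb⟩
    obtain ⟨l, rfl⟩ := mem_zpowers_iff.1 hb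
    rcases Int.even_or_odd l with ⟨i, rfl⟩ | ⟨i, rfl⟩
    · rw [mem_bot, ← two_mul, zpow_mul, zpow_ofNat, ← hwo, pow_orderOf_eq_one, one_zpow]
    · exfalso
      rw [zpow_add, zpow_mul, zpow_ofNat, ← hwo, pow_orderOf_eq_one, one_zpow, one_mul,
        zpow_one] at ha
      exact hwC (zpowers_le.2 (mul_mem hf.2 hf.2) ha)

/-- The Sylow 2-subgroup of a non-abelian simple group of this kind. -/
theorem sylow_two_shape [IsSimpleGroup G] (h : Hyp G) (hns : ¬ Group.IsSolvable G)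
    (S : Sylow 2 G) :
    (∃ m : ℕ, 2 ≤ m ∧ Nonempty (↥(S : Subgroup G) ≃* DihedralGroup m)) ∨
      Cfsg.IsQuasiDihedral ↥(S : Subgroup G) := by
  haveI : Fact (Nat.Prime 2) := ⟨Nat.prime_two⟩
  obtain ⟨Q, hQS, g, hg, hodd, hne⟩ : ∃ Q : Subgroup G, Q ≤ (S : Subgroup G) ∧
      ∃ g ∈ normalizer (Q : Set G), Odd (orderOf g) ∧ ¬ ∀ d ∈ Q, Commute g d := by
    by_contra hall
    push Not at hall
    exact h.not_npc_two hns (Fusion.Alperin.npc_of_frobenius S fun Q hQ g hg hco =>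
      mem_centralizer_iff.2 fun d hd => (hall Q hQ g hg (Nat.coprime_two_right.1 hco) d hd).eq.symm)
  obtain ⟨z, v, hzS, hvS, hzo, hvo, hzv, hcomm, h4⟩ : ∃ z v : G, z ∈ (S : Subgroup G) ∧
      v ∈ (S : Subgroup G) ∧ orderOf z = 2 ∧ orderOf v = 2 ∧ z ≠ v ∧ Commute z v ∧
        Nat.card ↥((S : Subgroup G) ⊓ centralizer ({v} : Set G)) = 4 := by
    rcases shape_of_not_commute (S.2.to_le hQS) (h.cyclicMax_of_pGroup (S.2.to_le hQS)) hg hodd hne
      with ⟨hQ4, hexp⟩ | ⟨hQ8, hnc, -⟩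
    · exact exists_small_of_four h S hQS hQ4 hexp hg hodd hne
    by_cases htwo : ∃ u v : G, u ∈ (S : Subgroup G) ∧ v ∈ (S : Subgroup G) ∧ orderOf u = 2 ∧
        orderOf v = 2 ∧ u ≠ v
    · obtain ⟨u, v, huS, hvS, hu, hv, huv⟩ := htwo
      exact small_of_quaternion h S hQS hQ8 hnc huS hvS hu hv huv
    -- one involution: Brauer–Suzuki
    exfalso
    push Not at htwo
    have hfew : Nat.card {x : ↥(S : Subgroup G) // x ^ 2 = 1} ≤ 2 := by
      classical
      refine le_of_le_of_eq ?_ (Nat.card_fin 2)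
      refine Nat.card_le_card_of_injective (fun x : {x : ↥(S : Subgroup G) // x ^ 2 = 1} =>
        if (x : ↥(S : Subgroup G)) = 1 then (0 : Fin 2) else 1) ?_
      intro a b hab
      refine Subtype.ext (Subtype.ext ?_)
      by_cases ha : (a : ↥(S : Subgroup G)) = 1 <;> by_cases hb : (b : ↥(S : Subgroup G)) = 1
      · rw [ha, hb]
      · simp [ha, hb] at hab
      · simp [ha, hb] at hab
      · refine htwo _ _ (a : ↥(S : Subgroup G)).2 (b : ↥(S : Subgroup G)).2 ?_ ?_
        · rw [Subgroup.orderOf_coe]; exact orderOf_eq_prime a.2 ha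
        · rw [Subgroup.orderOf_coe]; exact orderOf_eq_prime b.2 hb
    rcases CfsgLib.FrobRealize.Quaternion.cyclic_or_quaternion S.2 hfew with hc | ⟨-, n, ⟨e⟩⟩
    · haveI := hc
      haveI : IsCyclic ↥Q := Subgroup.isCyclic_of_le hQS
      letI := IsCyclic.commGroup (α := ↥Q)
      obtain ⟨x, y, hxy⟩ := hnc
      exact hxy (mul_comm x y)
    have hn : 1 ≤ n := by
      by_contra hn
      obtain rfl : n = 0 := by omega
      have h1 := Subgroup.card_le_of_le hQS
      rw [hQ8, Nat.card_congr e.toEquiv, Nat.card_eq_fintype_card, QuaternionGroup.card] at h1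
      omega
    obtain ⟨n, rfl⟩ : ∃ n', n = n' + 1 := ⟨n - 1, by omega⟩
    obtain ⟨⟨u, huS⟩, huo⟩ := exists_prime_orderOf_dvd_card' (p := 2) (G := ↥(S : Subgroup G)) (by
      rw [Nat.card_congr e.toEquiv, Nat.card_eq_fintype_card, QuaternionGroup.card]
      exact dvd_mul_of_dvd_left ⟨2, rfl⟩ _)
    rw [Subgroup.orderOf_mk] at huo
    have hu := CfsgLib.BrauerSuzuki.involution_mem_center S n e (fun M hM hoddM => by
      rcases hM.eq_bot_or_eq_top with e | e
      · exact e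
      · exfalso
        subst e
        rw [card_top] at hoddM
        exact hns (h.isSolvable_of_odd hoddM)) huo
    rcases (inferInstance : (center G).Normal).eq_bot_or_eq_top with e | e
    · rw [e, mem_bot] at hu
      rw [hu, orderOf_one] at huo
      omega
    · exact hns (Group.isSolvable_of_comm fun a b =>
        mem_center_iff.1 (e ▸ mem_top b : b ∈ center G) a)
  rcases Cfsg.Agent.S3224.result S.2 ⟨v, hvS⟩ (by rw [Subgroup.orderOf_mk]; exact hvo)
      (by rw [card_centralizer_mk]; exact h4) with ⟨m, ⟨e⟩⟩ | hq | hS4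
  · refine Or.inl ⟨m, ?_, ⟨e⟩⟩
    have h1 : 4 ≤ Nat.card ↥(S : Subgroup G) := h4 ▸ Subgroup.card_le_of_le inf_le_left
    rw [Nat.card_congr e.toEquiv, DihedralGroup.nat_card] at h1
    omega
  · exact Or.inr hq
  · refine Or.inl ⟨2, le_rfl, ?_⟩
    haveI : IsKleinFour ↥(S : Subgroup G) := ⟨hS4, by
      have hne1 : Monoid.exponent ↥(S : Subgroup G) ∣ 2 := by
        refine Monoid.exponent_dvd_of_forall_pow_eq_one fun a => ?_
        have hnc : ¬ IsCyclic ↥(S : Subgroup G) := fun hc => by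
          have h1 := mem_zpowers_of_pow_eq_one_of_le hzS hvS
            (by rw [hzo, ← hvo, pow_orderOf_eq_one])
          obtain ⟨l, hl⟩ := mem_zpowers_iff.1 h1
          have hz2 : z ^ (2 : ℕ) = 1 := hzo ▸ pow_orderOf_eq_one z
          rcases Int.even_or_odd l with ⟨i, rfl⟩ | ⟨i, rfl⟩
          · rw [← two_mul, zpow_mul, zpow_ofNat, hz2, one_zpow] at hl
            rw [← hl, orderOf_one] at hvo; omega
          · rw [zpow_add, zpow_mul, zpow_ofNat, hz2, one_zpow, one_mul, zpow_one] at hl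
            exact hzv hl
        have hdvd : orderOf a ∣ 2 ^ 2 := by
          rw [show (2 : ℕ) ^ 2 = Nat.card ↥(S : Subgroup G) by omega]
          exact orderOf_dvd_natCard a
        obtain ⟨j, hj, hjc⟩ := (Nat.dvd_prime_pow Nat.prime_two).1 hdvd
        rw [← orderOf_dvd_iff_pow_eq_one, hjc]
        have hj2 : j ≠ 2 := fun e => hnc (isCyclic_of_orderOf_eq_card a (by rw [hjc, e, hS4]; norm_num))
        exact (Nat.pow_dvd_pow 2 (show j ≤ 1 by omega)).trans (by norm_num)
      refine ((Nat.dvd_prime Nat.prime_two).1 hne1).resolve_left fun e => ?_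
      have := Monoid.exp_eq_one_iff.1 e
      have := Finite.card_le_one_iff_subsingleton.2 this
      omega⟩
    exact IsKleinFour.nonempty_mulEquiv

end CfsgLib.AlmostCyclic
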